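import Groth.Agent.Lib.SMT.Leading
import Mathlib.RingTheory.Ideal.Quotient.Operations
import Mathlib.LinearAlgebra.Finsupp.LinearCombination
import Mathlib.Algebra.MvPolynomial.Funext

/-!
# The standard monomial theorem

For a predicate `q` on indices and a pattern `p` of surviving variables which is compatible
(`Compat`), `plD K q` (shuffle relations plus variables outside `q`) is the kernel of `phi K p`,
and the standard monomials supported in `q` are a basis modulo it.
-/

universe u

noncomputable section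

open MvPolynomial W4bk4grassmannian Finset

namespace GrothLib.SMT

variable (K : Type u) [CommRing K] {d n : ℕ}

/-- Shuffle relations together with the variables outside `q`. -/
def plD (q : Idx d n → Prop) : Ideal (PlRing K d n) :=
  plIdealTop (d := d) (n := n) K ⊔ Ideal.span {f | ∃ φ, ¬ q φ ∧ f = X φ}

theorem plIdeal_eq_plD (τ : Idx d n) : plIdeal K τ = plD K (· ≤ τ) := by
  rw [plIdeal, plD, plIdealTop, Ideal.span_union]

theorem plIdealTop_le_plD (q : Idx d n → Prop) : plIdealTop (d := d) (n := n) K ≤ plD K q :=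
  le_sup_left

theorem X_mem_plD {q : Idx d n → Prop} {φ : Idx d n} (h : ¬ q φ) : X φ ∈ plD K q :=
  Ideal.mem_sup_right (Ideal.subset_span ⟨φ, h, rfl⟩)

theorem mon_mem_plD {q : Idx d n → Prop} {s : Multiset (Idx d n)} (h : ∃ φ ∈ s, ¬ q φ) :
    mon K s ∈ plD K q := by
  obtain ⟨φ, hφ, hq⟩ := h
  obtain ⟨t, rfl⟩ := Multiset.exists_cons_of_mem hφ
  rw [mon_cons]
  exact Ideal.mul_mem_right _ _ (X_mem_plD K hq)

theorem plD_anti {q q' : Idx d n → Prop} (h : ∀ θ, q θ → q' θ) : plD K q' ≤ plD K q :=
  sup_le_sup_left (Ideal.span_mono (s := {f | ∃ φ, ¬ q' φ ∧ f = X φ})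
    (t := {f | ∃ φ, ¬ q φ ∧ f = X φ}) fun _ ⟨φ, hφ, e⟩ => ⟨φ, fun h' => hφ (h φ h'), e⟩) _

/-- A standard monomial supported in `q`. -/
def IsStdOn (q : Idx d n → Prop) (s : Multiset (Idx d n)) : Prop := IsStd s ∧ ∀ θ ∈ s, q θ

/-- Standard monomials span modulo `plD K q`. -/
theorem plD_sup_span_std (q : Idx d n → Prop) :
    (plD K q).restrictScalars K ⊔
      Submodule.span K {f | ∃ s, IsStdOn q s ∧ f = mon K s} = ⊤ := by
  rw [eq_top_iff]
  intro f _
  induction f using MvPolynomial.induction_on' with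
  | add a b ha hb => exact Submodule.add_mem _ (ha trivial) (hb trivial)
  | monomial v c =>
    rw [show monomial v c = c • (monomial v (1 : K) : PlRing K d n) by
      rw [smul_monomial, smul_eq_mul, mul_one]]
    refine Submodule.smul_mem _ _ ?_
    rw [monomial_eq_mon]
    refine (sup_le (a := (plIdealTop (d := d) (n := n) K).restrictScalars K) ?_ ?_)
      (mon_mem_span_std K _)
    · exact le_sup_of_le_left ((Submodule.restrictScalars_le K).2 (plIdealTop_le_plD K q))
    · rw [Submodule.span_le]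
      rintro g ⟨t, ht, -, -, -, rfl⟩
      by_cases hq : ∀ θ ∈ t, q θ
      · exact Submodule.mem_sup_right (Submodule.subset_span ⟨t, ⟨ht, hq⟩, rfl⟩)
      · push Not at hq
        exact Submodule.mem_sup_left (mon_mem_plD K hq)

/-- Index type of standard monomials on `q`. -/
abbrev StdM (q : Idx d n → Prop) : Type := {s : Multiset (Idx d n) // IsStdOn q s}

theorem exists_std_expansion (q : Idx d n → Prop) (f : PlRing K d n) :
    ∃ l : StdM q →₀ K, f - Finsupp.linearCombination K (fun s => mon K s.1) l ∈ plD K q := by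
  have : f ∈ (plD K q).restrictScalars K ⊔ Submodule.span K {f | ∃ s, IsStdOn q s ∧ f = mon K s} :=
    plD_sup_span_std K q ▸ Submodule.mem_top
  obtain ⟨a, ha, b, hb, rfl⟩ := Submodule.mem_sup.1 this
  have hset : {f | ∃ s, IsStdOn q s ∧ f = mon K s} = Set.range (fun s : StdM q => mon K s.1) := by
    ext g
    exact ⟨fun ⟨s, hs, e⟩ => ⟨⟨s, hs⟩, e.symm⟩, fun ⟨s, e⟩ => ⟨s.1, s.2, e.symm⟩⟩
  rw [hset] at hb
  obtain ⟨l, rfl⟩ := (Finsupp.mem_span_range_iff_exists_finsupp).1 hb
  exact ⟨l, by simpa [Finsupp.linearCombination_apply] using ha⟩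

/-- The pattern `p` is compatible with `q`: minors outside `q` die, diagonals inside survive. -/
structure Compat (q : Idx d n → Prop) (p : Fin n → Fin d → Prop) : Prop where
  zero : ∀ θ, ¬ q θ → ∀ σ : Equiv.Perm (Fin d), ∃ t, ¬ p (θ.1 t) (σ t)
  diag : ∀ θ, q θ → ∀ t, p (θ.1 t) t

theorem compat_true : Compat (fun _ : Idx d n => True) (fun _ _ => True) :=
  ⟨fun _ h => absurd trivial h, fun _ _ _ => trivial⟩

theorem exists_bad_hi {θ τ : Idx d n} (h : ¬ θ ≤ τ) (σ : Equiv.Perm (Fin d)) :
    ∃ t, ¬ θ.1 t ≤ τ.1 (σ t) := by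
  obtain ⟨t0, ht0⟩ : ∃ t, τ.1 t < θ.1 t := by
    by_contra hc; push Not at hc; exact h hc
  by_contra hc
  push Not at hc
  have hsub : (Finset.Ici t0).image σ ⊆ Finset.Ioi t0 := by
    intro c hc'
    obtain ⟨s, hs, rfl⟩ := mem_image.1 hc'
    rw [mem_Ioi]
    by_contra hle
    push Not at hle
    exact absurd ((τ.2.monotone hle).trans_lt ht0)
      (not_lt.2 ((θ.2.monotone (mem_Ici.1 hs)).trans (hc s)))
  have := card_le_card hsub
  rw [card_image_of_injective _ σ.injective, Fin.card_Ici, Fin.card_Ioi] at this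
  omega

theorem exists_bad_lo {θ γ : Idx d n} (h : ¬ γ ≤ θ) (σ : Equiv.Perm (Fin d)) :
    ∃ t, ¬ γ.1 (σ t) ≤ θ.1 t := by
  obtain ⟨t, ht⟩ := exists_bad_hi h σ⁻¹
  exact ⟨σ⁻¹ t, by simpa using ht⟩

theorem compat_le (τ : Idx d n) : Compat (· ≤ τ) (fun i t => i ≤ τ.1 t) :=
  ⟨fun _ h σ => exists_bad_hi h σ, fun _ h t => h t⟩

theorem compat_interval (γ τ : Idx d n) :
    Compat (fun θ => γ ≤ θ ∧ θ ≤ τ) (fun i t => γ.1 t ≤ i ∧ i ≤ τ.1 t) := by
  refine ⟨fun θ h σ => ?_, fun θ h t => ⟨h.1 t, h.2 t⟩⟩
  by_cases h1 : γ ≤ θ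
  · obtain ⟨t, ht⟩ := exists_bad_hi (fun h2 => h ⟨h1, h2⟩) σ
    exact ⟨t, fun e => ht e.2⟩
  · obtain ⟨t, ht⟩ := exists_bad_lo h1 σ
    exact ⟨t, fun e => ht e.1⟩

variable {K}

theorem Compat.phi_X_eq_zero {q : Idx d n → Prop} {p : Fin n → Fin d → Prop} (h : Compat q p)
    {θ : Idx d n} (hθ : ¬ q θ) : phi K p (X θ) = 0 := by
  classical
  rw [phi_X, trunc_minor]
  refine sum_eq_zero fun σ _ => ?_
  obtain ⟨t, ht⟩ := h.zero θ hθ σ
  rw [if_neg (fun hall => ht (hall t)), mul_zero]

theorem plIdealTop_le_ker_phi (p : Fin n → Fin d → Prop) :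
    plIdealTop (d := d) (n := n) K ≤ RingHom.ker (phi K p).toRingHom := by
  rw [plIdealTop, Ideal.span_le]
  rintro f ⟨i, j, r, -, rfl⟩
  show phi K p _ = 0
  simp [phi, pluckerMap_shuffleRel]

theorem Compat.plD_le_ker {q : Idx d n → Prop} {p : Fin n → Fin d → Prop} (h : Compat q p) :
    plD K q ≤ RingHom.ker (phi K p).toRingHom := by
  refine sup_le (plIdealTop_le_ker_phi p) (Ideal.span_le.2 ?_)
  rintro f ⟨φ, hφ, rfl⟩
  exact h.phi_X_eq_zero hφ

theorem Compat.linearIndependent {q : Idx d n → Prop} {p : Fin n → Fin d → Prop} (h : Compat q p)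
    (hd : 0 < d) : LinearIndependent K (fun s : StdM q => phi K p (mon K s.1)) := by
  nontriviality K
  have hm := fun s : StdM q => phi_mon_monic K p (s := s.1) (fun θ hθ => h.diag θ (s.2.2 θ hθ))
  refine linearIndependent_of_monic (diagOrd d n) _ (fun s => (hm s).2) fun s t hst => ?_
  simp only [(hm s).1, (hm t).1] at hst
  exact Subtype.ext (expo_injOn hd s.2.1 t.2.1 hst)

theorem Compat.ker_phi {q : Idx d n → Prop} {p : Fin n → Fin d → Prop} (h : Compat q p)
    (hd : 0 < d) : RingHom.ker (phi K p).toRingHom = plD K q := by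
  refine le_antisymm (fun f hf => ?_) h.plD_le_ker
  obtain ⟨l, hl⟩ := exists_std_expansion K q f
  have h0 : phi K p (Finsupp.linearCombination K (fun s : StdM q => mon K s.1) l) = 0 := by
    have h1 : phi K p (f - Finsupp.linearCombination K (fun s : StdM q => mon K s.1) l) = 0 :=
      h.plD_le_ker hl
    have hf' : phi K p f = 0 := hf
    rw [map_sub, hf', zero_sub, neg_eq_zero] at h1
    exact h1
  have hlz : l = 0 := by
    refine linearIndependent_iff.1 (h.linearIndependent hd) l ?_
    rw [← h0, Finsupp.linearCombination_apply, Finsupp.linearCombination_apply, map_finsuppSum]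
    simp [map_smul]
  simpa [hlz] using hl

theorem Compat.eq_zero_of_mem {q : Idx d n → Prop} {p : Fin n → Fin d → Prop} (h : Compat q p)
    (hd : 0 < d) {l : StdM q →₀ K}
    (hl : Finsupp.linearCombination K (fun s : StdM q => mon K s.1) l ∈ plD K q) : l = 0 := by
  refine linearIndependent_iff.1 (h.linearIndependent hd) l ?_
  have : phi K p (Finsupp.linearCombination K (fun s : StdM q => mon K s.1) l) = 0 :=
    h.plD_le_ker hl
  rw [← this, Finsupp.linearCombination_apply, Finsupp.linearCombination_apply, map_finsuppSum]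
  simp [map_smul]

/-- The standard monomials on `q` as a basis of the quotient. -/
def Compat.basis {q : Idx d n → Prop} {p : Fin n → Fin d → Prop} (h : Compat q p) (hd : 0 < d) :
    Module.Basis (StdM q) K (PlRing K d n ⧸ plD K q) :=
  Module.Basis.mk (v := fun s : StdM q => Ideal.Quotient.mk (plD K q) (mon K s.1))
    (by
      rw [linearIndependent_iff]
      intro l hl
      refine h.eq_zero_of_mem hd (Ideal.Quotient.eq_zero_iff_mem.1 ?_)
      rw [← hl, Finsupp.linearCombination_apply, Finsupp.linearCombination_apply, map_finsuppSum]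
      rfl)
    (fun x _ => by
      obtain ⟨f, rfl⟩ := Ideal.Quotient.mk_surjective x
      obtain ⟨l, hl⟩ := exists_std_expansion K q f
      rw [(Ideal.Quotient.mk_eq_mk_iff_sub_mem _ _).mpr hl, Finsupp.linearCombination_apply,
        map_finsuppSum]
      refine Submodule.sum_mem _ fun s _ => ?_
      exact Submodule.smul_mem _ (l s) (Submodule.subset_span (Set.mem_range_self (f := fun s : StdM q => Ideal.Quotient.mk (plD K q) (mon K s.1)) s)))

theorem Compat.basis_apply {q : Idx d n → Prop} {p : Fin n → Fin d → Prop} (h : Compat q p)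
    (hd : 0 < d) (s : StdM q) : h.basis hd s = Ideal.Quotient.mk (plD K q) (mon K s.1) := by
  simp [Compat.basis]

/-- Over a domain the ideal is prime. -/
theorem Compat.isPrime [IsDomain K] {q : Idx d n → Prop} {p : Fin n → Fin d → Prop}
    (h : Compat q p) (hd : 0 < d) : (plD K q).IsPrime :=
  by rw [← h.ker_phi (K := K) hd]; exact RingHom.ker_isPrime _

theorem eval_trunc (p : Fin n → Fin d → Prop) [DecidableRel p] (A : Matrix (Fin n) (Fin d) K)
    (f : MatRing K d n) :
    MvPolynomial.eval (fun x => A x.1 x.2) (trunc K p f) =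
      MvPolynomial.eval (fun x => if p x.1 x.2 then A x.1 x.2 else 0) f := by
  have : ((MvPolynomial.aeval fun x : Fin n × Fin d => A x.1 x.2).comp (trunc K p)) =
      MvPolynomial.aeval fun x : Fin n × Fin d => if p x.1 x.2 then A x.1 x.2 else 0 := by
    apply MvPolynomial.algHom_ext
    intro x
    by_cases hx : p x.1 x.2 <;> simp [trunc, hx]
  simpa [MvPolynomial.aeval_eq_eval] using DFunLike.congr_fun this f

theorem eval_pluckerMap (A : Matrix (Fin n) (Fin d) K) (f : PlRing K d n) :
    MvPolynomial.eval (fun x => A x.1 x.2) (pluckerMap K d n f) = evalMinors K d n A f := by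
  have : ((MvPolynomial.aeval fun x : Fin n × Fin d => A x.1 x.2).comp (pluckerMap K d n)) =
      evalMinors K d n A := by
    apply MvPolynomial.algHom_ext
    intro θ
    simp only [AlgHom.comp_apply, pluckerMap_X, evalMinors, MvPolynomial.aeval_X, W4bk4grassmannian.minor]
    rw [AlgHom.map_det]
    congr 1
    ext s t
    simp
  simpa [MvPolynomial.aeval_eq_eval] using DFunLike.congr_fun this f

theorem schubertVanishing_eq [IsDomain K] [Infinite K] (hd : 0 < d) (τ : Idx d n) :
    schubertVanishing K d n τ = plD K (· ≤ τ) := by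
  classical
  refine le_antisymm ?_ ?_
  · rw [← (compat_le τ).ker_phi hd]
    intro f hf
    simp only [schubertVanishing, Submodule.mem_iInf] at hf
    show phi K _ f = 0
    refine MvPolynomial.funext fun a => ?_
    let A : Matrix (Fin n) (Fin d) K := Matrix.of fun i t => if i ≤ τ.1 t then a (i, t) else 0
    have hA : ∀ φ : Idx d n, ¬ φ ≤ τ → (A.submatrix φ.1 id).det = 0 := by
      intro φ hφ
      rw [Matrix.det_apply']
      refine sum_eq_zero fun σ _ => ?_
      obtain ⟨t, ht⟩ := exists_bad_hi hφ σ⁻¹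
      rw [prod_eq_zero (mem_univ (σ⁻¹ t)), mul_zero]
      simp only [Matrix.submatrix_apply, id, A, Matrix.of_apply, Equiv.Perm.coe_inv, Equiv.apply_symm_apply] at ht ⊢
      rw [if_neg ht]
    have h2 : evalMinors K d n A f = 0 := hf A hA
    rw [map_zero, phi, AlgHom.comp_apply, show a = fun x : Fin n × Fin d =>
      (Matrix.of fun i t => a (i, t)) x.1 x.2 from rfl, eval_trunc]
    exact (eval_pluckerMap A f).trans h2
  · refine le_iInf₂ fun A hA => sup_le ?_ (Ideal.span_le.2 ?_)
    · rw [plIdealTop, Ideal.span_le]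
      rintro f ⟨i, j, r, -, rfl⟩
      show evalMinors K d n A _ = 0
      rw [← eval_pluckerMap, pluckerMap_shuffleRel, map_zero]
    · rintro f ⟨φ, hφ, rfl⟩
      show evalMinors K d n A (X φ) = 0
      simpa [evalMinors] using hA φ hφ

theorem vanishing_eq [IsDomain K] [Infinite K] (hd : 0 < d) :
    vanishing K d n = plIdealTop (d := d) (n := n) K := by
  have htop : plD K (fun _ : Idx d n => True) = plIdealTop (d := d) (n := n) K := by
    rw [plD, sup_eq_left, Ideal.span_le]
    rintro f ⟨φ, hφ, -⟩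
    exact absurd trivial hφ
  refine le_antisymm ?_ (le_iInf fun A => ?_)
  · rw [← htop, ← compat_true.ker_phi hd]
    intro f hf
    simp only [vanishing, Submodule.mem_iInf] at hf
    show phi K _ f = 0
    refine MvPolynomial.funext fun a => ?_
    simp only [map_zero, phi, trunc_true, AlgHom.comp_apply, AlgHom.id_apply]
    exact (eval_pluckerMap (Matrix.of fun i t => a (i, t)) f).trans (hf _)
  · rw [plIdealTop, Ideal.span_le]
    rintro f ⟨i, j, r, -, rfl⟩
    show evalMinors K d n A _ = 0
    rw [← eval_pluckerMap, pluckerMap_shuffleRel, map_zero]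

end GrothLib.SMT
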