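import Groth.Agent.Lib.SMT.Basis
import Mathlib.Data.Fin.Tuple.Basic

/-!
# Chains as antitone tuples
-/

universe u

noncomputable section

open MvPolynomial W4bk4grassmannian Finset

namespace GrothLib.SMT

variable {d n : ℕ}

theorem isStd_map_of_antitone {m : ℕ} {c : Fin m → Idx d n} (hc : Antitone c) :
    IsStd ((univ : Finset (Fin m)).val.map c) := by
  intro a ha b hb
  obtain ⟨x, -, rfl⟩ := Multiset.mem_map.1 ha
  obtain ⟨y, -, rfl⟩ := Multiset.mem_map.1 hb
  rcases le_total x y with h | h
  · exact Or.inr (hc h)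
  · exact Or.inl (hc h)

theorem IsStd.exists_antitone {s : Multiset (Idx d n)} (hs : IsStd s) :
    ∃ c : Fin s.card → Idx d n, Antitone c ∧ (univ : Finset (Fin s.card)).val.map c = s := by
  suffices ∀ m, ∀ s : Multiset (Idx d n), IsStd s → s.card = m →
      ∃ c : Fin m → Idx d n, Antitone c ∧ (univ : Finset (Fin m)).val.map c = s from
    this s.card s hs rfl
  intro m
  induction m with
  | zero =>
    intro s _ h
    exact ⟨Fin.elim0, fun x => x.elim0, by simp [Multiset.card_eq_zero.1 h]⟩
  | succ m ih =>
    intro s hs h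
    obtain ⟨θ, hθ, hmax⟩ := hs.exists_top (fun e => by simp [e] at h)
    obtain ⟨s', rfl⟩ := Multiset.exists_cons_of_mem hθ
    obtain ⟨c, hc, he⟩ := ih s' (hs.mono (Multiset.subset_cons _ _)) (by simpa using h)
    refine ⟨Fin.cons θ c, ?_, ?_⟩
    · intro x y hxy
      cases x using Fin.cases with
      | zero =>
        rw [Fin.cons_zero]
        cases y using Fin.cases with
        | zero => rw [Fin.cons_zero]
        | succ y =>
          rw [Fin.cons_succ]
          exact hmax _ (Multiset.mem_cons_of_mem (he ▸ Multiset.mem_map_of_mem c (Finset.mem_univ y)))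
      | succ x =>
        cases y using Fin.cases with
        | zero => exact absurd hxy (not_le.2 (Fin.succ_pos x))
        | succ y => simpa using hc (Fin.succ_le_succ_iff.1 hxy)
    · rw [Fin.univ_succ]
      simp only [cons_val, Multiset.map_cons, Fin.cons_zero, map_val, Multiset.map_map]
      rw [← he]
      simp [Function.comp_def]

theorem antitone_eq_of_map_eq {m : ℕ} {c c' : Fin m → Idx d n} (hc : Antitone c) (hc' : Antitone c')
    (h : (univ : Finset (Fin m)).val.map c = (univ : Finset (Fin m)).val.map c') : c = c' := by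
  induction m with
  | zero => funext x; exact x.elim0
  | succ m ih =>
    have h0 : c 0 = c' 0 := by
      have h1 : c 0 ∈ (univ : Finset (Fin (m + 1))).val.map c' :=
        h ▸ Multiset.mem_map_of_mem c (Finset.mem_univ (0 : Fin (m + 1)))
      have h2 : c' 0 ∈ (univ : Finset (Fin (m + 1))).val.map c :=
        h.symm ▸ Multiset.mem_map_of_mem c' (Finset.mem_univ (0 : Fin (m + 1)))
      obtain ⟨x, -, hx⟩ := Multiset.mem_map.1 h1
      obtain ⟨y, -, hy⟩ := Multiset.mem_map.1 h2
      exact le_antisymm (hx ▸ hc' (Fin.zero_le x)) (hy ▸ hc (Fin.zero_le y))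
    have h' : (univ : Finset (Fin m)).val.map (c ∘ Fin.succ) =
        (univ : Finset (Fin m)).val.map (c' ∘ Fin.succ) := by
      rw [Fin.univ_succ] at h
      simp only [cons_val, Multiset.map_cons, map_val, Multiset.map_map, h0] at h
      exact (Multiset.cons_inj_right _).1 h
    have := ih (fun _ _ hh => hc (Fin.succ_le_succ_iff.2 hh))
      (fun _ _ hh => hc' (Fin.succ_le_succ_iff.2 hh)) h'
    funext x
    cases x using Fin.cases with
    | zero => exact h0
    | succ x => exact congrFun this x

/-- The multiset of a tuple with an index for the length. -/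
def tupleMs {P : ∀ m, (Fin m → Idx d n) → Prop}
    (c : Σ m : ℕ, {c : Fin m → Idx d n // P m c}) : Multiset (Idx d n) :=
  (univ : Finset (Fin c.1)).val.map c.2.1

theorem tupleMs_injective {P : ∀ m, (Fin m → Idx d n) → Prop} (hP : ∀ m c, P m c → Antitone c) :
    Function.Injective (tupleMs (P := P)) := by
  rintro ⟨m, c, hc⟩ ⟨m', c', hc'⟩ h
  obtain rfl : m = m' := by simpa [tupleMs] using congrArg Multiset.card h
  obtain rfl := antitone_eq_of_map_eq (hP m c hc) (hP m c' hc') h
  rfl

end GrothLib.SMT
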