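import Groth.Agent.Lib.SMT.DetThm
import Groth.Agent.Lib.SMT.Enum
import Mathlib.Algebra.MvPolynomial.Rename

/-!
# Standard bitableaux

`minorTheta M`: the index of the minor with reversed rows; it turns `MinorGE` into the order of
indices.  `det_basis_spec`: chains avoiding the bottom index give a basis of a determinantal ring.
-/

universe u

noncomputable section

open MvPolynomial W4bk4grassmannian Finset

namespace GrothLib.SMT

/-- Prefix counts compare exactly as the leading entries. -/
theorem count_le_iff {a a' N : ℕ} {f : Fin a → Fin N} {f' : Fin a' → Fin N} (hf : StrictMono f)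
    (hf' : StrictMono f') :
    (∀ x ≤ N, (univ.filter fun k => (f k).val < x).card ≤ (univ.filter fun k => (f' k).val < x).card) ↔
      a ≤ a' ∧ ∀ (j : Fin a) (j' : Fin a'), j.val = j'.val → f' j' ≤ f j := by
  classical
  constructor
  · intro h
    refine ⟨by simpa using h N le_rfl, fun j j' hj => ?_⟩
    by_contra hc
    have h1 := h ((f j).val + 1) (f j).isLt
    have h2 : Iic j ⊆ univ.filter fun k => (f k).val < (f j).val + 1 := fun k hk => by
      simp only [mem_filter, mem_univ, true_and]
      exact Nat.lt_succ_of_le (Fin.le_def.1 (hf.monotone (mem_Iic.1 hk)))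
    have h3 : (univ.filter fun k => (f' k).val < (f j).val + 1) ⊆ Iio j' := fun k hk => by
      simp only [mem_filter, mem_univ, true_and] at hk
      rw [mem_Iio]
      by_contra hle
      have := Fin.le_def.1 (hf'.monotone (not_lt.1 hle))
      rw [not_le, Fin.lt_def] at hc
      omega
    have h4 := card_le_card h2
    have h5 := card_le_card h3
    rw [Fin.card_Iic] at h4
    rw [Fin.card_Iio] at h5
    omega
  · rintro ⟨hle, h⟩ x -
    refine card_le_card_of_injOn (Fin.castLE hle) (fun k hk => ?_) (Fin.castLE_injective hle).injOn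
    simp only [coe_filter, mem_univ, true_and, Set.mem_ofPred_eq] at hk ⊢
    exact lt_of_le_of_lt (Fin.le_def.1 (h k (Fin.castLE hle k) rfl)) hk

theorem idx_le_iff_count {d n : ℕ} (θ φ : Idx d n) :
    θ ≤ φ ↔ ∀ x ≤ n, (univ.filter fun k => (φ.1 k).val < x).card ≤
      (univ.filter fun k => (θ.1 k).val < x).card := by
  rw [count_le_iff φ.2 θ.2]
  exact ⟨fun h => ⟨le_rfl, fun j j' e => by obtain rfl := Fin.ext e; exact h j⟩,
    fun h t => h.2 t t rfl⟩

variable {d r : ℕ}

theorem count_cellIdx {a : ℕ} {f : Fin a → Fin r} {g : Fin a → Fin d} (hf : Function.Injective f)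
    (hg : Function.Injective g) (x : ℕ) :
    (univ.filter fun c => ((cellIdx f g hf hg).1 c).val < x).card +
        (univ.filter fun k => (g k).val < x).card =
      (univ.filter fun c : Fin d => c.val < x).card + (univ.filter fun k => d + (f k).val < x).card := by
  classical
  simp only [card_filter]
  have h1 : ∑ c, (if ((cellIdx f g hf hg).1 c).val < x then 1 else 0) =
      ∑ c, (if (cellRows f g c).val < x then 1 else 0) :=
    sum_sortIdx (cellRows f g) _ (fun y => if y.val < x then 1 else 0)
  rw [h1, ← sum_add_sum_compl (univ.image g) (fun c => if (cellRows f g c).val < x then 1 else 0),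
    ← sum_add_sum_compl (univ.image g) (fun c : Fin d => if c.val < x then 1 else 0),
    sum_image hg.injOn, sum_image hg.injOn]
  have h2 : ∑ c ∈ (univ.image g)ᶜ, (if (cellRows f g c).val < x then 1 else 0) =
      ∑ c ∈ (univ.image g)ᶜ, (if c.val < x then 1 else 0) := by
    refine sum_congr rfl fun c hc => ?_
    rw [cellRows_apply_not f (fun k e => (mem_compl.1 hc) (mem_image.2 ⟨k, mem_univ _, e⟩)),
      Fin.val_castAdd]
  have h3 : ∑ k, (if (cellRows f g (g k)).val < x then 1 else 0) =
      ∑ k, (if d + (f k).val < x then 1 else 0) :=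
    sum_congr rfl fun k _ => by rw [cellRows_apply f hg]; rfl
  rw [h2, h3]
  omega

variable {m n : ℕ}

theorem rev_injective (M : MinorIdx m n) : Function.Injective fun k => Fin.rev (M.2.1.1 k) :=
  Fin.rev_injective.comp M.2.1.2.injective

/-- The Plücker index of a minor, rows reversed. -/
def minorTheta (M : MinorIdx m n) : Idx n (n + m) :=
  cellIdx (fun k => Fin.rev (M.2.1.1 k)) M.2.2.1 (rev_injective M) M.2.2.2.injective

theorem low_minorTheta (M : MinorIdx m n) : low (minorTheta M) = M.1 + 1 :=
  card_low_cellIdx _ _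

theorem minorGE_iff (M M' : MinorIdx m n) : MinorGE M M' ↔ minorTheta M ≤ minorTheta M' := by
  classical
  have key : ∀ (N : MinorIdx m n) (y : ℕ), y ≤ m →
      (univ.filter fun k => n + (Fin.rev (N.2.1.1 k)).val < n + y).card +
        (univ.filter fun k => (N.2.1.1 k).val < m - y).card = N.1 + 1 := by
    intro N y hy
    have : (univ.filter fun k => n + (Fin.rev (N.2.1.1 k)).val < n + y) =
        (univ.filter fun k => ¬ (N.2.1.1 k).val < m - y) := by
      refine filter_congr fun k _ => ?_
      rw [Fin.val_rev]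
      omega
    rw [this, add_comm, card_filter_add_card_filter_not, card_univ, Fintype.card_fin]
  have fulld : ∀ x, n ≤ x → (univ.filter fun c : Fin n => c.val < x).card = n := fun x hx => by
    rw [filter_true_of_mem fun c _ => c.isLt.trans_le hx, card_univ, Fintype.card_fin]
  have fullg : ∀ (N : MinorIdx m n) x, n ≤ x →
      (univ.filter fun k => (N.2.2.1 k).val < x).card = N.1 + 1 := fun N x hx => by
    rw [filter_true_of_mem fun k _ => (N.2.2.1 k).isLt.trans_le hx, card_univ, Fintype.card_fin]
  rw [idx_le_iff_count]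
  have hA := count_le_iff M.2.1.2 M'.2.1.2
  have hB := count_le_iff M.2.2.2 M'.2.2.2
  constructor
  · rintro ⟨hs, h⟩ x hx
    have hA' := hA.2 ⟨by omega, fun j j' e => (h j j' e).1⟩
    have hB' := hB.2 ⟨by omega, fun j j' e => (h j j' e).2⟩
    have e1 := count_cellIdx (rev_injective M) M.2.2.2.injective x
    have e2 := count_cellIdx (rev_injective M') M'.2.2.2.injective x
    unfold minorTheta
    rcases le_total x n with hxn | hxn
    · have h0 : ∀ N : MinorIdx m n,
          (univ.filter fun k => n + (Fin.rev (N.2.1.1 k)).val < x).card = 0 := fun N => by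
        rw [filter_false_of_mem fun k _ => by omega, card_empty]
      have := hB' x hxn
      rw [h0] at e1 e2
      omega
    · obtain ⟨y, rfl⟩ := Nat.exists_eq_add_of_le hxn
      have k1 := key M y (by omega)
      have k2 := key M' y (by omega)
      have := hA' (m - y) (Nat.sub_le _ _)
      rw [fulld _ hxn, fullg _ _ hxn] at e1 e2
      omega
  · intro h
    have hB' : ∀ x ≤ n, (univ.filter fun k => (M.2.2.1 k).val < x).card ≤
        (univ.filter fun k => (M'.2.2.1 k).val < x).card := by
      intro x hx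
      have h1 := h x (by omega)
      have e1 := count_cellIdx (rev_injective M) M.2.2.2.injective x
      have e2 := count_cellIdx (rev_injective M') M'.2.2.2.injective x
      unfold minorTheta at h1
      have h0 : ∀ N : MinorIdx m n,
          (univ.filter fun k => n + (Fin.rev (N.2.1.1 k)).val < x).card = 0 := fun N => by
        rw [filter_false_of_mem fun k _ => by omega, card_empty]
      rw [h0] at e1 e2
      omega
    have hA' : ∀ z ≤ m, (univ.filter fun k => (M.2.1.1 k).val < z).card ≤
        (univ.filter fun k => (M'.2.1.1 k).val < z).card := by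
      intro z hz
      have h1 := h (n + (m - z)) (by omega)
      have e1 := count_cellIdx (rev_injective M) M.2.2.2.injective (n + (m - z))
      have e2 := count_cellIdx (rev_injective M') M'.2.2.2.injective (n + (m - z))
      unfold minorTheta at h1
      have k1 := key M (m - z) (by omega)
      have k2 := key M' (m - z) (by omega)
      rw [show m - (m - z) = z from by omega] at k1 k2
      rw [fulld _ (by omega), fullg _ _ (by omega)] at e1 e2
      omega
    obtain ⟨hs, h1⟩ := hA.1 hA'
    obtain ⟨-, h2⟩ := hB.1 hB'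
    exact ⟨by omega, fun j j' e => ⟨h1 j j' e, h2 j j' e⟩⟩

theorem minorTheta_injective : Function.Injective (minorTheta (m := m) (n := n)) := by
  intro M M' h
  obtain ⟨h1, h2⟩ := (minorGE_iff M M').2 h.le
  obtain ⟨h3, h4⟩ := (minorGE_iff M' M).2 h.ge
  obtain ⟨s, A, B⟩ := M
  obtain ⟨s', A', B'⟩ := M'
  obtain rfl : s = s' := le_antisymm h1 h3
  obtain rfl : A = A' := Subtype.ext (funext fun j => le_antisymm (h4 j j rfl).1 (h2 j j rfl).1)
  obtain rfl : B = B' := Subtype.ext (funext fun j => le_antisymm (h4 j j rfl).2 (h2 j j rfl).2)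
  rfl

theorem exists_minorTheta (θ : Idx n (n + m)) (hθ : θ ≠ botIdx (n.le_add_right m)) :
    ∃ M : MinorIdx m n, minorTheta M = θ := by
  classical
  have hlow : low θ ≠ 0 := by
    intro h0
    rcases Nat.eq_zero_or_pos n with rfl | hn
    · exact hθ (Subtype.ext (funext fun t => t.elim0))
    refine hθ (eq_botIdx (n.le_add_right m) hn θ ?_)
    by_contra hc
    refine absurd h0 (Nat.ne_of_gt (card_pos.2 ⟨⟨n - 1, by omega⟩, mem_filter.2 ⟨mem_univ _, ?_⟩⟩))
    omega
  obtain ⟨s, hs⟩ : ∃ s, low θ = s + 1 := ⟨low θ - 1, by omega⟩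
  set Θ := univ.image θ.1
  let L : Finset (Fin m) := univ.filter fun i => Fin.natAdd n (Fin.rev i) ∈ Θ
  let B : Finset (Fin n) := univ.filter fun c => Fin.castAdd m c ∉ Θ
  have hL : L.card = s + 1 := by
    rw [← hs]
    unfold low
    symm
    refine card_bij (fun c hc => Fin.rev ⟨(θ.1 c).val - n, by
      have := (θ.1 c).isLt; have := (mem_filter.1 hc).2; omega⟩) ?_ ?_ ?_
    · intro c hc
      have := (mem_filter.1 hc).2
      simp only [L, mem_filter, mem_univ, true_and, Fin.rev_rev]
      refine mem_image.2 ⟨c, mem_univ _, Fin.ext ?_⟩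
      simp
      omega
    · intro a ha b hb hab
      have := (mem_filter.1 ha).2
      have := (mem_filter.1 hb).2
      have h1 := congrArg Fin.val (Fin.rev_injective hab)
      exact θ.2.injective (Fin.ext (by simp only [] at h1; omega))
    · intro i hi
      obtain ⟨c, -, hc⟩ := mem_image.1 (mem_filter.1 hi).2
      refine ⟨c, mem_filter.2 ⟨mem_univ _, by rw [hc]; simp⟩, ?_⟩
      apply Fin.rev_injective
      rw [Fin.rev_rev]
      apply Fin.ext
      simp [hc]
  have hB : B.card = s + 1 := by
    have h1 : (univ.filter fun c : Fin n => Fin.castAdd m c ∈ Θ).card =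
        (univ.filter fun c => ¬ n ≤ (θ.1 c).val).card := by
      symm
      refine card_bij (fun c hc => ⟨(θ.1 c).val, by have := (mem_filter.1 hc).2; omega⟩) ?_ ?_ ?_
      · intro c hc
        simp only [mem_filter, mem_univ, true_and]
        exact mem_image.2 ⟨c, mem_univ _, Fin.ext (by simp)⟩
      · intro a ha b hb hab
        exact θ.2.injective (Fin.ext (by simpa using congrArg Fin.val hab))
      · intro i hi
        obtain ⟨c, -, hc⟩ := mem_image.1 (mem_filter.1 hi).2
        exact ⟨c, mem_filter.2 ⟨mem_univ _, by rw [hc]; simp⟩, Fin.ext (by simp [hc])⟩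
    have h2 := card_filter_add_card_filter_not (s := (univ : Finset (Fin n)))
      fun c => Fin.castAdd m c ∈ Θ
    have h3 := card_filter_add_card_filter_not (s := (univ : Finset (Fin n))) fun c => n ≤ (θ.1 c).val
    unfold low at hs
    have h4 : B.card = (univ.filter fun c : Fin n => ¬ Fin.castAdd m c ∈ Θ).card := rfl
    omega
  let M : MinorIdx m n := ⟨s, ⟨L.orderEmbOfFin hL, (L.orderEmbOfFin hL).strictMono⟩,
    ⟨B.orderEmbOfFin hB, (B.orderEmbOfFin hB).strictMono⟩⟩
  refine ⟨M, ?_⟩
  have hf := rev_injective M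
  have hg := M.2.2.2.injective
  have himg : univ.image (cellRows (fun k => Fin.rev (M.2.1.1 k)) M.2.2.1) = Θ := by
    refine eq_of_subset_of_card_le (fun x hx => ?_) ?_
    · obtain ⟨c, -, rfl⟩ := mem_image.1 hx
      by_cases hc : ∃ k, M.2.2.1 k = c
      · obtain ⟨k, rfl⟩ := hc
        rw [cellRows_apply _ hg]
        exact (mem_filter.1 (L.orderEmbOfFin_mem hL k)).2
      · push Not at hc
        rw [cellRows_apply_not _ hc]
        by_contra hno
        have : c ∈ Set.range (B.orderEmbOfFin hB) := by
          rw [range_orderEmbOfFin]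
          exact mem_filter.2 ⟨mem_univ _, hno⟩
        obtain ⟨k, hk⟩ := this
        exact hc k hk
    · rw [card_image_of_injective _ θ.2.injective, card_image_of_injective _ (cellRows_injective hf hg)]
  apply Subtype.ext
  show (fun t => Finset.orderEmbOfFin _ _ t) = _
  symm
  refine Finset.orderEmbOfFin_unique ((card_image_eq_iff _).2 (cellRows_injective hf hg)) (fun t => ?_) θ.2
  rw [himg]
  exact mem_image_of_mem _ (mem_univ t)

variable {K : Type u}

/-- Reverse the rows. -/
def rowFlip (K : Type u) [CommRing K] (m n : ℕ) :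
    MvPolynomial (Fin m × Fin n) K ≃ₐ[K] MvPolynomial (Fin m × Fin n) K :=
  renameEquiv K (Equiv.prodCongr Fin.revPerm (Equiv.refl _))

theorem rowFlip_minor [CommRing K] {a : ℕ} (f : Fin a → Fin m) (g : Fin a → Fin n) :
    rowFlip K m n ((genMatrix K m n).submatrix f g).det =
      ((genMatrix K m n).submatrix (fun k => Fin.rev (f k)) g).det := by
  rw [AlgEquiv.map_det]
  congr 1
  refine Matrix.ext fun i j => ?_
  simp [rowFlip, genMatrix]

theorem map_rowFlip_minorIdeal [CommRing K] (a : ℕ) :
    (CAlgX.minorIdeal (genMatrix K m n) a).map (rowFlip K m n : _ →+* MvPolynomial (Fin m × Fin n) K) =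
      CAlgX.minorIdeal (genMatrix K m n) a := by
  rw [CAlgX.minorIdeal, Ideal.map_span]
  refine congrArg Ideal.span (Set.ext fun x => ⟨?_, ?_⟩)
  · rintro ⟨_, ⟨⟨f, g⟩, rfl⟩, rfl⟩
    exact ⟨(fun k => Fin.rev (f k), g), (rowFlip_minor f g).symm⟩
  · rintro ⟨⟨f, g⟩, rfl⟩
    exact ⟨_, ⟨(fun k => Fin.rev (f k), g), rfl⟩, by simpa using rowFlip_minor (fun k => Fin.rev (f k)) g⟩

variable [Field K] [Infinite K]

theorem det_chain_basis {s : ℕ} (hd : 0 < d) (hsd : s ≤ d) (hsr : s ≤ r) :
    LinearIndependent K (fun S : {S : Multiset (Idx d (d + r)) //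
        IsStdOn (· ≤ tauS d r s hsd hsr) S ∧ botIdx (d.le_add_right r) ∉ S} =>
      Ideal.Quotient.mk (CAlgX.minorIdeal (genMatrix K r d) (s + 1)) (cellMap K d r (mon K S.1))) ∧
    Submodule.span K (Set.range fun S : {S : Multiset (Idx d (d + r)) //
        IsStdOn (· ≤ tauS d r s hsd hsr) S ∧ botIdx (d.le_add_right r) ∉ S} =>
      Ideal.Quotient.mk (CAlgX.minorIdeal (genMatrix K r d) (s + 1)) (cellMap K d r (mon K S.1))) = ⊤ := by
  classical
  set bot := botIdx (n := d + r) (d.le_add_right r)
  set τ := tauS d r s hsd hsr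
  set I := CAlgX.minorIdeal (genMatrix K r d) (s + 1)
  have hbotτ : bot ≤ τ := fun t => strictMono_val_le τ.2 t
  have hbotle : ∀ θ : Idx d (d + r), bot ≤ θ := fun θ t => strictMono_val_le θ.2 t
  constructor
  · rw [linearIndependent_iff']
    intro T l hl S0 hS0
    set D := T.sup fun S => S.1.card
    have hpad : ∀ S : {S : Multiset (Idx d (d + r)) // IsStdOn (· ≤ τ) S ∧ bot ∉ S},
        IsStdOn (· ≤ τ) (S.1 + Multiset.replicate (D - S.1.card) bot) := by
      intro S
      refine ⟨fun a ha b hb => ?_, fun θ hθ => ?_⟩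
      · rcases Multiset.mem_add.1 ha with ha | ha
        · rcases Multiset.mem_add.1 hb with hb | hb
          · exact S.2.1.1 a ha b hb
          · rw [Multiset.eq_of_mem_replicate hb]; exact Or.inr (hbotle a)
        · rw [Multiset.eq_of_mem_replicate ha]; exact Or.inl (hbotle b)
      · rcases Multiset.mem_add.1 hθ with h | h
        · exact S.2.1.2 θ h
        · rw [Multiset.eq_of_mem_replicate h]; exact hbotτ
    set g : PlRing K d (d + r) := ∑ S ∈ T, l S • mon K (S.1 + Multiset.replicate (D - S.1.card) bot)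
    have hhom : g.IsHomogeneous D := by
      refine IsHomogeneous.sum _ _ D fun S hS => ?_
      have h1 := isHomogeneous_mon K (S.1 + Multiset.replicate (D - S.1.card) bot)
      rw [Multiset.card_add, Multiset.card_replicate,
        Nat.add_sub_cancel' (Finset.le_sup (f := fun S : {S : Multiset (Idx d (d + r)) //
          IsStdOn (· ≤ τ) S ∧ bot ∉ S} => S.1.card) hS)] at h1
      rw [smul_eq_C_mul]
      simpa using (isHomogeneous_C (Idx d (d + r)) (l S)).mul h1
    have hg : g ∈ cellIdeal K s hsd hsr := by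
      rw [← comap_cellMap_minorIdeal hd hsd hsr, Ideal.mem_comap]
      show cellMap K d r g ∈ I
      rw [← Ideal.Quotient.eq_zero_iff_mem, ← hl, map_sum, map_sum]
      refine sum_congr rfl fun S _ => ?_
      rw [map_smul, mon_add, map_mul, show cellMap K d r (mon K (Multiset.replicate (D - S.1.card) bot)) = 1 by
        simp only [mon, Multiset.map_replicate, Multiset.prod_replicate, map_pow]
        rw [cellMap_bot, one_pow], mul_one]
      rfl
    have := (compat_le τ).isPrime (K := K) hd
    have hP : g ∈ plD K (· ≤ τ) := mem_of_homogeneous_mem_sup bot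
      (fun _ hf k => component_mem_plD K hf k) (bot_notMem hd hsd hsr) hhom hg
    have hinj : Function.Injective fun S : {S : Multiset (Idx d (d + r)) //
        IsStdOn (· ≤ τ) S ∧ bot ∉ S} =>
        (⟨S.1 + Multiset.replicate (D - S.1.card) bot, hpad S⟩ : StdM (· ≤ τ)) := by
      intro S S' h
      apply Subtype.ext
      have hfil : ∀ R : {S : Multiset (Idx d (d + r)) // IsStdOn (· ≤ τ) S ∧ bot ∉ S},
          (R.1 + Multiset.replicate (D - R.1.card) bot).filter (fun θ => θ ≠ bot) = R.1 := by
        intro R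
        have e1 : R.1.filter (fun θ => θ ≠ bot) = R.1 :=
          Multiset.filter_eq_self.2 fun θ hθ (e : θ = bot) => R.2.2 (e ▸ hθ)
        have e2 : (Multiset.replicate (D - R.1.card) bot).filter (fun θ => θ ≠ bot) = 0 :=
          Multiset.filter_eq_nil.2 fun θ hθ => by simp [Multiset.eq_of_mem_replicate hθ]
        rw [Multiset.filter_add, e1, e2, add_zero]
      have := congrArg (fun R : StdM (· ≤ τ) => R.1.filter fun θ => θ ≠ bot) h
      simpa only [hfil] using this
    have hli := ((compat_le τ).linearIndependent (K := K) hd).comp _ hinj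
    refine linearIndependent_iff'.1 hli T l ?_ S0 hS0
    have h0 : phi K (fun i t => i ≤ τ.1 t) g = 0 := (compat_le τ).plD_le_ker hP
    rw [← h0, map_sum]
    simp [map_smul]
  · rw [eq_top_iff]
    intro x _
    obtain ⟨f, rfl⟩ := Ideal.Quotient.mk_surjective x
    obtain ⟨G, rfl⟩ := cellMap_surjective (K := K) hd f
    obtain ⟨l, hl⟩ := exists_std_expansion K (· ≤ τ) G
    have h1 : cellMap K d r (G - Finsupp.linearCombination K (fun S : StdM (· ≤ τ) => mon K S.1) l) ∈ I :=
      Ideal.mem_comap.1 ((comap_cellMap_minorIdeal hd hsd hsr).ge (Ideal.mem_sup_left hl))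
    rw [map_sub] at h1
    rw [(Ideal.Quotient.mk_eq_mk_iff_sub_mem _ _).2 h1, Finsupp.linearCombination_apply, map_finsuppSum,
      map_finsuppSum]
    refine Submodule.sum_mem _ fun S _ => ?_
    dsimp only
    rw [map_smul]
    show l S • Ideal.Quotient.mk I (cellMap K d r (mon K S.1)) ∈ _
    refine Submodule.smul_mem _ _ ?_
    have hsplit : Ideal.Quotient.mk I (cellMap K d r (mon K S.1)) =
        Ideal.Quotient.mk I (cellMap K d r (mon K (S.1.filter fun θ => θ ≠ bot))) := by
      conv_lhs => rw [← Multiset.filter_add_not (fun θ => θ ≠ bot) S.1, mon_add, map_mul]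
      have : cellMap K d r (mon K (S.1.filter fun θ => ¬ θ ≠ bot)) = 1 := by
        rw [mon, map_multiset_prod]
        refine Multiset.prod_eq_one fun y hy => ?_
        simp only [Multiset.mem_map, Multiset.mem_filter, not_not] at hy
        obtain ⟨_, ⟨θ, ⟨-, rfl⟩, rfl⟩, rfl⟩ := hy
        exact cellMap_bot
      rw [this, mul_one]
    rw [hsplit]
    exact Submodule.subset_span ⟨⟨S.1.filter fun θ => θ ≠ bot,
      ⟨S.2.1.mono (Multiset.filter_subset _ _), fun θ hθ => S.2.2 θ (Multiset.mem_of_mem_filter hθ)⟩,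
      fun h => (Multiset.mem_filter.1 h).2 rfl⟩, rfl⟩

theorem bitableaux_basis (m n s : ℕ) (hn : 0 < n) (hsm : s ≤ m) (hsn : s ≤ n) :
    LinearIndependent K (fun c : (Σ k : ℕ, {c : Fin k → MinorIdx m n //
        (∀ i, (c i).1 + 1 ≤ s) ∧ ∀ i j, i < j → MinorGE (c i) (c j)}) =>
        Ideal.Quotient.mk (CAlgX.minorIdeal (genMatrix K m n) (s + 1))
          (Finset.univ.prod fun i => minorOf K (c.2.1 i))) ∧
      Submodule.span K (Set.range fun c : (Σ k : ℕ, {c : Fin k → MinorIdx m n //
        (∀ i, (c i).1 + 1 ≤ s) ∧ ∀ i j, i < j → MinorGE (c i) (c j)}) =>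
        Ideal.Quotient.mk (CAlgX.minorIdeal (genMatrix K m n) (s + 1))
          (Finset.univ.prod fun i => minorOf K (c.2.1 i))) = ⊤ := by
  classical
  set τ := tauS n m s hsn hsm
  set bot := botIdx (n := n + m) (n.le_add_right m)
  set I := CAlgX.minorIdeal (genMatrix K m n) (s + 1) with hI
  let Φ : (MvPolynomial (Fin m × Fin n) K ⧸ I) ≃ₐ[K] (MvPolynomial (Fin m × Fin n) K ⧸ I) :=
    Ideal.quotientEquivAlg I I (rowFlip K m n) (map_rowFlip_minorIdeal (s + 1)).symm
  obtain ⟨hli, hsp⟩ := det_chain_basis (K := K) (r := m) hn hsn hsm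
  have hT : ∀ c : (Σ k : ℕ, {c : Fin k → MinorIdx m n //
      (∀ i, (c i).1 + 1 ≤ s) ∧ ∀ i j, i < j → MinorGE (c i) (c j)}),
      IsStdOn (· ≤ τ) ((univ : Finset (Fin c.1)).val.map fun i => minorTheta (c.2.1 i)) ∧
        bot ∉ (univ : Finset (Fin c.1)).val.map fun i => minorTheta (c.2.1 i) := by
    rintro ⟨k, c, hc1, hc2⟩
    refine ⟨⟨fun a ha b hb => ?_, fun θ hθ => ?_⟩, fun h => ?_⟩
    · obtain ⟨i, -, rfl⟩ := Multiset.mem_map.1 ha
      obtain ⟨j, -, rfl⟩ := Multiset.mem_map.1 hb
      rcases lt_trichotomy i j with hij | rfl | hij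
      · exact Or.inl ((minorGE_iff _ _).1 (hc2 i j hij))
      · exact Or.inl le_rfl
      · exact Or.inr ((minorGE_iff _ _).1 (hc2 j i hij))
    · obtain ⟨i, -, rfl⟩ := Multiset.mem_map.1 hθ
      exact (le_tauS_iff hsn hsm _).2 (by rw [low_minorTheta]; exact hc1 i)
    · obtain ⟨i, -, hi⟩ := Multiset.mem_map.1 h
      have := congrArg low hi
      rw [low_minorTheta, low_botIdx] at this
      omega
  let T : (Σ k : ℕ, {c : Fin k → MinorIdx m n //
      (∀ i, (c i).1 + 1 ≤ s) ∧ ∀ i j, i < j → MinorGE (c i) (c j)}) →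
      {S : Multiset (Idx n (n + m)) // IsStdOn (· ≤ τ) S ∧ bot ∉ S} := fun c =>
    ⟨(univ : Finset (Fin c.1)).val.map fun i => minorTheta (c.2.1 i), hT c⟩
  let ε : (Σ k : ℕ, {c : Fin k → MinorIdx m n //
      (∀ i, (c i).1 + 1 ≤ s) ∧ ∀ i j, i < j → MinorGE (c i) (c j)}) → Kˣ := fun c =>
    ∏ i, Units.map (Int.castRingHom K).toMonoidHom
      (cellSign (fun k => Fin.rev ((c.2.1 i).2.1.1 k)) (c.2.1 i).2.2.1)
  have hval : ∀ c, Φ (Ideal.Quotient.mk I (∏ i, minorOf K (c.2.1 i))) =
      ε c • Ideal.Quotient.mk I (cellMap K n m (mon K (T c).1)) := by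
    intro c
    have h1 : ∀ i, rowFlip K m n (minorOf K (c.2.1 i)) =
        MvPolynomial.C (((cellSign (fun k => Fin.rev ((c.2.1 i).2.1.1 k)) (c.2.1 i).2.2.1 : ℤˣ) : ℤ) : K) *
          cellMap K n m (X (minorTheta (c.2.1 i))) := by
      intro i
      rw [minorOf, rowFlip_minor, det_eq_sign_cellMinor K (rev_injective _) (c.2.1 i).2.2.2.injective,
        cellMap_X, map_intCast]
      rfl
    show Φ (Ideal.Quotient.mk I _) = _
    rw [Units.smul_def]
    show Ideal.Quotient.mk I (rowFlip K m n (∏ i, minorOf K (c.2.1 i))) = _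
    rw [map_prod, prod_congr rfl fun i _ => h1 i, prod_mul_distrib, ← map_prod, ← map_prod]
    simp only [ε, T, mon, Multiset.map_map, Units.coe_prod]
    rw [← MvPolynomial.smul_eq_C_mul]
    rfl
  have hTinj : Function.Injective T := by
    rintro ⟨k, c, hc⟩ ⟨k', c', hc'⟩ h
    have h' := congrArg Subtype.val h
    obtain rfl : k = k' := by simpa [T] using congrArg Multiset.card h'
    have hanti : ∀ (c : Fin k → MinorIdx m n), (∀ i j, i < j → MinorGE (c i) (c j)) →
        Antitone fun i => minorTheta (c (Fin.rev i)) := fun c hc i j hij => by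
      rcases hij.lt_or_eq with hlt | rfl
      · exact (minorGE_iff _ _).1 (hc _ _ (Fin.rev_lt_rev.2 hlt))
      · exact le_rfl
    have hrev : ∀ g : Fin k → Idx n (n + m),
        (univ : Finset (Fin k)).val.map (fun i => g (Fin.rev i)) = (univ : Finset (Fin k)).val.map g := by
      intro g
      show (univ : Finset (Fin k)).val.map (g ∘ Fin.revPerm) = _
      rw [← Multiset.map_map, Multiset.map_univ_val_equiv]
    have h2 := antitone_eq_of_map_eq (hanti c hc.2) (hanti c' hc'.2)
      ((hrev fun i => minorTheta (c i)).trans (h'.trans (hrev fun i => minorTheta (c' i)).symm))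
    obtain rfl : c = c' := funext fun i => minorTheta_injective (by simpa using congrFun h2 (Fin.rev i))
    rfl
  have hTsurj : Function.Surjective T := by
    rintro ⟨S, hS, hbot⟩
    obtain ⟨θ, hθ, hθS⟩ := hS.1.exists_antitone
    have hmem : ∀ i, θ i ∈ S := fun i => by
      rw [← hθS]; exact Multiset.mem_map_of_mem θ (mem_univ i)
    choose M hM using fun i => exists_minorTheta (θ i) fun e => hbot (by rw [show bot = θ i from e.symm]; exact hmem i)
    refine ⟨⟨S.card, fun i => M (Fin.rev i), fun i => ?_, fun i j hij => ?_⟩, ?_⟩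
    · have := (le_tauS_iff hsn hsm _).1 (hS.2 _ (hmem (Fin.rev i)))
      rwa [← hM, low_minorTheta] at this
    · rw [minorGE_iff, hM, hM]
      exact hθ (Fin.rev_le_rev.2 hij.le)
    · apply Subtype.ext
      show (univ : Finset (Fin S.card)).val.map (fun i => minorTheta (M (Fin.rev i))) = S
      conv_rhs => rw [← hθS]
      simp only [hM]
      show (univ : Finset (Fin S.card)).val.map (θ ∘ Fin.revPerm) = _
      rw [← Multiset.map_map, Multiset.map_univ_val_equiv]
  have hli2 : LinearIndependent K fun c => ε c • Ideal.Quotient.mk I (cellMap K n m (mon K (T c).1)) :=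
    (hli.comp T hTinj).units_smul ε
  constructor
  · refine LinearIndependent.of_comp Φ.toLinearMap ?_
    have e : ⇑Φ.toLinearMap ∘ (fun c : (Σ k : ℕ, {c : Fin k → MinorIdx m n //
        (∀ i, (c i).1 + 1 ≤ s) ∧ ∀ i j, i < j → MinorGE (c i) (c j)}) =>
          Ideal.Quotient.mk I (∏ i, minorOf K (c.2.1 i))) =
        fun c => ε c • Ideal.Quotient.mk I (cellMap K n m (mon K (T c).1)) := funext hval
    rw [e]
    exact hli2
  · apply Submodule.map_injective_of_injective (f := Φ.toLinearMap) Φ.injective
    rw [Submodule.map_span, Submodule.map_top, LinearMap.range_eq_top.2 Φ.surjective, eq_top_iff, ← hsp,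
      Submodule.span_le]
    rintro _ ⟨S, rfl⟩
    obtain ⟨c, rfl⟩ := hTsurj S
    have e : Ideal.Quotient.mk I (cellMap K n m (mon K (T c).1)) =
        ((ε c)⁻¹ : Kˣ) • Φ (Ideal.Quotient.mk I (∏ i, minorOf K (c.2.1 i))) := by
      rw [hval, smul_smul, inv_mul_cancel, one_smul]
    dsimp only
    rw [e]
    exact Submodule.smul_mem _ (((ε c)⁻¹ : Kˣ) : K) (Submodule.subset_span ⟨_, ⟨c, rfl⟩, rfl⟩)

end GrothLib.SMT
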