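import Groth.Agent.Lib.SMT.Straighten
import Groth.Prelude.Def_CAlgX
import Mathlib.LinearAlgebra.Matrix.Determinant.Basic
import Mathlib.LinearAlgebra.Matrix.Block

/-!
# Minors of the cell matrix `[I; Z]`
-/

universe u

noncomputable section

open MvPolynomial W4bk4grassmannian Finset

namespace GrothLib.SMT

/-- Laplace: a determinant lies in the ideal of the minors on any set of rows. -/
theorem det_mem_span_minors {R : Type*} [CommRing R] {t : ℕ} :
    ∀ {N : ℕ} (M : Matrix (Fin N) (Fin N) R) (f : Fin t → Fin N), Function.Injective f →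
      M.det ∈ Ideal.span (Set.range fun g : Fin t → Fin N => (M.submatrix f g).det) := by
  intro N
  induction N with
  | zero =>
    intro M f hf
    have ht : t = 0 := by
      have := Fintype.card_le_of_injective f hf; simpa using this
    subst ht
    exact Ideal.subset_span ⟨Fin.elim0, by simp⟩
  | succ N ih =>
    intro M f hf
    by_cases hs : Function.Surjective f
    · have ht : t = N + 1 := by
        simpa using Fintype.card_of_bijective ⟨hf, hs⟩
      subst ht
      let σ : Equiv.Perm (Fin (N + 1)) := Equiv.ofBijective f ⟨hf, hs⟩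
      have : M.det = ((σ.sign : ℤ) : R) * (M.submatrix f id).det := by
        have h := Matrix.det_permute σ M
        rw [show (M.submatrix f id) = M.submatrix (⇑σ) id from rfl, h, ← mul_assoc, ← Int.cast_mul]
        simp
      rw [this]
      exact Ideal.mul_mem_left _ _ (Ideal.subset_span ⟨id, rfl⟩)
    · simp only [Function.Surjective, not_forall, not_exists] at hs
      obtain ⟨i, hi⟩ := hs
      rw [Matrix.det_succ_row M i]
      refine Ideal.sum_mem _ fun j _ => Ideal.mul_mem_left _ _ ?_
      have hex : ∀ x, ∃ y, i.succAbove y = f x := fun x => Fin.exists_succAbove_eq (hi x)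
      choose f' hf' using hex
      have hinj : Function.Injective f' := fun a b h => hf (by rw [← hf' a, ← hf' b, h])
      refine Ideal.span_mono ?_ (ih (M.submatrix i.succAbove j.succAbove) f' hinj)
      rintro x ⟨g, rfl⟩
      refine ⟨j.succAbove ∘ g, ?_⟩
      dsimp only
      rw [Matrix.submatrix_submatrix]
      congr 1
      congr 1
      funext x
      exact (hf' x).symm

variable (K : Type u) [CommRing K] {d r : ℕ}

/-- Row of the cell matrix coming from the generic block. -/
def lowRow (d : ℕ) {r : ℕ} (i : Fin r) : Fin (d + r) := Fin.natAdd d i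

theorem cellMatrix_low (i : Fin r) (c : Fin d) :
    cellMatrix K d r (lowRow d i) c = X (i, c) := by
  simp [cellMatrix, lowRow]

theorem cellMatrix_top (i : Fin d) (c : Fin d) :
    cellMatrix K d r (Fin.castAdd r i) c = if i = c then 1 else 0 := by
  simp [cellMatrix, Fin.ext_iff]

/-- Rows: identity rows off `range g`, the rows `f k` of `Z` in the places `g k`. -/
def cellRows {t : ℕ} (f : Fin t → Fin r) (g : Fin t → Fin d) : Fin d → Fin (d + r) :=
  open scoped Classical in
  fun c => if h : ∃ k, g k = c then lowRow d (f h.choose) else Fin.castAdd r c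

theorem cellRows_apply {t : ℕ} (f : Fin t → Fin r) {g : Fin t → Fin d}
    (hg : Function.Injective g) (k : Fin t) : cellRows f g (g k) = lowRow d (f k) := by
  classical
  have h : ∃ k', g k' = g k := ⟨k, rfl⟩
  rw [cellRows, dif_pos h, hg h.choose_spec]

theorem cellRows_apply_not {t : ℕ} (f : Fin t → Fin r) {g : Fin t → Fin d} {c : Fin d}
    (hc : ∀ k, g k ≠ c) : cellRows f g c = Fin.castAdd r c := by
  classical
  rw [cellRows, dif_neg (by simpa using hc)]

theorem det_cellRows {t : ℕ} (f : Fin t → Fin r) {g : Fin t → Fin d} (hg : Function.Injective g) :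
    ((cellMatrix K d r).submatrix (cellRows f g) id).det =
      ((genMatrix K r d).submatrix f g).det := by
  classical
  let e : Fin t ⊕ {c : Fin d // c ∉ Set.range g} ≃ Fin d :=
    (Equiv.sumCongr (Equiv.ofInjective g hg) (Equiv.refl _)).trans (Equiv.sumCompl (· ∈ Set.range g))
  have el : ∀ k, e (Sum.inl k) = g k := fun k => rfl
  have er : ∀ c, e (Sum.inr c) = c.1 := fun c => rfl
  have hblock : (((cellMatrix K d r).submatrix (cellRows f g) id).submatrix e e) =
      Matrix.fromBlocks ((genMatrix K r d).submatrix f g)
        (Matrix.of fun k c => X (f k, (c : {c : Fin d // c ∉ Set.range g}).1)) 0 1 := by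
    ext (a | a) (b | b)
    · simp [el, cellRows_apply f hg, cellMatrix_low, genMatrix]
    · simp [el, er, cellRows_apply f hg, cellMatrix_low]
    · have ha : ∀ k, g k ≠ a.1 := fun k e' => a.2 ⟨k, e'⟩
      simp [el, er, cellRows_apply_not f ha, cellMatrix_top, (ha b).symm]
    · have ha : ∀ k, g k ≠ a.1 := fun k e' => a.2 ⟨k, e'⟩
      simp [er, cellRows_apply_not f ha, cellMatrix_top, Matrix.one_apply, Subtype.ext_iff]
  rw [← Matrix.det_submatrix_equiv_self e, hblock, Matrix.det_fromBlocks_zero₂₁, Matrix.det_one,
    mul_one]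

theorem cellRows_injective {t : ℕ} {f : Fin t → Fin r} {g : Fin t → Fin d}
    (hf : Function.Injective f) (hg : Function.Injective g) :
    Function.Injective (cellRows f g) := by
  intro a b hab
  have hne : ∀ (k : Fin t) (c : Fin d), lowRow d (f k) ≠ Fin.castAdd r c := fun k c e => by
    have := congrArg Fin.val e; simp [lowRow] at this; omega
  by_cases ha : ∃ k, g k = a <;> by_cases hb : ∃ k, g k = b
  · obtain ⟨k, rfl⟩ := ha
    obtain ⟨l, rfl⟩ := hb
    rw [cellRows_apply f hg, cellRows_apply f hg] at hab
    exact congrArg g (hf ((Fin.natAdd_inj d).1 hab))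
  · obtain ⟨k, rfl⟩ := ha
    push Not at hb
    rw [cellRows_apply f hg, cellRows_apply_not f hb] at hab
    exact absurd hab (hne _ _)
  · obtain ⟨l, rfl⟩ := hb
    push Not at ha
    rw [cellRows_apply f hg, cellRows_apply_not f ha] at hab
    exact absurd hab.symm (hne _ _)
  · push Not at ha hb
    rw [cellRows_apply_not f ha, cellRows_apply_not f hb] at hab
    exact Fin.castAdd_injective _ _ hab

/-- The index of the Plücker coordinate of the minor `[f | g]`. -/
def cellIdx {t : ℕ} (f : Fin t → Fin r) (g : Fin t → Fin d) (hf : Function.Injective f)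
    (hg : Function.Injective g) : Idx d (d + r) :=
  sortIdx d (d + r) (cellRows f g) ((card_image_eq_iff _).2 (cellRows_injective hf hg))

/-- Its sign. -/
def cellSign {t : ℕ} (f : Fin t → Fin r) (g : Fin t → Fin d) : ℤˣ :=
  (-1) ^ invCount d (d + r) (cellRows f g)

theorem det_eq_sign_cellMinor {t : ℕ} {f : Fin t → Fin r} {g : Fin t → Fin d}
    (hf : Function.Injective f) (hg : Function.Injective g) :
    ((genMatrix K r d).submatrix f g).det =
      ((cellSign f g : ℤ) : CellRing K d r) * cellMinor K d r (cellIdx f g hf hg) := by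
  obtain ⟨σ, h1, h2⟩ := exists_sort_perm (cellRows f g)
    ((card_image_eq_iff _).2 (cellRows_injective hf hg))
  rw [← det_cellRows K f hg, cellMinor, cellIdx, cellSign, ← h2, ← Matrix.det_permute σ]
  congr 1
  rw [Matrix.submatrix_submatrix]
  conv_lhs => rw [← h1]
  rfl

theorem card_low_cellIdx {t : ℕ} {f : Fin t → Fin r} {g : Fin t → Fin d}
    (hf : Function.Injective f) (hg : Function.Injective g) :
    (univ.filter fun c => d ≤ ((cellIdx f g hf hg).1 c).val).card = t := by
  classical
  have h1 : (univ.filter fun c => d ≤ ((cellIdx f g hf hg).1 c).val).card =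
      (univ.filter fun c => d ≤ (cellRows f g c).val).card := by
    rw [card_filter, card_filter]
    exact sum_sortIdx (cellRows f g) _ (fun x => if d ≤ x.val then 1 else 0)
  rw [h1]
  have : univ.filter (fun c => d ≤ (cellRows f g c).val) = univ.image g := by
    ext c
    simp only [mem_filter, mem_univ, true_and, mem_image]
    by_cases h : ∃ k, g k = c
    · obtain ⟨k, rfl⟩ := h
      rw [cellRows_apply f hg]
      simp [lowRow]
    · simp only [h, iff_false]
      push Not at h
      rw [cellRows_apply_not f h]
      simp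
  rw [this, card_image_of_injective _ hg, card_univ, Fintype.card_fin]

theorem card_low_le_iff {n : ℕ} (θ : Idx d n) {t : ℕ} (ht : 0 < t) (htd : t ≤ d) :
    d ≤ (θ.1 ⟨d - t, by omega⟩).val ↔ t ≤ (univ.filter fun c => d ≤ (θ.1 c).val).card := by
  constructor
  · intro h
    calc t = (Ici (⟨d - t, by omega⟩ : Fin d)).card := by rw [Fin.card_Ici]; simp only []; omega
      _ ≤ _ := card_le_card fun c hc => by
        simp only [mem_filter, mem_univ, true_and]
        exact h.trans (θ.2.monotone (mem_Ici.1 hc))
  · intro h
    by_contra hc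
    have : (univ.filter fun c => d ≤ (θ.1 c).val) ⊆ Ioi (⟨d - t, by omega⟩ : Fin d) := fun c hc' => by
      simp only [mem_filter, mem_univ, true_and] at hc'
      rw [mem_Ioi]
      by_contra hle
      exact hc (hc'.trans (θ.2.monotone (not_lt.1 hle)))
    have := card_le_card this
    rw [Fin.card_Ioi] at this
    simp only [] at this
    omega

theorem span_cellMinor_eq_minorIdeal {t : ℕ} (hd : 0 < d) (ht : 0 < t) (htd : t ≤ d) :
    Ideal.span {f : CellRing K d r | ∃ θ : Idx d (d + r),
        d ≤ (θ.1 ⟨d - t, Nat.sub_lt hd ht⟩).val ∧ f = cellMinor K d r θ} =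
      CAlgX.minorIdeal (genMatrix K r d) t := by
  classical
  refine le_antisymm (Ideal.span_le.2 ?_) (Ideal.span_le.2 ?_)
  · rintro x ⟨θ, hθ, rfl⟩
    let S : Fin t → Fin d := fun k => ⟨d - t + k.val, by omega⟩
    have hS : Function.Injective S := fun a b h => Fin.ext (by
      have := congrArg Fin.val h; simp [S] at this; omega)
    refine Ideal.span_le.2 ?_ (det_mem_span_minors ((cellMatrix K d r).submatrix θ.1 id) S hS)
    rintro y ⟨g, rfl⟩
    have hrow : ∀ k, ∃ i : Fin r, lowRow d i = θ.1 (S k) := fun k => by
      have : d ≤ (θ.1 (S k)).val := hθ.trans (θ.2.monotone (show (d - t) ≤ d - t + k.val by omega))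
      exact ⟨⟨(θ.1 (S k)).val - d, by omega⟩, Fin.ext (by simp [lowRow]; omega)⟩
    choose f hf using hrow
    refine Ideal.subset_span ⟨(f, g), ?_⟩
    dsimp only
    congr 1
    ext k c
    simp [← hf k, cellMatrix_low, genMatrix]
  · rintro x ⟨⟨f, g⟩, rfl⟩
    dsimp only
    by_cases hf : Function.Injective f
    swap
    · obtain ⟨a, b, he, hne⟩ := Function.not_injective_iff.1 hf
      rw [Matrix.det_zero_of_row_eq hne (by funext c; simp [he])]
      exact Ideal.zero_mem _
    by_cases hg : Function.Injective g
    swap
    · obtain ⟨a, b, he, hne⟩ := Function.not_injective_iff.1 hg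
      rw [Matrix.det_zero_of_column_eq hne (by intro c; simp [he])]
      exact Ideal.zero_mem _
    rw [det_eq_sign_cellMinor K hf hg]
    refine Ideal.mul_mem_left _ _ (Ideal.subset_span ⟨_, ?_, rfl⟩)
    rw [card_low_le_iff _ ht htd, card_low_cellIdx]

end GrothLib.SMT
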