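import Groth.Agent.Lib.SMT.Basis

/-!
# Leading terms of standard combinations; shape of the straightening relations

`coeff_combination_max`: a nonzero combination of monic polynomials with distinct degrees sees
its largest degree.  `straighten_sup_inf`: the straightening relation of an incomparable pair.
-/

universe u

noncomputable section

open MvPolynomial W4bk4grassmannian Finset
open scoped MonomialOrder

namespace GrothLib.SMT

theorem coeff_combination_max {σ ι : Type*} (m : MonomialOrder σ) {R : Type*} [CommRing R]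
    (f : ι → MvPolynomial σ R) (hf : ∀ i, m.Monic (f i))
    (hinj : Function.Injective fun i => m.degree (f i)) {l : ι →₀ R} (hl : l ≠ 0) :
    ∃ j ∈ l.support, (∀ i ∈ l.support, m.degree (f i) ≼[m] m.degree (f j)) ∧
      coeff (m.degree (f j)) (Finsupp.linearCombination R f l) = l j := by
  classical
  obtain ⟨j, hj, hmax⟩ := Finset.exists_max_image l.support
    (fun i => m.toSyn (m.degree (f i))) (Finsupp.support_nonempty_iff.2 hl)
  refine ⟨j, hj, hmax, ?_⟩
  rw [Finsupp.linearCombination_apply, Finsupp.sum, coeff_sum, Finset.sum_eq_single j, coeff_smul,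
    (hf j).coeff_degree, smul_eq_mul, mul_one]
  · intro b hb hbj
    rw [coeff_smul, m.coeff_eq_zero_of_lt, smul_zero]
    exact lt_of_le_of_ne (hmax b hb) fun e => hbj (hinj (m.toSyn.injective e))
  · exact fun h => absurd hj h

variable {K : Type u} [CommRing K] {d n : ℕ}

theorem compat_ge (γ : Idx d n) : Compat (fun θ => γ ≤ θ) (fun i t => γ.1 t ≤ i) :=
  ⟨fun _ h σ => exists_bad_lo h σ, fun _ h t => h t⟩

theorem rowsOf_injective : Function.Injective (rowsOf (d := d) (n := n)) := by
  intro a b h
  have himg : univ.image a.1 = univ.image b.1 := by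
    have hr : ∀ c : Fin d → Fin n, ∑ t, ({c t} : Multiset (Fin n)) =
        (univ : Finset (Fin d)).val.map c := by
      intro c
      conv_rhs => rw [← Multiset.sum_map_singleton ((univ : Finset (Fin d)).val.map c),
        Multiset.map_map]
      rfl
    have h' : (univ : Finset (Fin d)).val.map a.1 = (univ : Finset (Fin d)).val.map b.1 := by
      rw [← hr, ← hr]; exact h
    exact congrArg Multiset.toFinset h'
  have hb : (univ.image b.1).card = d := (card_image_eq_iff b.1).2 b.2.injective
  refine Subtype.ext ?_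
  rw [orderEmbOfFin_unique hb (fun t => himg ▸ mem_image_of_mem a.1 (mem_univ t)) a.2,
    ← orderEmbOfFin_unique hb (fun t => mem_image_of_mem b.1 (mem_univ t)) b.2]

theorem content_sup_inf (τ φ : Idx d n) :
    content (W4bk4grassmannian.sup τ φ ::ₘ W4bk4grassmannian.inf τ φ ::ₘ 0) =
      content (τ ::ₘ φ ::ₘ 0) := by
  simp only [content, rowsOf, Multiset.map_cons, Multiset.map_zero, Multiset.sum_cons,
    Multiset.sum_zero, add_zero, ← sum_add_distrib]
  refine sum_congr rfl fun t _ => ?_
  show ({max (τ.1 t) (φ.1 t)} : Multiset (Fin n)) + {min (τ.1 t) (φ.1 t)} = {τ.1 t} + {φ.1 t}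
  rcases le_total (τ.1 t) (φ.1 t) with h | h
  · rw [max_eq_right h, min_eq_left h, add_comm]
  · rw [max_eq_left h, min_eq_right h]

theorem expo_sup_inf (τ φ : Idx d n) :
    expo (W4bk4grassmannian.sup τ φ ::ₘ W4bk4grassmannian.inf τ φ ::ₘ 0) =
      expo (τ ::ₘ φ ::ₘ 0) := by
  rw [expo_eq_iff]
  intro c
  simp only [Multiset.map_cons, Multiset.map_zero]
  show max (τ.1 c) (φ.1 c) ::ₘ min (τ.1 c) (φ.1 c) ::ₘ 0 = τ.1 c ::ₘ φ.1 c ::ₘ 0
  rcases le_total (τ.1 c) (φ.1 c) with h | h
  · rw [max_eq_right h, min_eq_left h, Multiset.cons_swap]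
  · rw [max_eq_left h, min_eq_right h]

theorem isStd_sup_inf (τ φ : Idx d n) :
    IsStd (W4bk4grassmannian.sup τ φ ::ₘ W4bk4grassmannian.inf τ φ ::ₘ 0) := by
  have h : W4bk4grassmannian.inf τ φ ≤ W4bk4grassmannian.sup τ φ := fun t =>
    min_le_left (τ.1 t) (φ.1 t) |>.trans (le_max_left _ _)
  refine (IsStd.cons IsStd.zero (by simp)).cons fun a ha => Or.inl ?_
  obtain rfl : a = W4bk4grassmannian.inf τ φ := by simpa using ha
  exact h

/-- The standard expansion of an incomparable product: `sup · inf` with coefficient one, plus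
products `α β` with `α` strictly above `sup` and `β` strictly below `inf`. -/
theorem straighten_sup_inf [Nontrivial K] (hd : 0 < d) {τ φ : Idx d n} (h1 : ¬ τ ≤ φ)
    (h2 : ¬ φ ≤ τ) :
    ∃ g ∈ Submodule.span K {f : PlRing K d n | ∃ α β : Idx d n,
        β ≤ α ∧ W4bk4grassmannian.sup τ φ < α ∧ β < W4bk4grassmannian.inf τ φ ∧ f = X α * X β},
      X τ * X φ - X (W4bk4grassmannian.sup τ φ) * X (W4bk4grassmannian.inf τ φ) - g ∈
        plIdealTop (d := d) (n := n) K := by
  classical
  let qT : Idx d n → Prop := fun _ => True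
  set p0 : Multiset (Idx d n) := τ ::ₘ φ ::ₘ 0 with hp0
  set s0 : StdM qT := ⟨W4bk4grassmannian.sup τ φ ::ₘ W4bk4grassmannian.inf τ φ ::ₘ 0,
    isStd_sup_inf τ φ, fun _ _ => trivial⟩ with hs0
  have hplT : plIdealTop (d := d) (n := n) K = plD K qT := by
    rw [plD, eq_comm, sup_eq_left, Ideal.span_le]
    rintro f ⟨θ, hθ, -⟩
    exact absurd trivial hθ
  obtain ⟨a, ha, b, hb, hab⟩ := Submodule.mem_sup.1 (mon_mem_span_std K p0)
  let S : Set (StdM qT) := {s | s.1.card = 2 ∧ content s.1 = content p0}
  obtain ⟨l, hlS, hl⟩ : ∃ l ∈ Finsupp.supported K K S,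
      Finsupp.linearCombination K (fun s : StdM qT => mon K s.1) l = b := by
    rw [← Finsupp.mem_span_image_iff_linearCombination]
    refine Submodule.span_mono ?_ hb
    rintro f ⟨t, ht, hc, hco, -, rfl⟩
    exact ⟨⟨t, ht, fun _ _ => trivial⟩, ⟨by rw [hc]; simp [hp0], hco⟩, rfl⟩
  have hrel : mon K p0 - Finsupp.linearCombination K (fun s : StdM qT => mon K s.1) l ∈
      plIdealTop (d := d) (n := n) K := by
    rw [hl, ← hab, add_sub_cancel_right]; exact ha
  -- every term lives above `sup` and below `inf`
  have hbound : ∀ s ∈ l.support, ∀ (q : Idx d n → Prop) (p : Fin n → Fin d → Prop), Compat q p →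
      (∀ θ ∈ s.1, q θ) → q τ ∧ q φ := by
    intro s hs q p hc hq
    by_contra hbad
    have hz : phi K p (mon K p0) = 0 := by
      refine hc.plD_le_ker (mon_mem_plD K ?_)
      rcases not_and_or.1 hbad with h | h
      · exact ⟨τ, by simp [hp0], h⟩
      · exact ⟨φ, by simp [hp0], h⟩
    have h0 : phi K p (Finsupp.linearCombination K (fun s : StdM qT => mon K s.1) l) = 0 := by
      have := plIdealTop_le_ker_phi p hrel
      rw [RingHom.mem_ker] at this
      change phi K p _ = 0 at this
      rwa [map_sub, hz, zero_sub, neg_eq_zero] at this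
    rw [Finsupp.linearCombination_apply, map_finsuppSum, Finsupp.sum] at h0
    simp only [map_smul] at h0
    rw [← sum_filter_add_sum_filter_not l.support (fun t : StdM qT => ∀ θ ∈ t.1, q θ)] at h0
    rw [add_eq_left.2, ← sum_attach] at h0
    · let f : {x // x ∈ l.support.filter fun t : StdM qT => ∀ θ ∈ t.1, q θ} → StdM q :=
        fun t => ⟨t.1.1, t.1.2.1, (mem_filter.1 t.2).2⟩
      have hinj : Function.Injective f := fun x y hxy =>
        Subtype.ext (Subtype.ext (congrArg (fun z : StdM q => z.1) hxy))
      have := (hc.linearIndependent (K := K) hd).comp f hinj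
      rw [Fintype.linearIndependent_iff] at this
      exact (Finsupp.mem_support_iff.1 hs)
        (this (fun t => l t.1) h0 ⟨s, mem_filter.2 ⟨hs, hq⟩⟩)
    · refine sum_eq_zero fun t ht => ?_
      obtain ⟨-, hb'⟩ := mem_filter.1 ht
      push Not at hb'
      have : phi K p (mon K t.1) = 0 := hc.plD_le_ker (mon_mem_plD K hb')
      rw [this, smul_zero]
  have hshape : ∀ s ∈ l.support, s ≠ s0 → ∃ α β : Idx d n, β ≤ α ∧
      W4bk4grassmannian.sup τ φ < α ∧ β < W4bk4grassmannian.inf τ φ ∧ s.1 = α ::ₘ β ::ₘ 0 := by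
    intro s hs hne
    obtain ⟨hcard, hcont⟩ := hlS hs
    obtain ⟨x, y, hxy⟩ := Multiset.card_eq_two.1 hcard
    wlog hyx : y ≤ x generalizing x y with H
    · refine H y x (by rw [hxy]; exact Multiset.pair_comm x y) ?_
      exact (s.2.1 x (by simp [hxy]) y (by simp [hxy])).resolve_right hyx
    have hhi := hbound s hs _ _ (compat_le x) (by
      intro θ hθ
      simp [hxy] at hθ
      rcases hθ with rfl | rfl
      · exact le_rfl
      · exact hyx)
    have hlo := hbound s hs _ _ (compat_ge y) (by
      intro θ hθ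
      simp [hxy] at hθ
      rcases hθ with rfl | rfl
      · exact hyx
      · exact le_rfl)
    have hsup : W4bk4grassmannian.sup τ φ ≤ x := fun t => max_le (hhi.1 t) (hhi.2 t)
    have hinf : y ≤ W4bk4grassmannian.inf τ φ := fun t => le_min (hlo.1 t) (hlo.2 t)
    have hs' : s.1 = x ::ₘ y ::ₘ 0 := by rw [hxy]; rfl
    have hc2 : rowsOf x + rowsOf y =
        rowsOf (W4bk4grassmannian.sup τ φ) + rowsOf (W4bk4grassmannian.inf τ φ) := by
      have := hcont.trans (hp0 ▸ (content_sup_inf τ φ).symm)
      simpa [hs', content] using this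
    refine ⟨x, y, hyx, lt_of_le_of_ne hsup ?_, lt_of_le_of_ne hinf ?_, hs'⟩
    · intro e
      rw [← e] at hc2 hs'
      exact hne (Subtype.ext (by rw [hs', rowsOf_injective (add_left_cancel hc2)]))
    · intro e
      rw [e] at hc2 hs'
      exact hne (Subtype.ext (by rw [hs', rowsOf_injective (add_right_cancel hc2)]))
  -- the coefficient of `sup · inf`
  have hl1 : l s0 = 1 := by
    by_contra hne1
    let p : Fin n → Fin d → Prop := fun _ _ => True
    set l' : StdM qT →₀ K := l - Finsupp.single s0 1
    have hl's0 : l' s0 ≠ 0 := by simpa [l', sub_eq_zero] using hne1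
    have hm := fun s : StdM qT => phi_mon_monic K p (s := s.1) (fun _ _ _ => trivial)
    have hinj : Function.Injective fun s : StdM qT => (diagOrd d n).degree (phi K p (mon K s.1)) := by
      intro s t hst
      simp only [(hm s).1, (hm t).1] at hst
      exact Subtype.ext (expo_injOn hd s.2.1 t.2.1 hst)
    obtain ⟨j, hj, hmax, hcoef⟩ := coeff_combination_max (diagOrd d n) _ (fun s => (hm s).2) hinj
      (l := l') (fun e => hl's0 (by simp [e]))
    have hp0m := phi_mon_monic K p (s := p0) (fun _ _ _ => trivial)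
    have hg : Finsupp.linearCombination K (fun s : StdM qT => phi K p (mon K s.1)) l' =
        phi K p (mon K p0) - phi K p (mon K s0.1) := by
      have h0 : phi K p (mon K p0 -
          Finsupp.linearCombination K (fun s : StdM qT => mon K s.1) l) = 0 :=
        plIdealTop_le_ker_phi p hrel
      rw [map_sub, sub_eq_zero, Finsupp.linearCombination_apply, map_finsuppSum] at h0
      rw [map_sub, Finsupp.linearCombination_single, one_smul, h0, Finsupp.linearCombination_apply]
      simp [map_smul]
    have he : expo p0 = expo s0.1 := (expo_sup_inf τ φ).symm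
    have hle : expo s0.1 ≼[diagOrd d n] (diagOrd d n).degree (phi K p (mon K j.1)) := by
      simpa [(hm s0).1] using hmax s0 (Finsupp.mem_support_iff.2 hl's0)
    rw [hg, (hm j).1, coeff_sub] at hcoef
    rw [(hm j).1] at hle
    rcases hle.lt_or_eq with hlt | heq
    · rw [(diagOrd d n).coeff_eq_zero_of_lt (by rw [hp0m.1, he]; exact hlt),
        (diagOrd d n).coeff_eq_zero_of_lt (by rw [(hm s0).1]; exact hlt), sub_zero] at hcoef
      exact Finsupp.mem_support_iff.1 hj hcoef.symm
    · have heq' : expo s0.1 = expo j.1 := (diagOrd d n).toSyn.injective heq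
      rw [← heq'] at hcoef
      have c1 := hp0m.2.coeff_degree
      have c2 := (hm s0).2.coeff_degree
      rw [hp0m.1, he] at c1
      rw [(hm s0).1] at c2
      rw [c1, c2, sub_self] at hcoef
      exact Finsupp.mem_support_iff.1 hj hcoef.symm
  refine ⟨Finsupp.linearCombination K (fun s : StdM qT => mon K s.1) (l.erase s0), ?_, ?_⟩
  · rw [Finsupp.linearCombination_apply]
    refine Submodule.sum_mem _ fun s hs => ?_
    rw [Finsupp.support_erase, mem_erase] at hs
    obtain ⟨α, β, h1', h2', h3', h4'⟩ := hshape s hs.2 hs.1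
    refine Submodule.smul_mem _ _ (Submodule.subset_span ⟨α, β, h1', h2', h3', ?_⟩)
    simp [h4', mon_singleton]
  · have hsplit : Finsupp.linearCombination K (fun s : StdM qT => mon K s.1) l =
        X (W4bk4grassmannian.sup τ φ) * X (W4bk4grassmannian.inf τ φ) +
          Finsupp.linearCombination K (fun s : StdM qT => mon K s.1) (l.erase s0) := by
      conv_lhs => rw [← Finsupp.single_add_erase s0 l]
      rw [map_add, Finsupp.linearCombination_single, hl1, one_smul]
      simp [hs0, mon_singleton]
    have : mon K p0 = X τ * X φ := by simp [hp0, mon_singleton]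
    rw [this, hsplit] at hrel
    rwa [sub_sub]

end GrothLib.SMT
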