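import Groth.Agent.Lib.SMT.DegenCore
import Groth.Agent.Lib.SMT.Expansion
import Mathlib.Data.Finsupp.Weight
import Mathlib.Algebra.Order.Rearrangement

/-!
# The Stanley–Reisner and Hibi degenerations
-/

universe u

noncomputable section

open MvPolynomial W4bk4grassmannian Finset

namespace GrothLib.SMT

variable (K : Type u) [Field K] {d n : ℕ} (w : Idx d n)

/-- The quotient map to the Schubert ring. -/
abbrev piW : PlRing K d n →ₐ[K] PlRing K d n ⧸ plD K (· ≤ w) := Ideal.Quotient.mkₐ K _

theorem monomial_eq_monB (v : Below w →₀ ℕ) :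
    (monomial v (1 : K) : MvPolynomial (Below w) K) = monB K w (Finsupp.toMultiset v) := by
  induction v using Finsupp.induction with
  | zero => simp [monB]
  | single_add a b f _ _ ih =>
    rw [monomial_single_add, map_add]
    simp only [monB, Multiset.map_add, Multiset.prod_add]
    rw [ih, monB]
    congr 1
    simp [Multiset.map_nsmul, Multiset.prod_nsmul]

/-- Standard monomials span modulo an ideal as soon as every monomial reduces. -/
theorem span_of_monomials (G : Ideal (MvPolynomial (Below w) K))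
    (h : ∀ s : Multiset (Below w), monB K w s ∈ G.restrictScalars K ⊔
      Submodule.span K (monB K w '' {s | IsStd (s.map Subtype.val)})) (f : MvPolynomial (Below w) K) :
    f ∈ G.restrictScalars K ⊔ Submodule.span K (monB K w '' {s | IsStd (s.map Subtype.val)}) := by
  induction f using MvPolynomial.induction_on' with
  | add a b ha hb => exact Submodule.add_mem _ ha hb
  | monomial v c =>
    rw [show monomial v c = c • (monomial v (1 : K) : MvPolynomial (Below w) K) by
      rw [smul_monomial, smul_eq_mul, mul_one], monomial_eq_monB]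
    exact Submodule.smul_mem _ _ (h _)

theorem exists_incomparable {s : Multiset (Below w)} (hs : ¬ IsStd (s.map Subtype.val)) :
    ∃ a b t, s = a ::ₘ b ::ₘ t ∧ ¬ a.1 ≤ b.1 ∧ ¬ b.1 ≤ a.1 := by
  classical
  simp only [IsStd, not_forall, not_or] at hs
  obtain ⟨x, hx, y, hy, h1, h2⟩ := hs
  obtain ⟨a, ha, rfl⟩ := Multiset.mem_map.1 hx
  obtain ⟨b, hb, rfl⟩ := Multiset.mem_map.1 hy
  obtain ⟨s', rfl⟩ := Multiset.exists_cons_of_mem ha
  rcases Multiset.mem_cons.1 hb with rfl | hb
  · exact absurd le_rfl h1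
  obtain ⟨t, rfl⟩ := Multiset.exists_cons_of_mem hb
  exact ⟨a, b, t, rfl, h1, h2⟩

/-- The weights for the Stanley–Reisner degeneration. -/
def srWeight (θ : Idx d n) : ℕ := (d * n) ^ 2 - sumVal θ ^ 2

theorem srWeight_add_spread (s : Multiset (Idx d n)) :
    eW srWeight s + spread s = s.card * (d * n) ^ 2 := by
  induction s using Multiset.induction with
  | empty => simp [eW, spread]
  | cons a s ih =>
    simp only [eW, spread, Multiset.map_cons, Multiset.sum_cons, Multiset.card_cons] at ih ⊢
    have := Nat.pow_le_pow_left (sumVal_le a) 2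
    have h1 : srWeight a + sumVal a ^ 2 = (d * n) ^ 2 := Nat.sub_add_cancel this
    rw [Nat.succ_mul]
    omega

theorem vMon_mem_sr (s : Multiset (Idx d n)) :
    vMon (piW K w) s ∈ Submodule.span K (vMon (piW K w) ''
      {u | IsStdOn (· ≤ w) u ∧ (u = s ∨ eW srWeight u < eW srWeight s)}) := by
  obtain ⟨a, ha, b, hb, hab⟩ := Submodule.mem_sup.1 (mon_mem_span_std K s)
  have h0 : piW K w a = 0 :=
    Ideal.Quotient.eq_zero_iff_mem.2 (plIdealTop_le_plD K _ ha)
  rw [vMon, ← hab, map_add, h0, zero_add]
  clear hab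
  induction hb using Submodule.span_induction with
  | zero => simp
  | add x y _ _ hx hy => rw [map_add]; exact Submodule.add_mem _ hx hy
  | smul c x _ hx => rw [map_smul]; exact Submodule.smul_mem _ _ hx
  | mem x hx =>
    obtain ⟨t, ht1, ht2, -, ht4, rfl⟩ := hx
    by_cases hq : ∀ θ ∈ t, θ ≤ w
    · refine Submodule.subset_span ⟨t, ⟨⟨ht1, hq⟩, ht4.imp id fun h => ?_⟩, rfl⟩
      have e1 := srWeight_add_spread t
      have e2 := srWeight_add_spread s
      rw [ht2] at e1
      omega
    · push Not at hq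
      rw [show piW K w (mon K t) = 0 from Ideal.Quotient.eq_zero_iff_mem.2 (mon_mem_plD K hq)]
      exact Submodule.zero_mem _

theorem weightOK_sr : WeightOK (piW K w) w srWeight := fun s _ =>
  Submodule.span_mono (Set.image_mono fun u (hu : IsStdOn (· ≤ w) u ∧ (u = s ∨ eW srWeight u < eW srWeight s)) =>
    (⟨hu.1, hu.2.elim (fun e => e ▸ le_rfl) le_of_lt⟩ : IsStdOn (· ≤ w) u ∧ eW srWeight u ≤ eW srWeight s))
    (vMon_mem_sr K w s)

/-- The grading for the Hibi degeneration. -/
def wt (d n : ℕ) : (Fin n × Fin d →₀ ℕ) →+ ℕ := Finsupp.weight fun x => x.1.val * x.2.val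

/-- The weights for the Hibi degeneration. -/
def hibiWeight (θ : Idx d n) : ℕ := wt d n (diagExp θ)

theorem eW_hibi (s : Multiset (Idx d n)) : eW hibiWeight s = wt d n (expo s) := by
  rw [eW, expo, map_multiset_sum, Multiset.map_map]
  rfl

theorem wt_permExp (a : Fin d → Fin n) (σ : Equiv.Perm (Fin d)) :
    wt d n (permExp a σ) = ∑ t, (a t).val * (σ t).val := by
  rw [permExp, map_sum]
  exact sum_congr rfl fun t _ => by simp [wt, Finsupp.weight_apply]

theorem wt_permExp_lt (θ : Idx d n) {σ : Equiv.Perm (Fin d)} (hσ : σ ≠ 1) :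
    wt d n (permExp θ.1 σ) < wt d n (diagExp θ) := by
  rw [diagExp, wt_permExp, wt_permExp]
  have hf : StrictMono fun t => (θ.1 t).val := fun a b h => θ.2 h
  have hg : StrictMono fun t : Fin d => t.val := fun a b h => h
  simp only [Equiv.Perm.one_apply]
  refine (Monovary.sum_mul_comp_perm_lt_sum_mul_iff (hf.monotone.monovary hg.monotone)).2 fun h => ?_
  apply hσ
  have hmono : Monotone σ := fun a b hab => by
    rcases hab.lt_or_eq with hlt | rfl
    · by_contra hc
      exact absurd (h (show (σ b).val < (σ a).val from not_le.1 hc)) (not_le.2 (hf hlt))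
    · exact le_rfl
  have hsm : StrictMono σ := hmono.strictMono_of_injective σ.injective
  refine Equiv.ext fun t => Fin.ext ?_
  have h1 := strictMono_val_le hsm t
  have hr : StrictMono fun t => Fin.rev (σ (Fin.rev t)) := fun a b hab =>
    Fin.rev_lt_rev.2 (hsm (Fin.rev_lt_rev.2 hab))
  have h2 := strictMono_val_le hr (Fin.rev t)
  simp only [Fin.rev_rev, Fin.val_rev] at h2
  simp only [Equiv.Perm.one_apply]
  omega

theorem support_phi_mon (p : Fin n → Fin d → Prop) (s : Multiset (Idx d n)) :
    ∀ c ∈ (phi K p (mon K s)).support, c = expo s ∨ wt d n c < wt d n (expo s) := by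
  classical
  induction s using Multiset.induction with
  | empty =>
    intro c hc
    left
    have := mem_support_iff.1 hc
    simp only [mon_zero, map_one] at this
    rw [← C_1, coeff_C] at this
    by_contra hne
    exact this (if_neg fun e => hne (by rw [← e, expo_zero]))
  | cons a s ih =>
    intro c hc
    rw [mon_cons, map_mul, phi_X] at hc
    obtain ⟨x, hx, y, hy, rfl⟩ := Finset.mem_add.1 (MvPolynomial.support_mul _ _ hc)
    obtain ⟨σ, rfl⟩ : ∃ σ, permExp a.1 σ = x := by
      have h0 := mem_support_iff.1 hx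
      rw [trunc_minor, coeff_sum] at h0
      obtain ⟨σ, -, hσ⟩ := exists_ne_zero_of_sum_ne_zero h0
      refine ⟨σ, ?_⟩
      rw [← map_intCast (C : K →+* MatRing K d n), coeff_C_mul] at hσ
      split_ifs at hσ with h1
      · by_contra hne
        exact hσ (by rw [coeff_monomial, if_neg hne, mul_zero])
      · simp at hσ
    rw [expo_cons]
    have hle : wt d n (permExp a.1 σ) ≤ wt d n (diagExp a) := by
      rcases eq_or_ne σ 1 with rfl | hσ
      · exact le_rfl
      · exact (wt_permExp_lt a hσ).le
    rcases ih y hy with rfl | hlt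
    · rcases eq_or_ne σ 1 with rfl | hσ
      · exact Or.inl rfl
      · refine Or.inr ?_
        rw [map_add, map_add]
        exact Nat.add_lt_add_right (wt_permExp_lt a hσ) _
    · refine Or.inr ?_
      rw [map_add, map_add]
      exact Nat.add_lt_add_of_le_of_lt hle hlt

theorem mk_mem_span_of_support (hd : 0 < d) (g : PlRing K d n) (P : ℕ → Prop)
    (hP : ∀ a b, a ≤ b → P b → P a)
    (h : ∀ c ∈ (phi K (fun i t => i ≤ w.1 t) g).support, P (wt d n c)) :
    piW K w g ∈ Submodule.span K (vMon (piW K w) '' {u | IsStdOn (· ≤ w) u ∧ P (eW hibiWeight u)}) := by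
  classical
  set p : Fin n → Fin d → Prop := fun i t => i ≤ w.1 t
  obtain ⟨l, hl⟩ := exists_std_expansion K (· ≤ w) g
  have he : phi K p g = ∑ s ∈ l.support, l s • phi K p (mon K s.1) := by
    have : phi K p (g - Finsupp.linearCombination K (fun s : StdM (· ≤ w) => mon K s.1) l) = 0 :=
      (compat_le w).plD_le_ker hl
    rw [map_sub, sub_eq_zero] at this
    rw [this, Finsupp.linearCombination_apply, Finsupp.sum, map_sum]
    simp [map_smul]
  have key : ∀ u ∈ l.support, P (eW hibiWeight u.1) := by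
    intro u hu
    obtain ⟨j, hj, hmax⟩ := l.support.exists_max_image (fun s => eW hibiWeight s.1) ⟨u, hu⟩
    refine hP _ _ (hmax u hu) ?_
    rw [eW_hibi]
    refine h _ (mem_support_iff.2 ?_)
    rw [he, coeff_sum, sum_eq_single j, coeff_smul]
    · obtain ⟨h1, h2⟩ := phi_mon_monic K p (s := j.1) (fun θ hθ t => j.2.2 θ hθ t)
      rw [← h1, h2.coeff_degree, smul_eq_mul, mul_one]
      exact Finsupp.mem_support_iff.1 hj
    · intro b hb hbj
      rw [coeff_smul]
      refine mul_eq_zero_of_right _ ?_
      by_contra hc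
      rcases support_phi_mon K p b.1 _ (mem_support_iff.2 hc) with e | hlt
      · exact hbj (Subtype.ext (expo_injOn hd b.2.1 j.2.1 e.symm))
      · have := hmax b hb
        rw [eW_hibi, eW_hibi] at this
        omega
    · intro hc; exact absurd hj hc
  have h0 : piW K w g = piW K w (Finsupp.linearCombination K (fun s : StdM (· ≤ w) => mon K s.1) l) :=
    (Ideal.Quotient.mk_eq_mk_iff_sub_mem _ _).2 hl
  rw [h0, Finsupp.linearCombination_apply, map_finsuppSum]
  refine Submodule.sum_mem _ fun u hu => ?_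
  dsimp only
  rw [map_smul]
  exact Submodule.smul_mem _ _ (Submodule.subset_span ⟨u.1, ⟨u.2, key u hu⟩, rfl⟩)

theorem weightOK_hibi (hd : 0 < d) : WeightOK (piW K w) w hibiWeight := fun s _ =>
  mk_mem_span_of_support K w hd (mon K s) (· ≤ eW hibiWeight s) (fun _ _ h h' => h.trans h') fun c hc => by
    rw [eW_hibi]
    rcases support_phi_mon K _ s c hc with rfl | h
    · exact le_rfl
    · exact h.le

theorem bA_apply (hd : 0 < d) (u : StdM (· ≤ w)) :
    (compat_le w).basis (K := K) hd u = vMon (piW K w) u.1 := by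
  rw [Compat.basis_apply]
  rfl

theorem srDegeneration (hd : 0 < d) :
    ∃ (R : Type u) (_ : CommRing R) (_ : Algebra K R) (_ : Algebra (Polynomial K) R)
      (_ : IsScalarTower K (Polynomial K) R),
      Module.Free (Polynomial K) R ∧
      Nonempty ((R ⧸ Ideal.span {algebraMap (Polynomial K) R Polynomial.X}) ≃ₐ[K]
        (MvPolynomial (Below w) K ⧸ srIdeal K w)) ∧
      ∀ c : K, c ≠ 0 →
        Nonempty ((R ⧸ Ideal.span {algebraMap (Polynomial K) R (Polynomial.X - Polynomial.C c)}) ≃ₐ[K]
          (PlRing K d n ⧸ plD K (· ≤ w))) := by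
  classical
  refine exists_degeneration (π := piW K w) (w := w) (e0 := srWeight) ((compat_le w).basis hd)
    (bA_apply K w hd) (weightOK_sr K w) (srIdeal K w) (span_of_monomials K w _ fun s => ?_) ?_
  · by_cases hs : IsStd (s.map Subtype.val)
    · exact Submodule.mem_sup_right (Submodule.subset_span ⟨s, hs, rfl⟩)
    · obtain ⟨a, b, t, rfl, h1, h2⟩ := exists_incomparable w hs
      refine Submodule.mem_sup_left ?_
      show monB K w _ ∈ srIdeal K w
      simp only [monB, Multiset.map_cons, Multiset.prod_cons, ← mul_assoc]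
      exact Ideal.mul_mem_right _ _ (Ideal.subset_span ⟨a, b, h1, h2, rfl⟩)
  · refine Ideal.span_le.2 ?_
    rintro f ⟨a, b, h1, h2, rfl⟩
    have e : (X a * X b : MvPolynomial (Below w) K) = monB K w (a ::ₘ b ::ₘ 0) := by simp [monB]
    rw [e]
    refine theta_monB_eq_zero (π := piW K w) ((compat_le w).basis hd) (bA_apply K w hd) (weightOK_sr K w) ?_
    refine Submodule.span_mono (Set.image_mono fun u
      (hu : IsStdOn (· ≤ w) u ∧ (u = (a ::ₘ b ::ₘ 0).map Subtype.val ∨
        eW srWeight u < eW srWeight ((a ::ₘ b ::ₘ 0).map Subtype.val))) =>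
      (⟨hu.1, hu.2.resolve_left fun e' => ?_⟩ : IsStdOn (· ≤ w) u ∧
        eW srWeight u < eW srWeight ((a ::ₘ b ::ₘ 0).map Subtype.val))) (vMon_mem_sr K w _)
    rcases hu.1.1 a.1 (by rw [e']; simp) b.1 (by rw [e']; simp) with h | h
    · exact h1 h
    · exact h2 h

theorem spread_lt_sup_inf {τ φ : Idx d n} (h1 : ¬ τ ≤ φ) (h2 : ¬ φ ≤ τ) :
    spread (τ ::ₘ φ ::ₘ 0) <
      spread (W4bk4grassmannian.sup τ φ ::ₘ W4bk4grassmannian.inf τ φ ::ₘ 0) := by
  have hA : sumVal τ < sumVal (W4bk4grassmannian.sup τ φ) := by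
    refine sum_lt_sum (fun t _ => le_max_left (τ.1 t).val _) ?_
    by_contra hc
    push Not at hc
    exact h2 fun t => (le_max_right (τ.1 t) (φ.1 t)).trans (hc t (mem_univ t))
  have hB : sumVal φ < sumVal (W4bk4grassmannian.sup τ φ) := by
    refine sum_lt_sum (fun t _ => le_max_right _ (φ.1 t).val) ?_
    by_contra hc
    push Not at hc
    exact h1 fun t => (le_max_left (τ.1 t) (φ.1 t)).trans (hc t (mem_univ t))
  have hsum : sumVal (W4bk4grassmannian.sup τ φ) + sumVal (W4bk4grassmannian.inf τ φ) =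
      sumVal τ + sumVal φ := by
    unfold sumVal
    rw [← sum_add_distrib, ← sum_add_distrib]
    refine sum_congr rfl fun t _ => ?_
    show (max (τ.1 t) (φ.1 t)).val + (min (τ.1 t) (φ.1 t)).val = _
    rcases le_total (τ.1 t) (φ.1 t) with h | h
    · rw [max_eq_right h, min_eq_left h, add_comm]
    · rw [max_eq_left h, min_eq_right h]
  simp only [spread, Multiset.map_cons, Multiset.map_zero, Multiset.sum_cons, Multiset.sum_zero, add_zero]
  have e : (sumVal (W4bk4grassmannian.sup τ φ) : ℤ) + sumVal (W4bk4grassmannian.inf τ φ) =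
      sumVal τ + sumVal φ := by exact_mod_cast hsum
  have eA : (sumVal τ : ℤ) < sumVal (W4bk4grassmannian.sup τ φ) := by exact_mod_cast hA
  have eB : (sumVal φ : ℤ) < sumVal (W4bk4grassmannian.sup τ φ) := by exact_mod_cast hB
  zify
  nlinarith [mul_pos (sub_pos.2 eA) (sub_pos.2 eB)]

theorem monB_mem_hibi (s : Multiset (Below w)) :
    monB K w s ∈ (hibiIdeal K w).restrictScalars K ⊔
      Submodule.span K (monB K w '' {s | IsStd (s.map Subtype.val)}) := by
  generalize hN : s.card * (d * n) ^ 2 - spread (s.map Subtype.val) = N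
  induction N using Nat.strong_induction_on generalizing s with
  | _ N ih =>
    by_cases hs : IsStd (s.map Subtype.val)
    · exact Submodule.mem_sup_right (Submodule.subset_span ⟨s, hs, rfl⟩)
    · obtain ⟨a, b, t, rfl, h1, h2⟩ := exists_incomparable w hs
      have hlt : spread ((a ::ₘ b ::ₘ t).map Subtype.val) <
          spread ((Below.sup a b ::ₘ Below.inf a b ::ₘ t).map Subtype.val) := by
        have := spread_lt_sup_inf h1 h2
        simp only [spread, Multiset.map_cons, Multiset.map_zero, Multiset.sum_cons, Multiset.sum_zero,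
          Below.sup, Below.inf] at this ⊢
        omega
      have hb := spread_le ((Below.sup a b ::ₘ Below.inf a b ::ₘ t).map Subtype.val)
      have hcard : (Below.sup a b ::ₘ Below.inf a b ::ₘ t).card = (a ::ₘ b ::ₘ t).card := by simp
      rw [Multiset.card_map, hcard] at hb
      have h3 := ih _ (by rw [← hN, hcard]; omega) (Below.sup a b ::ₘ Below.inf a b ::ₘ t) rfl
      have e : monB K w (a ::ₘ b ::ₘ t) = (X a * X b - X (Below.sup a b) * X (Below.inf a b)) * monB K w t +
          monB K w (Below.sup a b ::ₘ Below.inf a b ::ₘ t) := by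
        simp [monB]; ring
      rw [e]
      refine Submodule.add_mem _ (Submodule.mem_sup_left ?_) h3
      exact Ideal.mul_mem_right _ _ (Ideal.subset_span ⟨a, b, rfl⟩)

theorem hibiDegeneration (hd : 0 < d) :
    ∃ (R : Type u) (_ : CommRing R) (_ : Algebra K R) (_ : Algebra (Polynomial K) R)
      (_ : IsScalarTower K (Polynomial K) R),
      Module.Free (Polynomial K) R ∧
      Nonempty ((R ⧸ Ideal.span {algebraMap (Polynomial K) R Polynomial.X}) ≃ₐ[K]
        (MvPolynomial (Below w) K ⧸ hibiIdeal K w)) ∧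
      ∀ c : K, c ≠ 0 →
        Nonempty ((R ⧸ Ideal.span {algebraMap (Polynomial K) R (Polynomial.X - Polynomial.C c)}) ≃ₐ[K]
          (PlRing K d n ⧸ plD K (· ≤ w))) := by
  classical
  refine exists_degeneration (π := piW K w) (w := w) (e0 := hibiWeight) ((compat_le w).basis hd)
    (bA_apply K w hd) (weightOK_hibi K w hd) (hibiIdeal K w)
    (span_of_monomials K w _ (monB_mem_hibi K w)) ?_
  refine Ideal.span_le.2 ?_
  rintro f ⟨a, b, rfl⟩
  have e : (X a * X b - X (Below.sup a b) * X (Below.inf a b) : MvPolynomial (Below w) K) =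
      monB K w (a ::ₘ b ::ₘ 0) - monB K w (Below.sup a b ::ₘ Below.inf a b ::ₘ 0) := by simp [monB]
  rw [e]
  set s1 : Multiset (Idx d n) := (a ::ₘ b ::ₘ 0).map Subtype.val with hs1
  set s2 : Multiset (Idx d n) := (Below.sup a b ::ₘ Below.inf a b ::ₘ 0).map Subtype.val with hs2
  have hexp : expo s2 = expo s1 := by
    simpa [hs1, hs2, Below.sup, Below.inf] using expo_sup_inf a.1 b.1
  refine theta_monB_sub_eq_zero (π := piW K w) ((compat_le w).basis hd) (bA_apply K w hd)
    (weightOK_hibi K w hd) (by rw [eW_hibi, eW_hibi, ← hs1, ← hs2, hexp]) ?_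
  rw [← hs1, ← hs2, vMon, vMon, ← map_sub]
  refine mk_mem_span_of_support K w hd _ (· < eW hibiWeight s1) (fun _ _ h h' => h.trans_lt h') fun c hc => ?_
  rw [eW_hibi]
  rw [mem_support_iff, map_sub, coeff_sub] at hc
  have hle : ∀ s' : Multiset (Below w), ∀ θ ∈ s'.map Subtype.val, ∀ t : Fin d, (θ : Idx d n).1 t ≤ w.1 t := by
    intro s' θ hθ t
    obtain ⟨x, -, rfl⟩ := Multiset.mem_map.1 hθ
    exact x.2 t
  by_contra hlt
  apply hc
  have hz : ∀ s : Multiset (Idx d n), wt d n (expo s) = wt d n (expo s1) → c ≠ expo s →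
      coeff c (phi K (fun i t => i ≤ w.1 t) (mon K s)) = 0 := by
    intro s hs hne
    by_contra h0
    rcases support_phi_mon K _ s c (mem_support_iff.2 h0) with h | h
    · exact hne h
    · exact hlt (hs ▸ h)
  by_cases hce : c = expo s1
  · obtain ⟨d1, m1⟩ := phi_mon_monic K (fun i t => i ≤ w.1 t) (s := s1) (hle _)
    obtain ⟨d2, m2⟩ := phi_mon_monic K (fun i t => i ≤ w.1 t) (s := s2) (hle _)
    have c1 := m1.coeff_degree
    have c2 := m2.coeff_degree
    rw [d1] at c1
    rw [d2, hexp] at c2
    rw [hce, c1, c2, sub_self]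
  · rw [hz s1 rfl hce, hz s2 (by rw [hexp]) (by rw [hexp]; exact hce), sub_self]

end GrothLib.SMT
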