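import Groth.Agent.Lib.SMT.Basis
import Mathlib.RingTheory.PolynomialAlgebra
import Mathlib.RingTheory.Adjoin.Basic
import Mathlib.RingTheory.Ideal.Quotient.Operations
import Mathlib.LinearAlgebra.FreeModule.Basic
import Mathlib.Algebra.Polynomial.RingDivision

/-!
# Degenerations of a Schubert ring from a weight on the indices

Given weights `e0` for which straightening does not raise the weight, the `K[T]`-algebra generated
by `T^(e0 θ) X θ` inside `(K[X]/J(w))[T]` is free, its fibres at `c ≠ 0` are the Schubert ring, and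
its fibre at `0` is any quotient of `K[x θ : θ ≤ w]` satisfied by the leading products and spanned
by standard monomials (`exists_degeneration`).
-/

universe u

noncomputable section

open MvPolynomial W4bk4grassmannian Finset

namespace GrothLib.SMT

attribute [local instance] Polynomial.algebra

variable {d n : ℕ}

/-- The weight of a monomial. -/
def eW (e0 : Idx d n → ℕ) (s : Multiset (Idx d n)) : ℕ := (s.map e0).sum

theorem eW_add (e0 : Idx d n → ℕ) (s t : Multiset (Idx d n)) : eW e0 (s + t) = eW e0 s + eW e0 t := by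
  simp [eW]

variable {K : Type u} [Field K] {A : Type u} [CommRing A] [Algebra K A]
variable (π : PlRing K d n →ₐ[K] A) (w : Idx d n) (e0 : Idx d n → ℕ)

/-- The class of a monomial. -/
def vMon (s : Multiset (Idx d n)) : A := π (mon K s)

/-- A rescaled monomial. -/
def mT (s : Multiset (Idx d n)) : Polynomial A := Polynomial.monomial (eW e0 s) (vMon π s)

theorem mT_add (s t : Multiset (Idx d n)) : mT π e0 (s + t) = mT π e0 s * mT π e0 t := by
  rw [mT, mT, mT, Polynomial.monomial_mul_monomial, eW_add, vMon, mon_add, map_mul]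
  rfl

theorem mT_zero : mT π e0 0 = 1 := by
  simp [mT, eW, vMon]

theorem smul_monomial' (p : Polynomial K) (k : ℕ) (x : A) :
    p • Polynomial.monomial k x = p.map (algebraMap K A) * Polynomial.monomial k x := by
  rw [Algebra.smul_def]
  rfl

theorem coeff_smul_monomial (p : Polynomial K) (k : ℕ) (x : A) (i : ℕ) :
    (p • Polynomial.monomial k x).coeff (i + k) = p.coeff i • x := by
  rw [smul_monomial', Polynomial.coeff_mul_monomial, Polynomial.coeff_map]
  exact (Algebra.smul_def _ _).symm

theorem coeff_smul_monomial_of_lt (p : Polynomial K) (k : ℕ) (x : A) {j : ℕ} (hj : j < k) :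
    (p • Polynomial.monomial k x).coeff j = 0 := by
  rw [smul_monomial', ← Polynomial.C_mul_X_pow_eq_monomial, ← mul_assoc, Polynomial.coeff_mul_X_pow',
    if_neg (not_le.2 hj)]

theorem monomial_eq_smul (k l : ℕ) (x : A) :
    Polynomial.monomial (k + l) x = ((Polynomial.X : Polynomial K) ^ k) • Polynomial.monomial l x := by
  rw [smul_monomial', Polynomial.map_pow, Polynomial.map_X, Polynomial.X_pow_eq_monomial,
    Polynomial.monomial_mul_monomial, one_mul]

theorem monomial_smul (k : ℕ) (c : K) (x : A) :
    Polynomial.monomial k (c • x) = (Polynomial.C c) • Polynomial.monomial k x := by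
  rw [smul_monomial', Polynomial.map_C, Polynomial.C_mul_monomial, Algebra.smul_def]

/-- The total space of the degeneration. -/
def degenAlg : Subalgebra (Polynomial K) (Polynomial A) :=
  Algebra.adjoin (Polynomial K) (Set.range fun θ : Below w => mT π e0 {θ.1})

/-- Straightening does not raise the weight. -/
def WeightOK : Prop :=
  ∀ s : Multiset (Idx d n), (∀ θ ∈ s, θ ≤ w) →
    vMon π s ∈ Submodule.span K
      (vMon π '' {u | IsStdOn (· ≤ w) u ∧ eW e0 u ≤ eW e0 s})

variable {π w e0}

theorem monomial_mem_span {k : ℕ} {x : A}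
    (hx : x ∈ Submodule.span K (vMon π '' {u | IsStdOn (· ≤ w) u ∧ eW e0 u ≤ k})) :
    Polynomial.monomial k x ∈
      Submodule.span (Polynomial K) (Set.range fun u : StdM (· ≤ w) => mT π e0 u.1) := by
  induction hx using Submodule.span_induction with
  | zero => simp
  | add x y _ _ hx hy => rw [map_add]; exact Submodule.add_mem _ hx hy
  | smul c x _ hx => rw [monomial_smul]; exact Submodule.smul_mem _ _ hx
  | mem x hx =>
    obtain ⟨u, ⟨hu, hle⟩, rfl⟩ := hx
    obtain ⟨j, rfl⟩ := Nat.exists_eq_add_of_le hle
    rw [add_comm, monomial_eq_smul (K := K)]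
    exact Submodule.smul_mem _ _ (Submodule.subset_span ⟨⟨u, hu⟩, rfl⟩)

theorem mT_mem_span (hA : WeightOK π w e0) {s : Multiset (Idx d n)} (hs : ∀ θ ∈ s, θ ≤ w) :
    mT π e0 s ∈
      Submodule.span (Polynomial K) (Set.range fun u : StdM (· ≤ w) => mT π e0 u.1) :=
  monomial_mem_span (hA s hs)

theorem mT_mem_degenAlg {s : Multiset (Idx d n)} (hs : ∀ θ ∈ s, θ ≤ w) :
    mT π e0 s ∈ degenAlg π w e0 := by
  induction s using Multiset.induction with
  | empty => rw [mT_zero]; exact one_mem _
  | cons a s ih =>
    rw [← Multiset.singleton_add, mT_add]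
    exact mul_mem (Algebra.subset_adjoin ⟨⟨a, hs a (Multiset.mem_cons_self _ _)⟩, rfl⟩)
      (ih fun θ hθ => hs θ (Multiset.mem_cons_of_mem hθ))

theorem degenAlg_eq_span (hA : WeightOK π w e0) :
    Subalgebra.toSubmodule (degenAlg π w e0) =
      Submodule.span (Polynomial K) (Set.range fun u : StdM (· ≤ w) => mT π e0 u.1) := by
  have key : ∀ x y, x ∈ Submodule.span (Polynomial K) (Set.range fun u : StdM (· ≤ w) => mT π e0 u.1) →
      y ∈ Submodule.span (Polynomial K) (Set.range fun u : StdM (· ≤ w) => mT π e0 u.1) →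
      x * y ∈ Submodule.span (Polynomial K) (Set.range fun u : StdM (· ≤ w) => mT π e0 u.1) := by
    intro x y hx hy
    have h := Submodule.mul_mem_mul hx hy
    rw [Submodule.span_mul_span] at h
    refine Submodule.span_le.2 ?_ h
    rintro _ ⟨_, ⟨u, rfl⟩, _, ⟨v, rfl⟩, rfl⟩
    dsimp only
    rw [← mT_add]
    exact mT_mem_span hA fun θ hθ => (Multiset.mem_add.1 hθ).elim (u.2.2 θ) (v.2.2 θ)
  refine le_antisymm (fun x hx => ?_) (Submodule.span_le.2 ?_)
  · induction hx using Algebra.adjoin_induction with
    | mem x hx =>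
      obtain ⟨θ, rfl⟩ := hx
      exact mT_mem_span hA fun a ha => by rw [Multiset.mem_singleton.1 ha]; exact θ.2
    | algebraMap p =>
      rw [Algebra.algebraMap_eq_smul_one, ← mT_zero π e0]
      exact Submodule.smul_mem _ _ (Submodule.subset_span ⟨⟨0, IsStd.zero, by simp⟩, rfl⟩)
    | add x y _ _ hx hy => exact Submodule.add_mem _ hx hy
    | mul x y _ _ hx hy => exact key x y hx hy
  · rintro _ ⟨u, rfl⟩
    exact mT_mem_degenAlg u.2.2

theorem linearIndependent_mT (hv : LinearIndependent K fun u : StdM (· ≤ w) => vMon π u.1) :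
    LinearIndependent (Polynomial K) (fun u : StdM (· ≤ w) => mT π e0 u.1) := by
  classical
  rw [linearIndependent_iff']
  intro T g hg u hu
  ext i
  have h := congrArg (fun p : Polynomial A => p.coeff (i + eW e0 u.1)) hg
  simp only [Polynomial.finsetSum_coeff, Polynomial.coeff_zero] at h
  have h2 : ∑ x ∈ T, (if eW e0 x.1 ≤ i + eW e0 u.1 then (g x).coeff (i + eW e0 u.1 - eW e0 x.1) else 0) •
      vMon π x.1 = 0 := by
    rw [← h]
    refine sum_congr rfl fun x _ => ?_
    split_ifs with hle
    · obtain ⟨j, hj⟩ := Nat.exists_eq_add_of_le hle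
      rw [hj, Nat.add_sub_cancel_left, add_comm (eW e0 x.1), mT, coeff_smul_monomial]
    · rw [zero_smul, mT, coeff_smul_monomial_of_lt _ _ _ (not_le.1 hle)]
  have h3 := linearIndependent_iff'.1 hv T _ h2 u hu
  rw [if_pos (Nat.le_add_left _ _), Nat.add_sub_cancel_right] at h3
  simpa using h3

theorem li_of_basis (bA : Module.Basis (StdM (· ≤ w)) K A) (hbA : ∀ u, bA u = vMon π u.1) :
    LinearIndependent K fun u : StdM (· ≤ w) => vMon π u.1 := by
  rw [← funext hbA]
  exact bA.linearIndependent

/-- The standard monomial basis of the total space. -/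
def degenBasis (bA : Module.Basis (StdM (· ≤ w)) K A) (hbA : ∀ u, bA u = vMon π u.1) (hA : WeightOK π w e0) :
    Module.Basis (StdM (· ≤ w)) (Polynomial K) (degenAlg π w e0) :=
  (Module.Basis.span (linearIndependent_mT (li_of_basis bA hbA))).map
    (LinearEquiv.ofEq _ _ (degenAlg_eq_span hA).symm)

theorem degenBasis_apply (bA : Module.Basis (StdM (· ≤ w)) K A) (hbA : ∀ u, bA u = vMon π u.1) (hA : WeightOK π w e0) (u : StdM (· ≤ w)) :
    ((degenBasis bA hbA hA u : degenAlg π w e0) : Polynomial A) = mT π e0 u.1 := by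
  simp only [degenBasis, Module.Basis.map_apply]
  exact congrArg Subtype.val (Module.Basis.span_apply (linearIndependent_mT (li_of_basis bA hbA)) u) |>.trans rfl

theorem monomial_mem_X_mul (bA : Module.Basis (StdM (· ≤ w)) K A) (hbA : ∀ u, bA u = vMon π u.1) (hA : WeightOK π w e0) {E : ℕ} {x : A}
    (hx : x ∈ Submodule.span K (vMon π '' {u | IsStdOn (· ≤ w) u ∧ eW e0 u < E})) :
    ∃ r : degenAlg π w e0, Polynomial.monomial E x = (Polynomial.X : Polynomial K) • (r : Polynomial A) := by
  rcases Nat.eq_zero_or_pos E with rfl | hE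
  · have : x = 0 := by
      have he : vMon π '' {u | IsStdOn (· ≤ w) u ∧ eW e0 u < 0} = ∅ := by simp
      rw [he, Submodule.span_empty] at hx
      simpa using hx
    exact ⟨0, by simp [this]⟩
  · have hx' : x ∈ Submodule.span K (vMon π '' {u | IsStdOn (· ≤ w) u ∧ eW e0 u ≤ E - 1}) :=
      Submodule.span_mono (Set.image_mono (fun u (hu : IsStdOn (· ≤ w) u ∧ eW e0 u < E) =>
        (⟨hu.1, Nat.le_sub_one_of_lt hu.2⟩ : IsStdOn (· ≤ w) u ∧ eW e0 u ≤ E - 1))) hx
    refine ⟨⟨Polynomial.monomial (E - 1) x, ?_⟩, ?_⟩
    · rw [← Subalgebra.mem_toSubmodule, degenAlg_eq_span hA]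
      exact monomial_mem_span hx'
    · conv_lhs => rw [show E = 1 + (E - 1) from by omega, monomial_eq_smul (K := K), pow_one]

variable (π w e0)

/-- The monomial of a multiset in the polynomial ring on `Below w`. -/
def monB (K : Type u) [Field K] {d n : ℕ} (w : Idx d n) (s : Multiset (Below w)) : MvPolynomial (Below w) K := (s.map X).prod

/-- A generator of the total space. -/
def gen (θ : Below w) : degenAlg π w e0 := ⟨mT π e0 {θ.1}, Algebra.subset_adjoin ⟨θ, rfl⟩⟩

/-- The comparison map to the special fibre. -/
def theta : MvPolynomial (Below w) K →ₐ[K]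
    (degenAlg π w e0 ⧸ Ideal.span {algebraMap (Polynomial K) (degenAlg π w e0) Polynomial.X}) :=
  aeval fun θ : Below w => Ideal.Quotient.mk
    (Ideal.span {algebraMap (Polynomial K) (degenAlg π w e0) Polynomial.X}) (gen π w e0 θ)

theorem theta_monB (s : Multiset (Below w)) :
    theta π w e0 (monB K w s) = Ideal.Quotient.mk _
      ⟨mT π e0 (s.map Subtype.val), mT_mem_degenAlg fun θ hθ => by
        obtain ⟨a, -, rfl⟩ := Multiset.mem_map.1 hθ
        exact a.2⟩ := by
  induction s using Multiset.induction with
  | empty =>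
    simp only [monB, Multiset.map_zero, Multiset.prod_zero, map_one]
    rw [← map_one (Ideal.Quotient.mk (Ideal.span {algebraMap (Polynomial K) (degenAlg π w e0) Polynomial.X}))]
    congr 1
    exact Subtype.ext (mT_zero π e0).symm
  | cons a s ih =>
    rw [monB] at ih
    simp only [monB, Multiset.map_cons, Multiset.prod_cons, map_mul, ih]
    rw [theta, aeval_X, gen, ← map_mul]
    congr 1
    refine Subtype.ext ?_
    show mT π e0 {a.1} * mT π e0 (s.map Subtype.val) = mT π e0 (a.1 ::ₘ s.map Subtype.val)
    rw [← mT_add, Multiset.singleton_add]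

variable {π w e0}

theorem theta_monB_eq_zero (bA : Module.Basis (StdM (· ≤ w)) K A) (hbA : ∀ u, bA u = vMon π u.1) (hA : WeightOK π w e0) {s : Multiset (Below w)}
    (hx : vMon π (s.map Subtype.val) ∈ Submodule.span K
      (vMon π '' {u | IsStdOn (· ≤ w) u ∧ eW e0 u < eW e0 (s.map Subtype.val)})) :
    theta π w e0 (monB K w s) = 0 := by
  obtain ⟨r, hr⟩ := monomial_mem_X_mul bA hbA hA hx
  rw [theta_monB, Ideal.Quotient.eq_zero_iff_mem, Ideal.mem_span_singleton]
  refine ⟨r, Subtype.ext ?_⟩
  show mT π e0 _ = algebraMap (Polynomial K) (Polynomial A) Polynomial.X * _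
  rw [mT, hr, Algebra.smul_def]

theorem theta_monB_sub_eq_zero (bA : Module.Basis (StdM (· ≤ w)) K A) (hbA : ∀ u, bA u = vMon π u.1) (hA : WeightOK π w e0) {s t : Multiset (Below w)}
    (he : eW e0 (s.map Subtype.val) = eW e0 (t.map Subtype.val))
    (hx : vMon π (s.map Subtype.val) - vMon π (t.map Subtype.val) ∈ Submodule.span K
      (vMon π '' {u | IsStdOn (· ≤ w) u ∧ eW e0 u < eW e0 (s.map Subtype.val)})) :
    theta π w e0 (monB K w s - monB K w t) = 0 := by
  obtain ⟨r, hr⟩ := monomial_mem_X_mul bA hbA hA hx
  rw [map_sub, theta_monB, theta_monB, sub_eq_zero, Ideal.Quotient.mk_eq_mk_iff_sub_mem,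
    Ideal.mem_span_singleton]
  refine ⟨r, Subtype.ext ?_⟩
  show mT π e0 _ - mT π e0 _ = algebraMap (Polynomial K) (Polynomial A) Polynomial.X * _
  rw [← Algebra.smul_def, ← hr, map_sub, mT, mT, he]

theorem exists_degeneration (bA : Module.Basis (StdM (· ≤ w)) K A) (hbA : ∀ u, bA u = vMon π u.1) (hA : WeightOK π w e0)
    (G : Ideal (MvPolynomial (Below w) K))
    (hB : ∀ f, f ∈ G.restrictScalars K ⊔
      Submodule.span K (monB K w '' {s | IsStd (s.map Subtype.val)}))
    (hC : G ≤ RingHom.ker (theta π w e0).toRingHom) :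
    ∃ (R : Type u) (_ : CommRing R) (_ : Algebra K R) (_ : Algebra (Polynomial K) R)
      (_ : IsScalarTower K (Polynomial K) R),
      Module.Free (Polynomial K) R ∧
      Nonempty ((R ⧸ Ideal.span {algebraMap (Polynomial K) R Polynomial.X}) ≃ₐ[K]
        (MvPolynomial (Below w) K ⧸ G)) ∧
      ∀ c : K, c ≠ 0 →
        Nonempty ((R ⧸ Ideal.span {algebraMap (Polynomial K) R (Polynomial.X - Polynomial.C c)}) ≃ₐ[K]
          A) := by
  classical
  have htower : IsScalarTower K (Polynomial K) (Polynomial A) :=
    IsScalarTower.of_algebraMap_eq fun x => by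
      show algebraMap K (Polynomial A) x = (algebraMap K (Polynomial K) x).map _
      simp [Polynomial.algebraMap_apply]
  set bs := degenBasis bA hbA hA
  refine ⟨degenAlg π w e0, inferInstance, inferInstance, inferInstance, inferInstance,
    Module.Free.of_basis bs, ⟨?_⟩, fun c hc => ⟨?_⟩⟩
  · refine ((AlgEquiv.ofBijective (Ideal.Quotient.liftₐ G (theta π w e0) hC) ⟨?_, ?_⟩)).symm
    · rw [injective_iff_map_eq_zero]
      intro x hx
      obtain ⟨f, rfl⟩ := Ideal.Quotient.mk_surjective x
      obtain ⟨g, hg, h, hh, rfl⟩ := Submodule.mem_sup.1 (hB f)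
      have hx' : theta π w e0 (g + h) = 0 := hx
      rw [map_add, show theta π w e0 g = 0 from hC hg, zero_add] at hx'
      rw [Ideal.Quotient.eq_zero_iff_mem]
      refine G.add_mem hg ?_
      obtain ⟨l, hl, rfl⟩ := (Finsupp.mem_span_image_iff_linearCombination K).1 hh
      suffices l = 0 by simp [this]
      let toS : Multiset (Below w) → StdM (· ≤ w) := fun s =>
        if hs : IsStd (s.map Subtype.val) then ⟨s.map Subtype.val, hs, fun θ hθ => by
          obtain ⟨a, -, rfl⟩ := Multiset.mem_map.1 hθ
          exact a.2⟩ else ⟨0, IsStd.zero, by simp⟩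
      have hsum : Ideal.Quotient.mk (Ideal.span {algebraMap (Polynomial K) (degenAlg π w e0) Polynomial.X})
          (∑ s ∈ l.support, Polynomial.C (l s) • bs (toS s)) = 0 := by
        rw [← hx', Finsupp.linearCombination_apply, Finsupp.sum, map_sum, map_sum]
        refine sum_congr rfl fun s hs => ?_
        conv_rhs => rw [← MvPolynomial.C_mul', map_mul, theta_monB, ← MvPolynomial.algebraMap_eq,
          AlgHom.commutes]
        rw [Algebra.smul_def, map_mul]
        have hb : bs (toS s) = ⟨mT π e0 (s.map Subtype.val), mT_mem_degenAlg fun θ hθ => by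
            obtain ⟨a, -, rfl⟩ := Multiset.mem_map.1 hθ
            exact a.2⟩ := by
          apply Subtype.ext
          rw [degenBasis_apply]
          simp only [toS, dif_pos (show IsStd (s.map Subtype.val) from hl hs)]
        rw [hb]
        congr 1
        rw [← Polynomial.algebraMap_eq, ← IsScalarTower.algebraMap_apply]
        rfl
      rw [Ideal.Quotient.eq_zero_iff_mem, Ideal.mem_span_singleton'] at hsum
      obtain ⟨r, hr⟩ := hsum
      refine Finsupp.ext fun s => ?_
      by_contra hs
      have hs' : s ∈ l.support := Finsupp.mem_support_iff.2 hs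
      have h1 := congrArg (fun z => bs.repr z (toS s)) hr
      rw [mul_comm, ← Algebra.smul_def, map_smul, Finsupp.smul_apply, smul_eq_mul, map_sum,
        Finsupp.finsetSum_apply, Finset.sum_eq_single s] at h1
      · rw [map_smul, Module.Basis.repr_self, Finsupp.smul_apply, Finsupp.single_eq_same, smul_eq_mul,
          mul_one] at h1
        have h2 := congrArg (fun p : Polynomial K => p.coeff 0) h1
        simp at h2
        exact hs h2.symm
      · intro b hb hbs
        rw [map_smul, Module.Basis.repr_self, Finsupp.smul_apply, Finsupp.single_eq_of_ne, smul_zero]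
        intro e
        apply hbs
        have h3 := congrArg Subtype.val e
        simp only [toS, dif_pos (show IsStd (s.map Subtype.val) from hl hs'),
          dif_pos (show IsStd (b.map Subtype.val) from hl hb)] at h3
        exact Multiset.map_injective Subtype.val_injective h3.symm
      · exact fun h => absurd hs' h
    · intro x
      obtain ⟨r, rfl⟩ := Ideal.Quotient.mk_surjective x
      suffices Ideal.Quotient.mk _ r ∈ (theta π w e0).range by
        obtain ⟨f, hf⟩ := this
        exact ⟨Ideal.Quotient.mk G f, hf⟩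
      rw [← bs.linearCombination_repr r, Finsupp.linearCombination_apply, Finsupp.sum, map_sum]
      refine sum_mem fun u _ => ?_
      rw [Algebra.smul_def, map_mul]
      refine mul_mem ?_ ⟨monB K w (u.1.attach.map fun θ => ⟨θ.1, u.2.2 θ.1 θ.2⟩), ?_⟩
      · obtain ⟨p', hp'⟩ : ∃ p', bs.repr r u = Polynomial.X * p' + Polynomial.C ((bs.repr r u).coeff 0) :=
          ⟨_, (Polynomial.X_mul_divX_add _).symm⟩
        have : Ideal.Quotient.mk (Ideal.span {algebraMap (Polynomial K) (degenAlg π w e0) Polynomial.X})
            (algebraMap (Polynomial K) (degenAlg π w e0) (bs.repr r u)) =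
            algebraMap K _ ((bs.repr r u).coeff 0) := by
          conv_lhs => rw [hp']
          rw [map_add, map_add, map_mul, map_mul, Ideal.Quotient.mk_singleton_self, zero_mul, zero_add,
            ← Polynomial.algebraMap_eq, ← IsScalarTower.algebraMap_apply]
          rfl
        rw [this]
        exact Subalgebra.algebraMap_mem _ _
      · show theta π w e0 _ = _
        rw [theta_monB]
        congr 1
        apply Subtype.ext
        rw [degenBasis_apply]
        simp only [Multiset.map_map]
        congr 1
        exact Multiset.attach_map_val u.1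
  · let ev : degenAlg π w e0 →ₐ[K] A :=
      (AlgHom.restrictScalars K (Polynomial.aeval (R := A) (algebraMap K A c))).comp
        ((degenAlg π w e0).val.restrictScalars K)
    have hmap : ∀ p : Polynomial K, Polynomial.aeval (algebraMap K A c) (p.map (algebraMap K A)) =
        algebraMap K A (p.eval c) := fun p => by
      rw [Polynomial.coe_aeval_eq_eval, Polynomial.eval_map, ← Polynomial.aeval_def,
        Polynomial.aeval_algebraMap_apply_eq_algebraMap_eval]
    have hev : ∀ (p : Polynomial K) (u : StdM (· ≤ w)),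
        ev (p • bs u) = (p.eval c * c ^ eW e0 u.1) • vMon π u.1 := by
      intro p u
      show Polynomial.aeval (algebraMap K A c)
        (((p • bs u : degenAlg π w e0) : Polynomial A)) = _
      rw [Subalgebra.coe_smul, degenBasis_apply, mT, smul_monomial', map_mul, hmap, Polynomial.aeval_monomial, Algebra.algebraMap_self,
        RingHom.id_apply, Algebra.smul_def, map_mul, map_pow]
      ring
    have hsurj : Function.Surjective ev := by
      intro x
      have hx : x ∈ Submodule.span K (Set.range bA) := by
        rw [Module.Basis.span_eq]; trivial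
      induction hx using Submodule.span_induction with
      | zero => exact ⟨0, map_zero _⟩
      | add x y _ _ hx hy =>
        obtain ⟨a, rfl⟩ := hx
        obtain ⟨b, rfl⟩ := hy
        exact ⟨a + b, map_add _ _ _⟩
      | smul k x _ hx =>
        obtain ⟨a, rfl⟩ := hx
        exact ⟨k • a, map_smul _ _ _⟩
      | mem x hx =>
        obtain ⟨u, rfl⟩ := hx
        refine ⟨Polynomial.C ((c ^ eW e0 u.1)⁻¹) • bs u, ?_⟩
        rw [hev, Polynomial.eval_C, inv_mul_cancel₀ (pow_ne_zero _ hc), one_smul,
          hbA]
    refine (Ideal.quotientEquivAlgOfEq K ?_).trans (Ideal.quotientKerAlgEquivOfSurjective hsurj)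
    refine le_antisymm ?_ fun r hr => ?_
    · rw [Ideal.span_le, Set.singleton_subset_iff]
      show Polynomial.aeval (algebraMap K A c)
        (((Polynomial.X - Polynomial.C c : Polynomial K)).map (algebraMap K A)) = 0
      rw [hmap]
      simp
    · rw [Ideal.mem_span_singleton]
      have hr0 : ev r = 0 := hr
      rw [← bs.linearCombination_repr r, Finsupp.linearCombination_apply, Finsupp.sum] at hr0 ⊢
      rw [map_sum] at hr0
      simp only [hev] at hr0
      have hli := bA.linearIndependent
      refine Finset.dvd_sum fun u hu => ?_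
      have h0 := linearIndependent_iff'.1 hli _ (fun u => (bs.repr r u).eval c * c ^ eW e0 u.1) (by
        simpa [hbA, vMon] using hr0) u hu
      have h1 : (bs.repr r u).IsRoot c := (mul_eq_zero.1 h0).resolve_right (pow_ne_zero _ hc)
      rw [Algebra.smul_def]
      exact Dvd.dvd.mul_right (map_dvd _ (Polynomial.dvd_iff_isRoot.2 h1)) _

end GrothLib.SMT
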