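import Groth.Agent.Lib.SMT.LeadSet
import Mathlib.LinearAlgebra.Matrix.NonsingularInverse
import Mathlib.Algebra.MvPolynomial.NoZeroDivisors

/-!
# The first fundamental theorem for `SL_d`

An invariant polynomial times a power of the top minor is a polynomial in the minors, and the
leading exponents show that the top minor can be divided out.
-/

universe u

noncomputable section

open MvPolynomial W4bk4grassmannian Finset
open scoped MonomialOrder

namespace GrothLib.SMT

variable {K : Type u} {d n : ℕ}

/-- The first `d` rows. -/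
def botIdx (h : d ≤ n) : Idx d n := ⟨fun t => ⟨t.val, t.isLt.trans_le h⟩, fun _ _ h => h⟩

theorem eq_botIdx (h : d ≤ n) (hd : 0 < d) (θ : Idx d n)
    (hlast : (θ.1 ⟨d - 1, Nat.sub_lt hd one_pos⟩).val < d) : θ = botIdx h := by
  have hlt : ∀ t, (θ.1 t).val < d := fun t =>
    lt_of_le_of_lt (θ.2.monotone (show t ≤ ⟨d - 1, Nat.sub_lt hd one_pos⟩ from by
      show t.val ≤ d - 1
      omega)) hlast
  let g : Fin d → Fin d := fun t => ⟨(θ.1 t).val, hlt t⟩
  have hg : StrictMono g := fun a b hab => θ.2 hab
  apply Subtype.ext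
  funext t
  apply Fin.ext
  show (g t).val = t.val
  have h1 := strictMono_val_le hg t
  have hr : StrictMono fun t => Fin.rev (g (Fin.rev t)) := fun a b hab =>
    Fin.rev_lt_rev.2 (hg (Fin.rev_lt_rev.2 hab))
  have h2 := strictMono_val_le hr (Fin.rev t)
  simp only [Fin.rev_rev, Fin.val_rev] at h2
  omega

theorem mem_range_of_minor_mul_mem [Field K] (hd : 0 < d) (h : d ≤ n) (f : MatRing K d n)
    (g : PlRing K d n) (hg : pluckerMap K d n g = minor K d n (botIdx h).1 * f) :
    f ∈ (pluckerMap K d n).range := by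
  classical
  have hphi : ∀ x : PlRing K d n, phi K (fun _ _ => True) x = pluckerMap K d n x := fun x => by
    simp [phi, trunc_true]
  obtain ⟨hb1, hb2⟩ := trunc_minor_monic K (fun _ _ => True) (botIdx h) (fun _ => trivial)
  rw [trunc_true, AlgHom.id_apply] at hb1 hb2
  induction hdeg : (diagOrd d n).toSyn ((diagOrd d n).degree f) using WellFoundedLT.induction
    generalizing f g with
  | _ e ih =>
    subst hdeg
    rcases eq_or_ne f 0 with rfl | hf0
    · exact zero_mem _
    have hne : phi K (fun _ _ => True) g ≠ 0 := by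
      rw [hphi, hg]; exact mul_ne_zero hb2.ne_zero hf0
    have hE := compat_true.inE_degree hd g hne
    rw [hphi, hg, MonomialOrder.degree_mul hb2.ne_zero hf0, hb1] at hE
    obtain ⟨s, hs, -, hse⟩ := exists_std_of_inE hd hE
    obtain ⟨θ, hθ, hθl⟩ : ∃ θ ∈ s, θ.1 ⟨d - 1, Nat.sub_lt hd one_pos⟩ =
        (botIdx h).1 ⟨d - 1, Nat.sub_lt hd one_pos⟩ := by
      have hpos : 0 < expo s ((botIdx h).1 ⟨d - 1, Nat.sub_lt hd one_pos⟩,
          ⟨d - 1, Nat.sub_lt hd one_pos⟩) := by
        rw [hse, Finsupp.add_apply, diagExp_apply, if_pos rfl]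
        omega
      rw [expo_apply, Multiset.count_pos, Multiset.mem_map] at hpos
      exact hpos
    obtain rfl : θ = botIdx h := eq_botIdx h hd θ (by
      rw [hθl]
      show d - 1 < d
      omega)
    obtain ⟨s', rfl⟩ := Multiset.exists_cons_of_mem hθ
    rw [expo_cons, add_right_inj] at hse
    obtain ⟨hd1, hd2⟩ := phi_mon_monic K (fun _ _ => True) (s := s') (fun _ _ _ => trivial)
    rw [hphi] at hd1 hd2
    rw [hse] at hd1
    set g' : PlRing K d n := C ((diagOrd d n).leadingCoeff f) * mon K s'
    have hgval : pluckerMap K d n g' =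
        C ((diagOrd d n).leadingCoeff f) * pluckerMap K d n (mon K s') := by
      rw [map_mul, ← MvPolynomial.algebraMap_eq, AlgHom.commutes]
      rfl
    suffices hsub : f - pluckerMap K d n g' ∈ (pluckerMap K d n).range by
      simpa using add_mem hsub (⟨g', rfl⟩ : pluckerMap K d n g' ∈ (pluckerMap K d n).range)
    rcases eq_or_ne (f - pluckerMap K d n g') 0 with h0 | h0
    · rw [h0]; exact zero_mem _
    refine ih _ ?_ _ (g - X (botIdx h) * g') ?_ rfl
    · refine lt_of_le_of_ne ((diagOrd d n).degree_le_iff.2 fun c hc => ?_) fun e => ?_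
      · rcases Finset.mem_union.1 (MvPolynomial.support_sub _ _ _ hc) with hc | hc
        · exact (diagOrd d n).le_degree hc
        · refine ((diagOrd d n).le_degree hc).trans ?_
          rw [hgval, ← smul_eq_C_mul, ← hd1]
          exact MonomialOrder.degree_smul_le
      · apply (diagOrd d n).coeff_degree_ne_zero_iff.2 h0
        rw [(diagOrd d n).toSyn.injective e, hgval, coeff_sub, coeff_C_mul]
        conv_lhs => arg 2; arg 2; rw [← hd1, hd2.coeff_degree]
        simp [MonomialOrder.leadingCoeff]
    · rw [map_sub, map_mul (pluckerMap K d n) (X (botIdx h)) g', pluckerMap_X, hg, mul_sub]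

theorem mem_range_of_minor_pow_mul_mem [Field K] (hd : 0 < d) (h : d ≤ n) (f : MatRing K d n)
    (N : ℕ) (hN : minor K d n (botIdx h).1 ^ N * f ∈ (pluckerMap K d n).range) :
    f ∈ (pluckerMap K d n).range := by
  induction N with
  | zero => simpa using hN
  | succ N ih =>
    obtain ⟨g, hg⟩ := hN
    exact ih (mem_range_of_minor_mul_mem hd h _ g (by
      rw [← mul_assoc, ← pow_succ']
      exact hg))

/-- Evaluation of a right translate. -/
theorem eval_rightTranslate [CommRing K] (g : Matrix.SpecialLinearGroup (Fin d) K)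
    (A : Matrix (Fin n) (Fin d) K) (f : MatRing K d n) :
    eval (fun x => A x.1 x.2) (rightTranslate K d n g f) =
      eval (fun x => (A * (g : Matrix (Fin d) (Fin d) K)) x.1 x.2) f := by
  have : (MvPolynomial.aeval fun x : Fin n × Fin d => A x.1 x.2).comp (rightTranslate K d n g) =
      MvPolynomial.aeval fun x : Fin n × Fin d => (A * (g : Matrix (Fin d) (Fin d) K)) x.1 x.2 := by
    apply MvPolynomial.algHom_ext
    intro x
    simp [rightTranslate, Matrix.mul_apply]
  simpa [MvPolynomial.aeval_eq_eval] using DFunLike.congr_fun this f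

theorem rightTranslate_minor [CommRing K] (g : Matrix.SpecialLinearGroup (Fin d) K)
    (a : Fin d → Fin n) : rightTranslate K d n g (minor K d n a) = minor K d n a := by
  unfold W4bk4grassmannian.minor
  rw [AlgHom.map_det]
  have : (rightTranslate K d n g).mapMatrix (Matrix.of fun s t : Fin d => (X (a s, t) : MatRing K d n)) =
      (Matrix.of fun s t : Fin d => (X (a s, t) : MatRing K d n)) *
        (g : Matrix (Fin d) (Fin d) K).map (C : K →+* MatRing K d n) := by
    refine Matrix.ext fun s t => ?_
    simp [rightTranslate, Matrix.mul_apply]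
  rw [this, Matrix.det_mul, ← RingHom.mapMatrix_apply, ← RingHom.map_det, g.2, map_one, mul_one]

theorem mul_adjugate_apply [CommRing K] (A : Matrix (Fin n) (Fin d) K) (e : Fin d → Fin n)
    (i : Fin n) (t : Fin d) :
    (A * (A.submatrix e id).adjugate) i t = (A.submatrix (Function.update e t i) id).det := by
  have h2 : A.submatrix (Function.update e t i) id = (A.submatrix e id).updateRow t (A i) := by
    refine Matrix.ext fun s j => ?_
    by_cases h : s = t
    · subst h; simp
    · simp [h]
  rw [h2, ← Matrix.cramer_transpose_apply, Matrix.cramer_eq_adjugate_mulVec,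
    ← Matrix.adjugate_transpose, Matrix.mulVec_transpose]
  rfl

theorem exists_pow_mul_mem [Field K] [Infinite K] (hd : 0 < d) (h : d ≤ n) (f : MatRing K d n)
    (hf : ∀ g : Matrix.SpecialLinearGroup (Fin d) K, rightTranslate K d n g f = f) :
    ∃ N, minor K d n (botIdx h).1 ^ N * f ∈ (pluckerMap K d n).range := by
  classical
  let t0 : Fin d := ⟨0, hd⟩
  let wt : (Fin n × Fin d →₀ ℕ) → ℕ := fun e => e.sum fun x k => if x.2 = t0 then 0 else k
  let N := f.support.sup wt
  let M : Fin n × Fin d → PlRing K d n := fun x =>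
    coord K d n (Function.update (botIdx h).1 x.2 x.1)
  let P : PlRing K d n := ∑ e ∈ f.support,
    C (f.coeff e) * (e.prod fun x k => M x ^ k) * X (botIdx h) ^ (N - wt e)
  refine ⟨N, P, ?_⟩
  have hne : minor K d n (botIdx h).1 ≠ 0 := by
    have := (trunc_minor_monic K (fun _ _ => True) (botIdx h) (fun _ => trivial)).2
    rw [trunc_true, AlgHom.id_apply] at this
    exact this.ne_zero
  apply mul_left_cancel₀ hne
  refine MvPolynomial.funext fun a => ?_
  set A : Matrix (Fin n) (Fin d) K := Matrix.of fun i t => a (i, t) with hA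
  have ha : a = fun x => A x.1 x.2 := rfl
  rw [map_mul, map_mul]
  set δ : K := (A.submatrix (botIdx h).1 id).det with hδ
  have hδe : eval a (minor K d n (botIdx h).1) = δ := by
    rw [ha, ← pluckerMap_X, eval_pluckerMap]
    simp [evalMinors, δ]
  rw [hδe]
  rcases eq_or_ne δ 0 with h0 | h0
  · rw [h0, zero_mul, zero_mul]
  congr 1
  show eval a (pluckerMap K d n P) = _
  rw [map_mul, map_pow, hδe, ha, eval_pluckerMap]
  let D : Fin d → K := fun t => if t = t0 then δ else 1
  have hdetD : (Matrix.diagonal D).det = δ := by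
    rw [Matrix.det_diagonal]
    simp [D, Finset.prod_ite_eq']
  let g : Matrix.SpecialLinearGroup (Fin d) K :=
    ⟨(A.submatrix (botIdx h).1 id)⁻¹ * Matrix.diagonal D, by
      rw [Matrix.det_mul, hdetD, Matrix.det_nonsing_inv, Ring.inverse_eq_inv', ← hδ,
        inv_mul_cancel₀ h0]⟩
  have hinv : eval (fun x => A x.1 x.2) f =
      eval (fun x => (A * (g : Matrix (Fin d) (Fin d) K)) x.1 x.2) f := by
    rw [← eval_rightTranslate g A f, hf g]
  set v : Fin n × Fin d → K := fun x => evalMinors K d n A (M x)
  have hv : ∀ x, (A * (g : Matrix (Fin d) (Fin d) K)) x.1 x.2 =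
      v x * if x.2 = t0 then 1 else δ⁻¹ := by
    intro x
    have hv' : v x = (A * (A.submatrix (botIdx h).1 id).adjugate) x.1 x.2 := by
      rw [mul_adjugate_apply]
      show evalMinors K d n A (coord K d n _) = _
      rw [← eval_pluckerMap, pluckerMap_coord, W4bk4grassmannian.minor, RingHom.map_det]
      congr 1
      ext s t
      simp
    show (A * ((A.submatrix (botIdx h).1 id)⁻¹ * Matrix.diagonal D)) x.1 x.2 = _
    rw [← Matrix.mul_assoc, Matrix.mul_diagonal, Matrix.inv_def, Matrix.mul_smul, Matrix.smul_apply,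
      ← hv', Ring.inverse_eq_inv', ← hδ, smul_eq_mul]
    by_cases hx : x.2 = t0
    · simp only [D, if_pos hx]; field_simp
    · simp only [D, if_neg hx]; ring
  rw [hinv, MvPolynomial.eval_eq, Finset.mul_sum, map_sum]
  refine sum_congr rfl fun e he => ?_
  simp only [map_mul, map_pow, evalMinors, aeval_C, aeval_X, Algebra.algebraMap_self,
    RingHom.id_apply, ← hδ, Finsupp.prod, map_prod]
  have hw : wt e ≤ N := Finset.le_sup he
  have hprod : ∏ x ∈ e.support, (A * (g : Matrix (Fin d) (Fin d) K)) x.1 x.2 ^ e x =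
      (∏ x ∈ e.support, v x ^ e x) * δ⁻¹ ^ wt e := by
    simp only [hv, mul_pow, prod_mul_distrib]
    congr 1
    simp only [wt, Finsupp.sum]
    rw [← prod_pow_eq_pow_sum]
    refine prod_congr rfl fun x _ => ?_
    split_ifs <;> simp
  rw [hprod]
  have hpow : δ ^ N * δ⁻¹ ^ wt e = δ ^ (N - wt e) := by
    rw [inv_pow, pow_sub₀ _ h0 hw]
  rw [← hpow]
  simp only [v, evalMinors]
  ring

theorem fftSL [Field K] [Infinite K] (hd : 0 < d) (h : d ≤ n) (f : MatRing K d n) :
    (∀ g : Matrix.SpecialLinearGroup (Fin d) K, rightTranslate K d n g f = f) ↔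
      f ∈ Algebra.adjoin K (Set.range fun θ : Idx d n => minor K d n θ.1) := by
  constructor
  · intro hf
    obtain ⟨N, hN⟩ := exists_pow_mul_mem hd h f hf
    rw [Algebra.adjoin_range_eq_range_aeval]
    exact mem_range_of_minor_pow_mul_mem hd h f N hN
  · intro hf g
    induction hf using Algebra.adjoin_induction with
    | mem x hx => obtain ⟨θ, rfl⟩ := hx; exact rightTranslate_minor g θ.1
    | algebraMap r => exact AlgHom.commutes _ r
    | add x y _ _ hx hy => rw [map_add, hx, hy]
    | mul x y _ _ hx hy => rw [map_mul, hx, hy]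

end GrothLib.SMT
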