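import Groth.Agent.Lib.SMT.Homog
import Groth.Agent.Lib.SMT.Cell
import Groth.Agent.Lib.SMT.FFTSL

/-!
# Determinantal rings as dehomogenised Schubert rings

`cellMap`: restriction to the big cell.  `tauS s`: the largest index with at most `s` rows of `Z`.
`comap_cellMap_minorIdeal`: the `(s+1)`-minors pull back to `plD (≤ tauS s) + (X bot - 1)`.
-/

universe u

noncomputable section

open MvPolynomial W4bk4grassmannian Finset

namespace GrothLib.SMT

/-- Restriction of the Plücker coordinates to the big cell. -/
def cellMap (K : Type u) [CommRing K] (d r : ℕ) : PlRing K d (d + r) →ₐ[K] CellRing K d r :=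
  aeval (cellMinor K d r)

/-- Number of rows of an index in the generic block. -/
def low {d n : ℕ} (θ : Idx d n) : ℕ := (univ.filter fun c => d ≤ (θ.1 c).val).card

/-- The index of the Schubert variety cutting out the matrices of rank `≤ s`. -/
def tauS (d r s : ℕ) (hd : s ≤ d) (hr : s ≤ r) : Idx d (d + r) :=
  ⟨fun c => if c.val < d - s then ⟨s + c.val, by omega⟩ else ⟨r + c.val, by omega⟩, fun a b h => by
    have h' : a.val < b.val := h
    simp only [Fin.lt_def]
    split_ifs <;> simp <;> omega⟩

theorem val_add_le {d n : ℕ} (θ : Idx d n) (c : Fin d) (k : ℕ) (hk : c.val + k < d) :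
    (θ.1 c).val + k ≤ (θ.1 ⟨c.val + k, hk⟩).val := by
  induction k with
  | zero => simp
  | succ k ih =>
    have h1 := ih (by omega)
    have h2 : (θ.1 ⟨c.val + k, by omega⟩).val < (θ.1 ⟨c.val + (k + 1), hk⟩).val :=
      θ.2 (show c.val + k < c.val + (k + 1) by omega)
    omega

theorem le_tauS_iff {d r s : ℕ} (hd : s ≤ d) (hr : s ≤ r) (θ : Idx d (d + r)) :
    θ ≤ tauS d r s hd hr ↔ low θ ≤ s := by
  rcases hd.eq_or_lt with rfl | hlt
  · refine iff_of_true (fun c => ?_) ((card_filter_le _ _).trans (by simp))
    show θ.1 c ≤ if c.val < s - s then _ else _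
    rw [if_neg (by omega), Fin.le_def]
    have h1 := val_add_le θ c (s - 1 - c.val) (by omega)
    have := (θ.1 ⟨c.val + (s - 1 - c.val), by omega⟩).isLt
    show (θ.1 c).val ≤ r + c.val
    omega
  · constructor
    · intro h
      by_contra hc
      push Not at hc
      have h1 := (card_low_le_iff θ (t := s + 1) (by omega) hlt).2 hc
      have h2 : (θ.1 ⟨d - (s + 1), by omega⟩).val ≤ s + (d - (s + 1)) := by
        have := h ⟨d - (s + 1), by omega⟩
        simp only [tauS, Fin.le_def] at this
        rw [if_pos (by omega)] at this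
        simpa using this
      omega
    · intro h c
      show θ.1 c ≤ if c.val < d - s then _ else _
      split_ifs with hcs <;> rw [Fin.le_def]
      · have h1 : (θ.1 ⟨d - (s + 1), by omega⟩).val < d := by
          by_contra hc
          have := (card_low_le_iff θ (t := s + 1) (by omega) hlt).1 (by omega)
          unfold low at h
          omega
        have h2 := val_add_le θ c (d - (s + 1) - c.val) (by omega)
        have e : (⟨c.val + (d - (s + 1) - c.val), by omega⟩ : Fin d) = ⟨d - (s + 1), by omega⟩ :=
          Fin.ext (by simp only []; omega)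
        rw [e] at h2
        show (θ.1 c).val ≤ s + c.val
        omega
      · have h1 := val_add_le θ c (d - 1 - c.val) (by omega)
        have := (θ.1 ⟨c.val + (d - 1 - c.val), by omega⟩).isLt
        show (θ.1 c).val ≤ r + c.val
        omega

theorem low_botIdx (d r : ℕ) : low (botIdx (n := d + r) (d.le_add_right r)) = 0 := by
  simp [low, botIdx]

theorem codeg_tauS {d r s : ℕ} (hd : s ≤ d) (hr : s ≤ r) :
    codeg (tauS d r s hd hr) = (d - s) * s + s * r := by
  classical
  have h : ∀ c : Fin d, ((tauS d r s hd hr).1 c).val - c.val = if c.val < d - s then s else r := fun c => by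
    by_cases hc : c.val < d - s <;> simp [tauS, hc]
  rw [codeg, sum_congr rfl fun c _ => h c, Fin.sum_univ_eq_sum_range (fun i => if i < d - s then s else r),
    sum_ite]
  simp only [sum_const, smul_eq_mul]
  have h1 : (range d).filter (fun i => i < d - s) = range (d - s) := by
    ext i; simp; omega
  have h2 : (range d).filter (fun i => ¬ i < d - s) = Ico (d - s) d := by
    ext i; simp; omega
  rw [h1, h2, card_range, Nat.card_Ico, Nat.sub_sub_self hd]

section Maps

variable {K : Type u} [CommRing K] {d r : ℕ}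

theorem cellMap_X (θ : Idx d (d + r)) : cellMap K d r (X θ) = cellMinor K d r θ := by
  simp [cellMap]

theorem cellMap_bot : cellMap K d r (X (botIdx (d.le_add_right r))) = 1 := by
  rw [cellMap_X, cellMinor]
  have : (cellMatrix K d r).submatrix (botIdx (n := d + r) (d.le_add_right r)).1 id = 1 := by
    refine Matrix.ext fun s t => ?_
    simp [cellMatrix, botIdx, Matrix.one_apply, Fin.ext_iff]
  rw [this, Matrix.det_one]

theorem cellMap_eq : cellMap K d r =
    (aeval fun x : Fin (d + r) × Fin d => cellMatrix K d r x.1 x.2).comp (pluckerMap K d (d + r)) := by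
  apply MvPolynomial.algHom_ext
  intro θ
  rw [cellMap_X, AlgHom.comp_apply, pluckerMap_X, W4bk4grassmannian.minor, AlgHom.map_det, cellMinor]
  congr 1
  refine Matrix.ext fun s t => ?_
  simp

theorem cellMap_plIdealTop : plIdealTop (d := d) (n := d + r) K ≤ RingHom.ker (cellMap K d r).toRingHom := by
  rw [plIdealTop, Ideal.span_le]
  rintro f ⟨i, j, k, -, rfl⟩
  show cellMap K d r _ = 0
  rw [cellMap_eq, AlgHom.comp_apply, pluckerMap_shuffleRel, map_zero]

/-- The value of the cell matrix at a block `Z`. -/
def cellVal (Z : Fin r × Fin d → K) : Matrix (Fin (d + r)) (Fin d) K :=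
  (cellMatrix K d r).map (eval Z)

theorem eval_cellMap (Z : Fin r × Fin d → K) (g : PlRing K d (d + r)) :
    eval Z (cellMap K d r g) = evalMinors K d (d + r) (cellVal Z) g := by
  have : (MvPolynomial.aeval Z).comp (cellMap K d r) = evalMinors K d (d + r) (cellVal Z) := by
    apply MvPolynomial.algHom_ext
    intro θ
    rw [AlgHom.comp_apply, cellMap_X, cellMinor, AlgHom.map_det, evalMinors, aeval_X]
    congr 1
  simpa [MvPolynomial.aeval_eq_eval] using DFunLike.congr_fun this g

theorem evalMinors_mul {n : ℕ} (C : Matrix (Fin n) (Fin d) K) (G : Matrix (Fin d) (Fin d) K)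
    {g : PlRing K d n} {D : ℕ} (hg : g.IsHomogeneous D) :
    evalMinors K d n (C * G) g = G.det ^ D * evalMinors K d n C g := by
  classical
  have hm : ∀ θ : Idx d n, ((C * G).submatrix θ.1 id).det = G.det * (C.submatrix θ.1 id).det := fun θ => by
    rw [Matrix.submatrix_mul _ _ θ.1 id id Function.bijective_id, Matrix.submatrix_id_id, Matrix.det_mul,
      mul_comm]
  simp only [evalMinors, aeval_eq_eval, hm]
  rw [eval_eq, eval_eq, mul_sum]
  refine sum_congr rfl fun e he => ?_
  have hdeg : ∑ i ∈ e.support, e i = D := by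
    have := hg (mem_support_iff.1 he)
    simpa [Finsupp.weight_apply, Finsupp.sum] using this
  rw [← hdeg, ← prod_pow_eq_pow_sum]
  simp only [mul_pow, prod_mul_distrib]
  ring

theorem exists_cellVal (A : Matrix (Fin (d + r)) (Fin d) K)
    (h : IsUnit (A.submatrix (botIdx (n := d + r) (d.le_add_right r)).1 id).det) :
    ∃ (Z : Fin r × Fin d → K), A = cellVal Z * A.submatrix (botIdx (n := d + r) (d.le_add_right r)).1 id := by
  set G := A.submatrix (botIdx (n := d + r) (d.le_add_right r)).1 id
  refine ⟨fun x => (A * G⁻¹) (lowRow d x.1) x.2, ?_⟩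
  suffices hC : cellVal (fun x => (A * G⁻¹) (lowRow d x.1) x.2) = A * G⁻¹ by
    rw [hC, Matrix.mul_assoc, Matrix.nonsing_inv_mul _ h, Matrix.mul_one]
  refine Matrix.ext fun i t => ?_
  induction i using Fin.addCases with
  | left i =>
    have h1 : ((A.submatrix (botIdx (n := d + r) (d.le_add_right r)).1 id) * G⁻¹) i t = if i = t then 1 else 0 := by
      show (G * G⁻¹) i t = _
      rw [Matrix.mul_nonsing_inv _ h, Matrix.one_apply]
    rw [cellVal, Matrix.map_apply, cellMatrix_top, apply_ite (eval _), map_one, map_zero, ← h1]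
    rfl
  | right i =>
    rw [cellVal, Matrix.map_apply, show Fin.natAdd d i = lowRow d i from rfl, cellMatrix_low, eval_X]

theorem cellMap_surjective (hd : 0 < d) : Function.Surjective (cellMap K d r) := by
  classical
  rw [← AlgHom.range_eq_top, eq_top_iff, ← MvPolynomial.adjoin_range_X, Algebra.adjoin_le_iff]
  rintro _ ⟨⟨i, c⟩, rfl⟩
  let f : Fin 1 → Fin r := fun _ => i
  let g : Fin 1 → Fin d := fun _ => c
  have hf : Function.Injective f := Function.injective_of_subsingleton f
  have hg : Function.Injective g := Function.injective_of_subsingleton g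
  have h := det_eq_sign_cellMinor K hf hg
  rw [Matrix.det_fin_one] at h
  refine ⟨C ((cellSign f g : ℤ) : K) * X (cellIdx f g hf hg), ?_⟩
  show cellMap K d r _ = X (i, c)
  rw [map_mul, cellMap_X, ← MvPolynomial.algebraMap_eq, AlgHom.commutes]
  simp only [Matrix.submatrix_apply, genMatrix, Matrix.of_apply, f, g] at h
  rw [h]
  congr 1

/-- The dehomogenised Schubert ideal. -/
def cellIdeal (K : Type u) [CommRing K] {d r : ℕ} (s : ℕ) (hd : s ≤ d) (hr : s ≤ r) :
    Ideal (PlRing K d (d + r)) :=
  plD K (· ≤ tauS d r s hd hr) ⊔ Ideal.span {X (botIdx (d.le_add_right r)) - 1}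

end Maps

variable {K : Type u} [Field K] {d r s : ℕ}

theorem bot_notMem (hd : 0 < d) (hsd : s ≤ d) (hsr : s ≤ r) :
    (X (botIdx (d.le_add_right r)) : PlRing K d (d + r)) ∉ plD K (· ≤ tauS d r s hsd hsr) := by
  intro h
  have h0 : phi K (fun i t => i ≤ (tauS d r s hsd hsr).1 t) (X (botIdx (d.le_add_right r))) = 0 :=
    (compat_le _).plD_le_ker h
  rw [phi_X] at h0
  refine (trunc_minor_monic K _ (botIdx (d.le_add_right r)) ?_).2.ne_zero h0
  exact (le_tauS_iff hsd hsr (botIdx (d.le_add_right r))).2 (by rw [low_botIdx]; exact Nat.zero_le s)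

variable [Infinite K]

/-- A homogeneous polynomial vanishing on the part of the Schubert variety in the big cell. -/
theorem mem_plD_of_vanish_cell (hd : 0 < d) (hsd : s ≤ d) (hsr : s ≤ r) {g : PlRing K d (d + r)}
    {D : ℕ} (hg : g.IsHomogeneous D)
    (h : ∀ Z, (∀ φ : Idx d (d + r), s < low φ → eval Z (cellMinor K d r φ) = 0) →
      eval Z (cellMap K d r g) = 0) :
    g ∈ plD K (· ≤ tauS d r s hsd hsr) := by
  have hp := (compat_le (tauS d r s hsd hsr)).isPrime (K := K) hd
  refine (hp.mem_or_mem (x := X (botIdx (d.le_add_right r))) ?_).resolve_left (bot_notMem hd hsd hsr)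
  rw [← schubertVanishing_eq hd]
  simp only [schubertVanishing, Submodule.mem_iInf]
  intro A hA
  show evalMinors K d (d + r) A _ = 0
  rw [map_mul]
  by_cases h0 : (A.submatrix (botIdx (n := d + r) (d.le_add_right r)).1 id).det = 0
  · rw [evalMinors, aeval_X, h0, zero_mul]
  · obtain ⟨Z, hZ⟩ := exists_cellVal A (isUnit_iff_ne_zero.2 h0)
    have hz := h Z fun φ hφ => by
      have h1 := hA φ fun hle => absurd ((le_tauS_iff hsd hsr φ).1 hle) (not_le.2 hφ)
      rw [hZ, Matrix.submatrix_mul _ _ φ.1 id id Function.bijective_id, Matrix.submatrix_id_id,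
        Matrix.det_mul] at h1
      have h2 := (mul_eq_zero.1 h1).resolve_right h0
      rw [← cellMap_X, eval_cellMap, evalMinors, aeval_X]
      exact h2
    rw [eval_cellMap] at hz
    conv_lhs => arg 2; rw [hZ, evalMinors_mul _ _ hg, hz]
    simp

theorem comap_cellMap_minorIdeal (hd : 0 < d) (hsd : s ≤ d) (hsr : s ≤ r) :
    (CAlgX.minorIdeal (genMatrix K r d) (s + 1)).comap (cellMap K d r).toRingHom =
      cellIdeal K s hsd hsr := by
  classical
  set S : Set (PlRing K d (d + r)) := {f | ∃ φ, ¬ φ ≤ tauS d r s hsd hsr ∧ f = X φ}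
  have hI : CAlgX.minorIdeal (genMatrix K r d) (s + 1) = (Ideal.span S).map (cellMap K d r).toRingHom := by
    rw [Ideal.map_span]
    rcases hsd.eq_or_lt with rfl | hlt
    · have : S = ∅ := Set.eq_empty_iff_forall_notMem.2 fun f ⟨φ, hφ, _⟩ =>
        hφ ((le_tauS_iff _ _ φ).2 ((card_filter_le _ _).trans (by simp)))
      rw [this, Set.image_empty, Ideal.span_empty, eq_bot_iff]
      refine Ideal.span_le.2 ?_
      rintro x ⟨⟨f, g⟩, rfl⟩
      obtain ⟨a, b, he, hne⟩ := Function.not_injective_iff.1 (fun hg : Function.Injective g => by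
        have := Fintype.card_le_of_injective g hg; simp at this)
      exact Matrix.det_zero_of_column_eq hne (by intro c; simp [he])
    · rw [← span_cellMinor_eq_minorIdeal K hd (Nat.succ_pos s) hlt]
      congr 1
      ext f
      simp only [Set.mem_image]
      constructor
      · rintro ⟨θ, hθ, rfl⟩
        refine ⟨X θ, ⟨θ, fun hle => ?_, rfl⟩, cellMap_X θ⟩
        have h1 := (card_low_le_iff θ (Nat.succ_pos s) hlt).1 hθ
        have h2 := (le_tauS_iff hsd hsr θ).1 hle
        unfold low at h2
        omega
      · rintro ⟨_, ⟨φ, hφ, rfl⟩, rfl⟩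
        refine ⟨φ, (card_low_le_iff φ (Nat.succ_pos s) hlt).2 ?_, cellMap_X φ⟩
        by_contra hc
        exact hφ ((le_tauS_iff hsd hsr φ).2 (Nat.lt_succ_iff.1 (not_le.1 hc)))
  have hker : RingHom.ker (cellMap K d r).toRingHom ≤ cellIdeal K s hsd hsr := by
    intro g hg
    have hg0 : cellMap K d r g = 0 := hg
    set D := g.totalDegree
    have h1 := homogP_sub_mem (botIdx (d.le_add_right r)) (le_refl D) (g := g)
    have h2 : cellMap K d r (homogP (botIdx (d.le_add_right r)) D g) = 0 := by
      obtain ⟨c, hc⟩ := Ideal.mem_span_singleton'.1 h1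
      have := congrArg (cellMap K d r) hc
      rw [map_mul, map_sub, map_one, cellMap_bot, sub_self, mul_zero, map_sub, hg0, sub_zero] at this
      exact this.symm
    have h3 := mem_plD_of_vanish_cell hd hsd hsr
      (isHomogeneous_homogP (botIdx (d.le_add_right r)) D g) fun Z _ => by rw [h2, map_zero]
    simpa [cellIdeal] using
      Ideal.sub_mem _ (Ideal.mem_sup_left (T := Ideal.span {X (botIdx (d.le_add_right r)) - 1}) h3)
        (Ideal.mem_sup_right h1)
  refine le_antisymm ?_ (sup_le (sup_le ?_ ?_) ?_)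
  · rw [hI, Ideal.comap_map_of_surjective (cellMap K d r).toRingHom (cellMap_surjective hd), ← RingHom.ker_eq_comap_bot]
    exact sup_le (le_sup_right.trans le_sup_left) hker
  · exact cellMap_plIdealTop.trans (Ideal.comap_mono bot_le)
  · exact Ideal.map_le_iff_le_comap.1 hI.ge
  · rw [Ideal.span_le, Set.singleton_subset_iff, SetLike.mem_coe, Ideal.mem_comap]
    show cellMap K d r (X (botIdx (d.le_add_right r)) - 1) ∈ CAlgX.minorIdeal (genMatrix K r d) (s + 1)
    rw [map_sub, map_one, cellMap_bot, sub_self]
    exact zero_mem _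

omit [Infinite K] in
theorem cellIdeal_isPrime (hd : 0 < d) (hsd : s ≤ d) (hsr : s ≤ r) :
    (cellIdeal K s hsd hsr).IsPrime :=
  have := (compat_le (tauS d r s hsd hsr)).isPrime (K := K) hd
  isPrime_sup _ (fun _ hf m => component_mem_plD K hf m) (bot_notMem hd hsd hsr)

theorem minorIdeal_isPrime (hd : 0 < d) (hsd : s ≤ d) (hsr : s ≤ r) :
    (CAlgX.minorIdeal (genMatrix K r d) (s + 1)).IsPrime := by
  have h := cellIdeal_isPrime (K := K) hd hsd hsr
  rw [← comap_cellMap_minorIdeal hd hsd hsr] at h
  rw [← Ideal.map_comap_of_surjective (cellMap K d r).toRingHom (cellMap_surjective hd)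
    (CAlgX.minorIdeal (genMatrix K r d) (s + 1))]
  refine Ideal.map_isPrime_of_surjective (f := (cellMap K d r).toRingHom) (cellMap_surjective hd) ?_
  exact Ideal.comap_mono bot_le

end GrothLib.SMT
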