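import Groth.Agent.Lib.SMT.Free
import Groth.Agent.Lib.CMFree.FiniteFlat
import Mathlib.RingTheory.Ideal.HasGoingUp
import Mathlib.RingTheory.KrullDimension.Polynomial
import Mathlib.RingTheory.KrullDimension.Field

/-!
# Quotients with a good basis are finite free over a polynomial ring
-/

universe u

noncomputable section

open MvPolynomial W4bk4grassmannian Finset

namespace GrothLib.SMT

/-- An algebra finite free over a ring has the same Krull dimension. -/
theorem ringKrullDim_eq_of_finite_free (P A : Type*) [CommRing P] [CommRing A] [Algebra P A]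
    [Module.Finite P A] [Module.Free P A] [Nontrivial A] : ringKrullDim A = ringKrullDim P := by
  have : Algebra.IsIntegral P A := Algebra.IsIntegral.of_finite P A
  refine le_antisymm (Order.krullDim_le_of_strictMono (PrimeSpectrum.comap (algebraMap P A))
    fun I J h => ?_) ?_
  · exact Ideal.IsIntegral.comap_lt_comap (R := P) (I := I.asIdeal) (J := J.asIdeal) h
  · refine iSup_le fun l => ?_
    obtain ⟨Q, -, hQ, hQ'⟩ := Ideal.exists_ideal_over_prime_of_isIntegral (R := P) (S := A)
      (RelSeries.head l).asIdeal ⊥ (by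
        rw [← RingHom.ker_eq_comap_bot, (RingHom.injective_iff_ker_eq_bot _).1
          (FaithfulSMul.algebraMap_injective P A)]
        exact bot_le)
    have : Q.LiesOver (RelSeries.head l).asIdeal := ⟨hQ'.symm⟩
    obtain ⟨L, hL, -⟩ := Ideal.exists_ltSeries_of_hasGoingUp l Q
    rw [← hL]
    exact le_iSup (fun l : LTSeries (PrimeSpectrum A) => (l.length : WithBot ℕ∞)) L

variable {K : Type u} [CommRing K] {d n : ℕ}

section

variable {N : ℕ} {I : Ideal (PlRing K d n)} {B : Finset (Multiset (Idx d n))}

/-- The algebra structure of a quotient over the polynomial ring in the rank sums. -/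
abbrev wAlgebra (N : ℕ) (I : Ideal (PlRing K d n)) :
    Algebra (MvPolynomial (Fin N) K) (PlRing K d n ⧸ I) :=
  ((Ideal.Quotient.mk I).comp (wEval K N).toRingHom).toAlgebra

theorem mk_comb (l : Multiset (Idx d n) → MvPolynomial (Fin N) K) :
    letI := wAlgebra N I
    Ideal.Quotient.mk I (comb K N B l) =
      ∑ b : {b // b ∈ B}, l b • Ideal.Quotient.mk I (mon K (b : Multiset (Idx d n))) := by
  letI := wAlgebra N I
  rw [comb, map_sum, ← sum_coe_sort B]
  refine sum_congr rfl fun b _ => ?_
  rw [map_mul, Algebra.smul_def]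
  rfl

theorem Good.free (h : Good K N ⊤ I B) :
    letI := wAlgebra N I
    Module.Free (MvPolynomial (Fin N) K) (PlRing K d n ⧸ I) ∧
      Module.Finite (MvPolynomial (Fin N) K) (PlRing K d n ⧸ I) := by
  classical
  letI := wAlgebra N I
  let v : {b // b ∈ B} → PlRing K d n ⧸ I := fun b => Ideal.Quotient.mk I (mon K (b : Multiset (Idx d n)))
  have hli : LinearIndependent (MvPolynomial (Fin N) K) v := by
    rw [Fintype.linearIndependent_iff]
    intro g hg b
    have hm := mk_comb (I := I) (B := B) (fun x => if hx : x ∈ B then g ⟨x, hx⟩ else 0)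
    have : comb K N B (fun x => if hx : x ∈ B then g ⟨x, hx⟩ else 0) ∈ I := by
      rw [← Ideal.Quotient.eq_zero_iff_mem, hm, ← hg]
      exact sum_congr rfl fun c _ => by simp [v]
    simpa using h.indep _ this b b.2
  have hsp : ⊤ ≤ Submodule.span (MvPolynomial (Fin N) K) (Set.range v) := by
    intro x _
    obtain ⟨f, rfl⟩ := Ideal.Quotient.mk_surjective x
    obtain ⟨l, hl⟩ := h.span f trivial
    rw [(Ideal.Quotient.mk_eq_mk_iff_sub_mem f _).2 hl, mk_comb]
    exact Submodule.sum_mem _ fun c _ => Submodule.smul_mem _ _ (Submodule.subset_span ⟨c, rfl⟩)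
  let bs := Module.Basis.mk hli hsp
  exact ⟨Module.Free.of_basis bs, Module.Finite.of_basis bs⟩

end

theorem Good.isCohenMacaulayRing {K : Type u} [Field K] {N : ℕ} {I : Ideal (PlRing K d n)}
    {B : Finset (Multiset (Idx d n))} (h : Good K N ⊤ I B) :
    LocCoh.IsCohenMacaulayRing (PlRing K d n ⧸ I) := by
  letI := wAlgebra N I
  have := h.free.1
  have := h.free.2
  exact CMFree.isCohenMacaulayRing_of_finite_free_mvPolynomial K (Fin N) _

theorem Good.ringKrullDim_eq {K : Type u} [Field K] {N : ℕ} {I : Ideal (PlRing K d n)}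
    {B : Finset (Multiset (Idx d n))} (h : Good K N ⊤ I B) (hI : I ≠ ⊤) :
    ringKrullDim (PlRing K d n ⧸ I) = (N : WithBot ℕ∞) := by
  letI := wAlgebra N I
  have := h.free.1
  have := h.free.2
  have : Nontrivial (PlRing K d n ⧸ I) := Ideal.Quotient.nontrivial_iff.2 hI
  rw [ringKrullDim_eq_of_finite_free (MvPolynomial (Fin N) K),
    MvPolynomial.ringKrullDim_of_isNoetherianRing, ringKrullDim_eq_zero_of_field]
  simp

end GrothLib.SMT
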