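import Groth.Agent.Lib.SMT.DetCell
import Groth.Agent.Lib.SMT.FreeQuot
import Mathlib.Algebra.MvPolynomial.Rename

/-!
# Determinantal rings are finite free over a polynomial ring
-/

universe u

noncomputable section

open MvPolynomial W4bk4grassmannian Finset

namespace GrothLib.SMT

theorem ySum_zero (K : Type u) [CommRing K] {d n : ℕ} (h : d ≤ n) :
    ySum K (d := d) (n := n) 0 = X (botIdx h) := by
  classical
  have : univ.filter (fun θ : Idx d n => codeg θ = 0) = {botIdx h} := by
    ext θ
    simp only [mem_filter, mem_univ, true_and, mem_singleton]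
    constructor
    · intro h0
      apply Subtype.ext
      funext t
      apply Fin.ext
      have h1 := strictMono_val_le θ.2 t
      have h2 := Finset.sum_eq_zero_iff.1 h0 t (mem_univ t)
      show (θ.1 t).val = t.val
      omega
    · rintro rfl
      simp [codeg, botIdx]
  simp [ySum, this]

variable {K : Type u} [Field K] [Infinite K] {d r s : ℕ}

/-- Drop the last variable. -/
def dropLast (K : Type u) [CommRing K] (N : ℕ) : MvPolynomial (Fin (N + 1)) K →ₐ[K] MvPolynomial (Fin N) K :=
  aeval (Fin.lastCases (motive := fun _ => MvPolynomial (Fin N) K) 1 X)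

/-- The algebra structure of a determinantal ring over the polynomial ring in the rank sums. -/
abbrev detAlgebra (N : ℕ) (I : Ideal (CellRing K d r)) :
    Algebra (MvPolynomial (Fin N) K) (CellRing K d r ⧸ I) :=
  ((Ideal.Quotient.mk I).comp (((cellMap K d r).comp (wEval K (N + 1))).comp
    (rename Fin.castSucc)).toRingHom).toAlgebra

theorem det_free (hd : 0 < d) (hsd : s ≤ d) (hsr : s ≤ r) {N : ℕ} {B : Finset (Multiset (Idx d (d + r)))}
    (hB : Good K (N + 1) ⊤ (plD K (· ≤ tauS d r s hsd hsr)) B) :
    letI := detAlgebra N (CAlgX.minorIdeal (genMatrix K r d) (s + 1))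
    Module.Free (MvPolynomial (Fin N) K) (CellRing K d r ⧸ CAlgX.minorIdeal (genMatrix K r d) (s + 1)) ∧
      Module.Finite (MvPolynomial (Fin N) K)
        (CellRing K d r ⧸ CAlgX.minorIdeal (genMatrix K r d) (s + 1)) := by
  classical
  set I := CAlgX.minorIdeal (genMatrix K r d) (s + 1)
  letI := detAlgebra N I
  set ψ := cellMap K d r
  have hlast : wEval K (d := d) (n := d + r) (N + 1) (X (Fin.last N)) = X (botIdx (d.le_add_right r)) := by
    rw [← ySum_zero K]
    simp [wEval]
  have hsec : ψ.comp (wEval K (N + 1)) =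
      ((ψ.comp (wEval K (N + 1))).comp (rename Fin.castSucc)).comp (dropLast K N) := by
    apply MvPolynomial.algHom_ext
    intro i
    cases i using Fin.lastCases with
    | last => simp [dropLast, hlast, ψ, cellMap_bot]
    | cast j => simp [dropLast]
  let v : {b // b ∈ B} → CellRing K d r ⧸ I := fun b =>
    Ideal.Quotient.mk I (ψ (mon K (b : Multiset (Idx d (d + r)))))
  have hdrop : ∀ p : MvPolynomial (Fin N) K, dropLast K N (rename Fin.castSucc p) = p := by
    intro p
    have h1 : (dropLast K N).comp (rename Fin.castSucc) = AlgHom.id K (MvPolynomial (Fin N) K) := by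
      apply MvPolynomial.algHom_ext
      intro i
      simp [dropLast]
    simpa using DFunLike.congr_fun h1 p
  have hli : LinearIndependent (MvPolynomial (Fin N) K) v := by
    rw [Fintype.linearIndependent_iff]
    intro g hg b0
    set L : Multiset (Idx d (d + r)) → MvPolynomial (Fin (N + 1)) K :=
      fun x => if hx : x ∈ B then rename Fin.castSucc (g ⟨x, hx⟩) else 0 with hL
    have hmem : comb K (N + 1) B L ∈ cellIdeal K s hsd hsr := by
      rw [← comap_cellMap_minorIdeal hd hsd hsr, Ideal.mem_comap]
      show ψ (comb K (N + 1) B L) ∈ I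
      rw [← Ideal.Quotient.eq_zero_iff_mem, ← hg, comb, map_sum, map_sum, ← sum_coe_sort B]
      refine sum_congr rfl fun c _ => ?_
      rw [Algebra.smul_def, map_mul, map_mul]
      simp only [hL, dif_pos c.2]
      rfl
    obtain ⟨j, hj, z, hz, hjz⟩ := Submodule.mem_sup.1 hmem
    obtain ⟨a, rfl⟩ := Ideal.mem_span_singleton'.1 hz
    obtain ⟨l', hl'⟩ := hB.span a trivial
    have hkey : comb K (N + 1) B (fun x => L x - (X (Fin.last N) - 1) * l' x) ∈
        plD K (· ≤ tauS d r s hsd hsr) := by
      have e : comb K (N + 1) B (fun x => L x - (X (Fin.last N) - 1) * l' x) =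
          comb K (N + 1) B L - (X (botIdx (d.le_add_right r)) - 1) * comb K (N + 1) B l' := by
        simp only [comb, mul_sum, ← sum_sub_distrib]
        refine sum_congr rfl fun x _ => ?_
        rw [map_sub, map_mul, map_sub, map_one, hlast]
        ring
      rw [e, ← hjz]
      have : j + a * (X (botIdx (d.le_add_right r)) - 1) -
          (X (botIdx (d.le_add_right r)) - 1) * comb K (N + 1) B l' =
          j + (X (botIdx (d.le_add_right r)) - 1) * (a - comb K (N + 1) B l') := by ring
      rw [this]
      exact Ideal.add_mem _ hj (Ideal.mul_mem_left _ _ hl')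
    have h0 := hB.indep _ hkey b0.1 b0.2
    have h1 := congrArg (dropLast K N) h0
    simp only [hL, dif_pos b0.2, map_sub, map_mul, map_zero, map_one, hdrop] at h1
    simpa [dropLast] using h1
  have hsp : ⊤ ≤ Submodule.span (MvPolynomial (Fin N) K) (Set.range v) := by
    intro x _
    obtain ⟨f, rfl⟩ := Ideal.Quotient.mk_surjective x
    obtain ⟨G, rfl⟩ := cellMap_surjective hd f
    obtain ⟨l, hl⟩ := hB.span G trivial
    have h1 : ψ (G - comb K (N + 1) B l) ∈ I :=
      Ideal.mem_comap.1 ((comap_cellMap_minorIdeal hd hsd hsr).ge (Ideal.mem_sup_left hl))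
    rw [map_sub] at h1
    show Ideal.Quotient.mk I (ψ G) ∈ _
    rw [(Ideal.Quotient.mk_eq_mk_iff_sub_mem _ _).2 h1, comb, map_sum, map_sum]
    refine Submodule.sum_mem _ fun b hb => ?_
    have e : Ideal.Quotient.mk I (ψ (wEval K (N + 1) (l b) * mon K b)) =
        dropLast K N (l b) • v ⟨b, hb⟩ := by
      rw [Algebra.smul_def, map_mul, map_mul]
      congr 1
      exact congrArg (Ideal.Quotient.mk I) (DFunLike.congr_fun hsec (l b))
    rw [e]
    exact Submodule.smul_mem _ _ (Submodule.subset_span ⟨_, rfl⟩)
  let bs := Module.Basis.mk hli hsp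
  exact ⟨Module.Free.of_basis bs, Module.Finite.of_basis bs⟩

theorem det_cm_dim (hd : 0 < d) (hsd : s ≤ d) (hsr : s ≤ r) :
    LocCoh.IsCohenMacaulayRing (CellRing K d r ⧸ CAlgX.minorIdeal (genMatrix K r d) (s + 1)) ∧
      ringKrullDim (CellRing K d r ⧸ CAlgX.minorIdeal (genMatrix K r d) (s + 1)) =
        ((((d - s) * s + s * r : ℕ)) : WithBot ℕ∞) := by
  obtain ⟨B, hB⟩ := exists_good_schubert (K := K) hd (tauS d r s hsd hsr)
  letI := detAlgebra (codeg (tauS d r s hsd hsr)) (CAlgX.minorIdeal (genMatrix K r d) (s + 1))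
  have := (det_free hd hsd hsr hB).1
  have := (det_free hd hsd hsr hB).2
  have : Nontrivial (CellRing K d r ⧸ CAlgX.minorIdeal (genMatrix K r d) (s + 1)) :=
    Ideal.Quotient.nontrivial_iff.2 (minorIdeal_isPrime hd hsd hsr).ne_top
  refine ⟨CMFree.isCohenMacaulayRing_of_finite_free_mvPolynomial K (Fin (codeg (tauS d r s hsd hsr))) _, ?_⟩
  rw [ringKrullDim_eq_of_finite_free (MvPolynomial (Fin (codeg (tauS d r s hsd hsr))) K),
    MvPolynomial.ringKrullDim_of_isNoetherianRing, ringKrullDim_eq_zero_of_field, codeg_tauS]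
  simp

end GrothLib.SMT
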