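import Groth.Agent.Lib.SMT.Homog
import Mathlib.RingTheory.IntegralClosure.IntegrallyClosed
import Mathlib.RingTheory.Localization.FractionRing
import Mathlib.Algebra.Polynomial.Lifts

/-!
# Normality passes to the dehomogenisation
-/

universe u

noncomputable section

open MvPolynomial W4bk4grassmannian Finset

namespace GrothLib.SMT

theorem isIntegrallyClosed_sup {K : Type u} [CommRing K] {d n : ℕ} (θ : Idx d n)
    {P : Ideal (PlRing K d n)} [hP1 : P.IsPrime]
    (hP : ∀ f ∈ P, ∀ m, homogeneousComponent m f ∈ P) (hθ : (X θ : PlRing K d n) ∉ P)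
    [IsIntegrallyClosed (PlRing K d n ⧸ P)] :
    IsIntegrallyClosed (PlRing K d n ⧸ (P ⊔ Ideal.span {(X θ : PlRing K d n) - 1})) := by
  classical
  set J := P ⊔ Ideal.span {(X θ : PlRing K d n) - 1}
  have : J.IsPrime := isPrime_sup θ hP hθ
  have : IsDomain (PlRing K d n ⧸ J) := Ideal.Quotient.isDomain _
  have : IsDomain (PlRing K d n ⧸ P) := Ideal.Quotient.isDomain _
  set π := Ideal.Quotient.mk J
  set ρ := Ideal.Quotient.mk P
  have hθ1 : π (X θ) = 1 := by
    rw [← map_one π]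
    exact (Ideal.Quotient.mk_eq_mk_iff_sub_mem _ _).2 (Ideal.mem_sup_right (Ideal.subset_span rfl))
  have hhom : ∀ {D : ℕ} {g : PlRing K d n}, g.totalDegree ≤ D → π (homogP θ D g) = π g := fun hg =>
    (Ideal.Quotient.mk_eq_mk_iff_sub_mem _ _).2 (Ideal.mem_sup_right (homogP_sub_mem θ hg))
  rw [isIntegrallyClosed_iff (FractionRing (PlRing K d n ⧸ J))]
  intro x hx
  obtain ⟨a, b, hb, rfl⟩ := IsFractionRing.div_surjective (A := PlRing K d n ⧸ J) x
  obtain ⟨g, rfl⟩ := Ideal.Quotient.mk_surjective a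
  obtain ⟨h, rfl⟩ := Ideal.Quotient.mk_surjective b
  have hb0 : π h ≠ 0 := nonZeroDivisors.ne_zero hb
  set α := algebraMap (PlRing K d n ⧸ J) (FractionRing (PlRing K d n ⧸ J))
  have hαh : α (π h) ≠ 0 := (map_ne_zero_iff α (IsFractionRing.injective _ _)).2 hb0
  obtain ⟨p, hp, hp0⟩ := hx
  obtain ⟨p', hp', hdeg, hmon⟩ := Polynomial.lifts_and_natDegree_eq_and_monic
    ((Polynomial.mem_lifts _).2 (Polynomial.map_surjective π Ideal.Quotient.mk_surjective p)) hp
  set N := p'.natDegree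
  set E := (range (N + 1)).sup fun j => (p'.coeff j).totalDegree
  set D := max g.totalDegree h.totalDegree
  set c : ℕ → PlRing K d n := fun j => homogP θ (E * (N - j)) (p'.coeff j)
  have hcdeg : ∀ j ∈ range (N + 1), (p'.coeff j).totalDegree ≤ E * (N - j) := by
    intro j hj
    rcases (Nat.lt_succ_iff.1 (mem_range.1 hj)).eq_or_lt with rfl | hjN
    · simp [N, hmon.coeff_natDegree]
    · exact (Finset.le_sup (f := fun j => (p'.coeff j).totalDegree) hj).trans
        (Nat.le_mul_of_pos_right _ (by omega))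
  have hcN : c N = 1 := by
    simp [c, N, homogP, hmon.coeff_natDegree, homogeneousComponent_of_mem (isHomogeneous_one _ _)]
  set G := X θ ^ E * homogP θ D g
  set H := homogP θ D h
  have hπG : π G = π g := by
    simp only [G, map_mul, map_pow, hθ1, one_pow, one_mul]
    exact hhom (le_max_left _ _)
  have hπH : π H = π h := hhom (le_max_right _ _)
  set F := ∑ j ∈ range (N + 1), c j * G ^ j * H ^ (N - j)
  have hFhom : F.IsHomogeneous ((E + D) * N) := by
    refine IsHomogeneous.sum _ _ _ fun j hj => ?_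
    have h1 := ((isHomogeneous_homogP θ (E * (N - j)) (p'.coeff j)).mul
      ((((isHomogeneous_X K θ).pow E).mul (isHomogeneous_homogP θ D g)).pow j)).mul
      ((isHomogeneous_homogP θ D h).pow (N - j))
    convert h1 using 1
    obtain ⟨k, hk⟩ := Nat.exists_eq_add_of_le (Nat.lt_succ_iff.1 (mem_range.1 hj))
    rw [hk, Nat.add_sub_cancel_left]
    ring
  have hπF : π F = 0 := by
    apply IsFractionRing.injective (PlRing K d n ⧸ J) (FractionRing (PlRing K d n ⧸ J))
    have e : Polynomial.eval₂ α (α (π g) / α (π h)) p =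
        ∑ j ∈ range (N + 1), α (π (p'.coeff j)) * (α (π g) / α (π h)) ^ j := by
      rw [← hp', Polynomial.eval₂_map, Polynomial.eval₂_eq_sum_range]
      rfl
    have h0 : (∑ j ∈ range (N + 1), α (π (p'.coeff j)) * (α (π g) / α (π h)) ^ j) * α (π h) ^ N = 0 := by
      rw [← e, hp0, zero_mul]
    rw [map_zero, ← h0]
    simp only [F, map_sum, map_mul, map_pow, sum_mul, hπG, hπH]
    refine sum_congr rfl fun j hj => ?_
    obtain ⟨k, hk⟩ := Nat.exists_eq_add_of_le (Nat.lt_succ_iff.1 (mem_range.1 hj))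
    show α (π (c j)) * α (π g) ^ j * α (π h) ^ (N - j) = _
    rw [show π (c j) = π (p'.coeff j) from hhom (hcdeg j hj), hk, Nat.add_sub_cancel_left, pow_add, div_pow]
    field_simp
  have hFP : ρ F = 0 := Ideal.Quotient.eq_zero_iff_mem.2
    (mem_of_homogeneous_mem_sup θ hP hθ hFhom (Ideal.Quotient.eq_zero_iff_mem.1 hπF))
  have hH : ρ H ≠ 0 := fun e => hb0 (by
    rw [← hπH]
    exact Ideal.Quotient.eq_zero_iff_mem.2 (Ideal.mem_sup_left (Ideal.Quotient.eq_zero_iff_mem.1 e)))
  set β := algebraMap (PlRing K d n ⧸ P) (FractionRing (PlRing K d n ⧸ P))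
  have hβH : β (ρ H) ≠ 0 := (map_ne_zero_iff β (IsFractionRing.injective _ _)).2 hH
  have hy : IsIntegral (PlRing K d n ⧸ P) (β (ρ G) / β (ρ H)) := by
    refine ⟨∑ j ∈ range (N + 1), Polynomial.C (ρ (c j)) * Polynomial.X ^ j, ?_, ?_⟩
    · refine Polynomial.monic_of_natDegree_le_of_coeff_eq_one N ?_ ?_
      · exact Polynomial.natDegree_sum_le_of_forall_le _ _ fun j hj =>
          (Polynomial.natDegree_C_mul_X_pow_le _ _).trans (Nat.lt_succ_iff.1 (mem_range.1 hj))
      · simp [Polynomial.coeff_C_mul_X_pow, hcN]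
    · have h0 : (∑ j ∈ range (N + 1), β (ρ (c j)) * (β (ρ G) / β (ρ H)) ^ j) * β (ρ H) ^ N = 0 := by
        rw [sum_mul, ← map_zero β, ← hFP]
        simp only [F, map_sum, map_mul, map_pow]
        refine sum_congr rfl fun j hj => ?_
        obtain ⟨k, hk⟩ := Nat.exists_eq_add_of_le (Nat.lt_succ_iff.1 (mem_range.1 hj))
        rw [hk, Nat.add_sub_cancel_left, pow_add, div_pow]
        field_simp
      have h1 := (mul_eq_zero.1 h0).resolve_right (pow_ne_zero _ hβH)
      rw [Polynomial.eval₂_finsetSum]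
      simpa [Polynomial.eval₂_mul, Polynomial.eval₂_pow] using h1
  obtain ⟨w, hw⟩ := (IsIntegrallyClosed.isIntegral_iff (R := PlRing K d n ⧸ P)).1 hy
  obtain ⟨w, rfl⟩ := Ideal.Quotient.mk_surjective w
  refine ⟨π w, ?_⟩
  have h2 : ρ (w * H) = ρ G := by
    apply IsFractionRing.injective (PlRing K d n ⧸ P) (FractionRing (PlRing K d n ⧸ P))
    rw [map_mul, map_mul]
    show β (ρ w) * β (ρ H) = β (ρ G)
    rw [show β (ρ w) = _ from hw, div_mul_cancel₀ _ hβH]
  have h3 : π (w * H) = π G := (Ideal.Quotient.mk_eq_mk_iff_sub_mem _ _).2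
    (Ideal.mem_sup_left ((Ideal.Quotient.mk_eq_mk_iff_sub_mem _ _).1 h2))
  rw [map_mul, hπH, hπG] at h3
  show α (π w) = α (π g) / α (π h)
  rw [eq_div_iff hαh, ← map_mul, h3]

end GrothLib.SMT
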