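import Groth.Agent.Lib.SMT.LeadSet
import Mathlib.RingTheory.Polynomial.UniqueFactorization
import Mathlib.RingTheory.Polynomial.RationalRoot
import Mathlib.RingTheory.IntegralClosure.IntegrallyClosed
import Mathlib.RingTheory.Localization.FractionRing

/-!
# Normality from saturation of the leading exponents
-/

universe u

noncomputable section

open MvPolynomial W4bk4grassmannian Finset
open scoped MonomialOrder

namespace GrothLib.SMT

/-- A domain inside an integrally closed domain is integrally closed if it contains the integral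
elements of the bigger ring lying in its fraction field. -/
theorem isIntegrallyClosed_of_injective {R S : Type*} [CommRing R] [IsDomain R] [CommRing S]
    [IsDomain S] [IsIntegrallyClosed S] (φ : R →+* S) (hφ : Function.Injective φ)
    (h : ∀ (f : S) (a b : R), b ≠ 0 → φ.IsIntegralElem f → φ b * f = φ a → f ∈ φ.range) :
    IsIntegrallyClosed R := by
  rw [isIntegrallyClosed_iff (FractionRing R)]
  intro x hx
  let ψ : R →+* FractionRing S := (algebraMap S (FractionRing S)).comp φ
  have hψ : Function.Injective ψ := (IsFractionRing.injective S (FractionRing S)).comp hφ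
  let L : FractionRing R →+* FractionRing S := IsFractionRing.lift hψ
  have hL : ∀ r, L (algebraMap R _ r) = ψ r := IsFractionRing.lift_algebraMap hψ
  obtain ⟨p, hp, hp0⟩ := hx
  have hp1 : Polynomial.eval₂ (algebraMap S (FractionRing S)) (L x) (p.map φ) = 0 := by
    rw [Polynomial.eval₂_map]
    have hcomp : L.comp (algebraMap R (FractionRing R)) = ψ := RingHom.ext hL
    show Polynomial.eval₂ ψ (L x) p = 0
    rw [← hcomp, ← Polynomial.hom_eval₂, hp0, map_zero]
  obtain ⟨f, hf⟩ := (IsIntegrallyClosed.isIntegral_iff (R := S)).1 ⟨p.map φ, hp.map φ, hp1⟩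
  obtain ⟨a, b, hb, rfl⟩ := IsFractionRing.div_surjective (A := R) x
  have hb0 : b ≠ 0 := nonZeroDivisors.ne_zero hb
  have heq : φ b * f = φ a := by
    apply IsFractionRing.injective S (FractionRing S)
    rw [map_mul, hf, map_div₀, hL, hL]
    have : ψ b ≠ 0 := (map_ne_zero_iff ψ hψ).2 hb0
    show ψ b * (ψ a / ψ b) = ψ a
    rw [mul_div_cancel₀ _ this]
  have hint : φ.IsIntegralElem f := by
    refine ⟨p, hp, IsFractionRing.injective S (FractionRing S) ?_⟩
    rw [map_zero, Polynomial.hom_eval₂, hf]
    rw [Polynomial.eval₂_map] at hp1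
    exact hp1
  obtain ⟨c, rfl⟩ := h f a b hb0 hint heq
  refine ⟨c, L.injective ?_⟩
  rw [hL, ← hf]
  rfl

theorem exists_mul_pow_mem {R S : Type*} [CommRing R] [CommRing S] (φ : R →+* S) {f : S} {a b : R}
    (hf : φ.IsIntegralElem f) (hab : φ b * f = φ a) :
    ∃ N : ℕ, ∀ k : ℕ, φ (b ^ N) * f ^ k ∈ φ.range := by
  obtain ⟨p, hp, hp0⟩ := hf
  refine ⟨p.natDegree, fun k => ?_⟩
  set r := (Polynomial.X : Polynomial R) ^ k %ₘ p
  have hk : f ^ k = Polynomial.eval₂ φ f r := by
    have h1 := congrArg (Polynomial.eval₂ φ f)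
      (Polynomial.modByMonic_add_div ((Polynomial.X : Polynomial R) ^ k) p)
    rw [Polynomial.eval₂_add, Polynomial.eval₂_mul, hp0, zero_mul, add_zero,
      Polynomial.eval₂_X_pow] at h1
    exact h1.symm
  have hr : r.natDegree ≤ p.natDegree := Polynomial.natDegree_modByMonic_le _ hp
  rw [hk, Polynomial.eval₂_eq_sum_range' φ (n := p.natDegree + 1) (by omega), mul_sum]
  refine φ.range.sum_mem fun j hj => ⟨r.coeff j * a ^ j * b ^ (p.natDegree - j), ?_⟩
  have hj' : b ^ p.natDegree = b ^ (p.natDegree - j) * b ^ j := by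
    rw [← pow_add]; congr 1; simp at hj; omega
  rw [hj', map_mul, map_mul, map_mul, map_pow, map_pow, map_pow, ← hab, mul_pow]
  ring

variable {K : Type u} [Field K] {d n : ℕ}

theorem Compat.mem_range_phi {q : Idx d n → Prop} {p : Fin n → Fin d → Prop}
    (h : Compat q p) (hd : 0 < d) (f : MatRing K d n) (a b : PlRing K d n) (hb : phi K p b ≠ 0)
    (hf : (phi K p).toRingHom.IsIntegralElem f) (hab : phi K p b * f = phi K p a) :
    f ∈ (phi K p).range := by
  induction hdeg : (diagOrd d n).toSyn ((diagOrd d n).degree f) using WellFoundedLT.induction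
    generalizing f a with
  | _ e ih =>
    subst hdeg
    rcases eq_or_ne f 0 with rfl | hf0
    · exact zero_mem _
    obtain ⟨N, hN⟩ := exists_mul_pow_mem (phi K p).toRingHom hf hab
    have hE : InE p ((diagOrd d n).degree f) := by
      refine InE.of_forall_add_nsmul (a := (diagOrd d n).degree (phi K p (b ^ N))) fun k => ?_
      obtain ⟨g, hg⟩ := hN k
      have hg' : phi K p g = phi K p (b ^ N) * f ^ k := hg
      have hbN : phi K p (b ^ N) ≠ 0 := by rw [map_pow]; exact pow_ne_zero _ hb
      have := h.inE_degree hd g (by rw [hg']; exact mul_ne_zero hbN (pow_ne_zero _ hf0))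
      rwa [hg', MonomialOrder.degree_mul hbN (pow_ne_zero _ hf0), MonomialOrder.degree_pow] at this
    obtain ⟨s, -, hs, hse⟩ := exists_std_of_inE hd hE
    obtain ⟨hd1, hd2⟩ := phi_mon_monic K p hs
    rw [hse] at hd1
    set g : PlRing K d n := C ((diagOrd d n).leadingCoeff f) * mon K s
    have hgval : phi K p g = C ((diagOrd d n).leadingCoeff f) * phi K p (mon K s) := by
      rw [map_mul, ← MvPolynomial.algebraMap_eq, AlgHom.commutes]
      rfl
    suffices hsub : f - phi K p g ∈ (phi K p).range by
      simpa using add_mem hsub (⟨g, rfl⟩ : phi K p g ∈ (phi K p).range)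
    rcases eq_or_ne (f - phi K p g) 0 with h0 | h0
    · rw [h0]; exact zero_mem _
    refine ih _ ?_ _ (a - b * g) (hf.sub _ (RingHom.isIntegralElem_map _)) ?_ rfl
    · refine lt_of_le_of_ne ((diagOrd d n).degree_le_iff.2 fun c hc => ?_) fun e => ?_
      · rcases Finset.mem_union.1 (MvPolynomial.support_sub _ _ _ hc) with hc | hc
        · exact (diagOrd d n).le_degree hc
        · refine ((diagOrd d n).le_degree hc).trans ?_
          rw [hgval, ← smul_eq_C_mul, ← hd1]
          exact MonomialOrder.degree_smul_le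
      · apply (diagOrd d n).coeff_degree_ne_zero_iff.2 h0
        rw [(diagOrd d n).toSyn.injective e, hgval, coeff_sub, coeff_C_mul]
        conv_lhs => arg 2; arg 2; rw [← hd1, hd2.coeff_degree]
        simp [MonomialOrder.leadingCoeff]
    · rw [map_sub, map_mul (phi K p) b g, mul_sub, hab]

theorem Compat.isIntegrallyClosed {q : Idx d n → Prop} {p : Fin n → Fin d → Prop}
    (h : Compat q p) (hd : 0 < d) : IsIntegrallyClosed (PlRing K d n ⧸ plD K q) := by
  have := h.isPrime (K := K) hd
  have : IsDomain (PlRing K d n ⧸ plD K q) := Ideal.Quotient.isDomain _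
  let φ : PlRing K d n ⧸ plD K q →+* MatRing K d n :=
    Ideal.Quotient.lift _ (phi K p).toRingHom fun x hx => h.plD_le_ker hx
  have hφ : Function.Injective φ := by
    rw [injective_iff_map_eq_zero]
    intro x hx
    obtain ⟨g, rfl⟩ := Ideal.Quotient.mk_surjective x
    rw [Ideal.Quotient.eq_zero_iff_mem, ← h.ker_phi hd]
    exact hx
  refine isIntegrallyClosed_of_injective φ hφ fun f a b hb hf hab => ?_
  obtain ⟨a, rfl⟩ := Ideal.Quotient.mk_surjective a
  obtain ⟨b, rfl⟩ := Ideal.Quotient.mk_surjective b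
  have hf' : (phi K p).toRingHom.IsIntegralElem f := by
    obtain ⟨r, hr, hr0⟩ := hf
    obtain ⟨r', hr', -, hm⟩ := Polynomial.lifts_and_natDegree_eq_and_monic
      ((Polynomial.mem_lifts _).2 (Polynomial.map_surjective _ Ideal.Quotient.mk_surjective r)) hr
    refine ⟨r', hm, ?_⟩
    rw [← hr', Polynomial.eval₂_map] at hr0
    exact hr0
  obtain ⟨g, hg⟩ := h.mem_range_phi hd f a b (fun e => hb (hφ (by simpa [φ] using e))) hf' hab
  exact ⟨Ideal.Quotient.mk _ g, hg⟩

end GrothLib.SMT
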