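import Groth.Agent.Lib.SMT.DetFree
import Groth.Agent.Lib.SMT.DetNormal
import Groth.Agent.Lib.SMT.Normal
import Mathlib.LinearAlgebra.Dimension.Constructions
import Mathlib.LinearAlgebra.Matrix.Rank

/-!
# Determinantal rings: normality and the second fundamental theorem
-/

universe u

noncomputable section

open MvPolynomial W4bk4grassmannian Finset

namespace GrothLib.SMT

variable {K : Type u} [Field K]

theorem minorIdeal_isIntegrallyClosed [Infinite K] {d r s : ℕ} (hd : 0 < d) (hsd : s ≤ d) (hsr : s ≤ r) :
    IsIntegrallyClosed (CellRing K d r ⧸ CAlgX.minorIdeal (genMatrix K r d) (s + 1)) := by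
  have := (compat_le (tauS d r s hsd hsr)).isPrime (K := K) hd
  have := (compat_le (tauS d r s hsd hsr)).isIntegrallyClosed (K := K) hd
  have h := isIntegrallyClosed_sup (P := plD K (· ≤ tauS d r s hsd hsr)) (botIdx (d.le_add_right r))
    (fun _ hf m => component_mem_plD K hf m) (bot_notMem hd hsd hsr)
  let ψ := ((Ideal.Quotient.mk (CAlgX.minorIdeal (genMatrix K r d) (s + 1)))).comp (cellMap K d r).toRingHom
  have hψ : Function.Surjective ψ := Ideal.Quotient.mk_surjective.comp (cellMap_surjective hd)
  have hker : RingHom.ker ψ = cellIdeal K s hsd hsr := by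
    rw [← comap_cellMap_minorIdeal hd hsd hsr, ← RingHom.comap_ker, Ideal.mk_ker]
  have : IsIntegrallyClosed (PlRing K d (d + r) ⧸ RingHom.ker ψ) := by rw [hker]; exact h
  exact IsIntegrallyClosed.of_equiv (RingHom.quotientKerEquivOfSurjective hψ)

/-- A matrix whose `(k+1)`-minors all vanish factors through `k`-space. -/
theorem exists_factor_of_minors {m q k : ℕ} (Z : Matrix (Fin m) (Fin q) K)
    (h : ∀ (f : Fin (k + 1) → Fin m) (g : Fin (k + 1) → Fin q), (Z.submatrix f g).det = 0) :
    ∃ (U : Matrix (Fin m) (Fin k) K) (W : Matrix (Fin k) (Fin q) K), Z = U * W := by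
  classical
  obtain ⟨κ, a, hinj, hspan, hli⟩ := exists_linearIndependent' K Z.col
  have : Finite κ := Finite.of_injective a hinj
  let _ : Fintype κ := Fintype.ofFinite κ
  have hcard : Fintype.card κ ≤ k := by
    by_contra hc
    obtain ⟨e⟩ : Nonempty (Fin (k + 1) ↪ κ) :=
      Function.Embedding.nonempty_of_card_le (by simpa using Nat.lt_of_not_le hc)
    let g := a ∘ e
    have hg : LinearIndependent K (Z.submatrix id g).col := by
      exact hli.comp e e.injective
    have hrank : (Z.submatrix id g).rank = k + 1 := by
      rw [Matrix.rank_eq_finrank_span_cols, finrank_span_eq_card hg, Fintype.card_fin]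
    obtain ⟨κ', a', hinj', hspan', hli'⟩ := exists_linearIndependent' K (Z.submatrix id g).row
    have : Finite κ' := Finite.of_injective a' hinj'
    let _ : Fintype κ' := Fintype.ofFinite κ'
    have hc' : Fintype.card κ' = k + 1 := by
      rw [← finrank_span_eq_card hli', hspan', ← Matrix.rank_eq_finrank_span_row, hrank]
    let e' : Fin (k + 1) ≃ κ' := (Fintype.equivFinOfCardEq hc').symm
    have hu : IsUnit (Z.submatrix (a' ∘ e') g) := by
      rw [← Matrix.linearIndependent_rows_iff_isUnit]
      exact hli'.comp e' e'.injective
    exact ((Matrix.isUnit_iff_isUnit_det _).1 hu).ne_zero (h _ _)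
  obtain ⟨e⟩ : Nonempty (κ ↪ Fin k) := Function.Embedding.nonempty_of_card_le (by simpa using hcard)
  let U : Matrix (Fin m) (Fin k) K := Matrix.of fun i => Function.extend e (fun x => Z i (a x)) 0
  have hcol : ∀ j, ∃ w : Fin k → K, U.mulVec w = Z.col j := by
    intro j
    have hj : Z.col j ∈ Submodule.span K (Set.range (Z.col ∘ a)) :=
      hspan ▸ Submodule.subset_span ⟨j, rfl⟩
    have hle : Submodule.span K (Set.range (Z.col ∘ a)) ≤ LinearMap.range U.mulVecLin := by
      rw [Submodule.span_le]
      rintro _ ⟨x, rfl⟩
      refine ⟨Pi.single (e x) 1, funext fun i => ?_⟩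
      simp [U, e.injective.extend_apply]
    exact LinearMap.mem_range.1 (hle hj)
  choose w hw using hcol
  refine ⟨U, Matrix.of fun c j => w j c, Matrix.ext fun i j => ?_⟩
  have := congrFun (hw j) i
  simpa [Matrix.mul_apply, Matrix.mulVec, dotProduct] using this.symm

theorem eval_pairingMap {m n q : ℕ} (U : Matrix (Fin m) (Fin n) K) (W : Matrix (Fin n) (Fin q) K)
    (g : MvPolynomial (Fin m × Fin q) K) :
    eval (Sum.elim (fun p => U p.1 p.2) (fun p => W p.1 p.2)) (pairingMap K n m q g) =
      eval (fun p => (U * W) p.1 p.2) g := by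
  have : (MvPolynomial.aeval (Sum.elim (fun p : Fin m × Fin n => U p.1 p.2)
      (fun p : Fin n × Fin q => W p.1 p.2))).comp (pairingMap K n m q) =
      MvPolynomial.aeval fun p : Fin m × Fin q => (U * W) p.1 p.2 := by
    apply MvPolynomial.algHom_ext
    intro x
    simp [pairingMap, Matrix.mul_apply]
  simpa [MvPolynomial.aeval_eq_eval] using DFunLike.congr_fun this g

theorem minorIdeal_eq_bot_of_lt {m q n : ℕ} (h : m ≤ n ∨ q ≤ n) :
    CAlgX.minorIdeal (genMatrix K m q) (n + 1) = ⊥ := by
  rw [eq_bot_iff]
  refine Ideal.span_le.2 ?_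
  rintro x ⟨⟨f, g⟩, rfl⟩
  rcases h with h | h
  · obtain ⟨a, b, he, hne⟩ := Function.not_injective_iff.1 (fun hf : Function.Injective f => by
      have := Fintype.card_le_of_injective f hf; simp at this; omega)
    exact Matrix.det_zero_of_row_eq hne (by funext c; simp [he])
  · obtain ⟨a, b, he, hne⟩ := Function.not_injective_iff.1 (fun hg : Function.Injective g => by
      have := Fintype.card_le_of_injective g hg; simp at this; omega)
    exact Matrix.det_zero_of_column_eq hne (by intro c; simp [he])

theorem sft [Infinite K] (m n q : ℕ) :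
    RingHom.ker (pairingMap K n m q).toRingHom = CAlgX.minorIdeal (genMatrix K m q) (n + 1) := by
  classical
  refine le_antisymm (fun g hg => ?_) ?_
  · have hval : ∀ Z : Fin m × Fin q → K, (∀ (f : Fin (n + 1) → Fin m) (f' : Fin (n + 1) → Fin q),
        ((Matrix.of fun i j => Z (i, j)).submatrix f f').det = 0) → eval Z g = 0 := by
      intro Z hZ
      obtain ⟨U, W, hUW⟩ := exists_factor_of_minors (Matrix.of fun i j => Z (i, j)) hZ
      have h1 := eval_pairingMap U W g
      rw [show pairingMap K n m q g = 0 from hg, map_zero, ← hUW] at h1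
      exact h1.symm
    by_cases hs : n < m ∧ n < q
    · obtain ⟨G, rfl⟩ := cellMap_surjective (K := K) (d := q) (r := m) (by omega) g
      set θ := botIdx (n := q + m) (q.le_add_right m)
      have h1 := homogP_sub_mem θ (le_refl G.totalDegree) (g := G)
      have h2 : cellMap K q m (homogP θ G.totalDegree G) = cellMap K q m G := by
        obtain ⟨c, hc⟩ := Ideal.mem_span_singleton'.1 h1
        have := congrArg (cellMap K q m) hc
        rw [map_mul, map_sub, map_one, cellMap_bot, sub_self, mul_zero, map_sub, eq_comm, sub_eq_zero] at this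
        exact this
      have h3 := mem_plD_of_vanish_cell (s := n) (by omega) hs.2.le hs.1.le
        (isHomogeneous_homogP θ G.totalDegree G) fun Z hZ => by
          rw [h2]
          refine hval Z fun f f' => ?_
          have hmap : ((genMatrix K m q).submatrix f f').map (eval Z) =
              (Matrix.of fun i j => Z (i, j)).submatrix f f' := by
            refine Matrix.ext fun i j => ?_
            simp [genMatrix]
          by_cases hf : Function.Injective f
          · by_cases hf' : Function.Injective f'
            · rw [← hmap, ← RingHom.mapMatrix_apply, ← RingHom.map_det,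
                det_eq_sign_cellMinor K hf hf', map_mul,
                hZ _ (by
                  show n < low _
                  unfold low
                  rw [card_low_cellIdx]
                  exact Nat.lt_succ_self n), mul_zero]
            · obtain ⟨a, b, he, hne⟩ := Function.not_injective_iff.1 hf'
              exact Matrix.det_zero_of_column_eq hne (by intro c; simp [he])
          · obtain ⟨a, b, he, hne⟩ := Function.not_injective_iff.1 hf
            exact Matrix.det_zero_of_row_eq hne (by funext c; simp [he])
      have h4 : homogP θ G.totalDegree G ∈ cellIdeal K n hs.2.le hs.1.le := Ideal.mem_sup_left h3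
      rw [← comap_cellMap_minorIdeal (by omega) hs.2.le hs.1.le, Ideal.mem_comap] at h4
      rw [← h2]
      exact h4
    · rw [minorIdeal_eq_bot_of_lt (by omega), Ideal.mem_bot]
      refine MvPolynomial.funext fun Z => ?_
      rw [map_zero]
      refine hval Z fun f f' => ?_
      by_cases hf : Function.Injective f
      · have hf' : ¬ Function.Injective f' := fun hf' => by
          have h1 := Fintype.card_le_of_injective f hf
          have h2 := Fintype.card_le_of_injective f' hf'
          simp at h1 h2
          omega
        obtain ⟨a, b, he, hne⟩ := Function.not_injective_iff.1 hf'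
        exact Matrix.det_zero_of_column_eq hne (by intro c; simp [he])
      · obtain ⟨a, b, he, hne⟩ := Function.not_injective_iff.1 hf
        exact Matrix.det_zero_of_row_eq hne (by funext c; simp [he])
  · refine Ideal.span_le.2 ?_
    rintro x ⟨⟨f, f'⟩, rfl⟩
    show pairingMap K n m q _ = 0
    refine MvPolynomial.funext fun v => ?_
    obtain ⟨U, hU⟩ : ∃ U : Matrix (Fin m) (Fin n) K, U = Matrix.of fun i k => v (Sum.inl (i, k)) := ⟨_, rfl⟩
    obtain ⟨W, hW⟩ : ∃ W : Matrix (Fin n) (Fin q) K, W = Matrix.of fun k j => v (Sum.inr (k, j)) := ⟨_, rfl⟩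
    have hv : v = Sum.elim (fun p => U p.1 p.2) (fun p => W p.1 p.2) := by
      subst hU hW
      funext p
      rcases p with p | p <;> rfl
    rw [map_zero, hv, eval_pairingMap]
    dsimp only
    rw [RingHom.map_det]
    have : ((eval fun p : Fin m × Fin q => (U * W) p.1 p.2).mapMatrix ((genMatrix K m q).submatrix f f')) =
        (U.submatrix f id) * (W.submatrix id f') := by
      refine Matrix.ext fun i j => ?_
      simp [genMatrix, Matrix.mul_apply]
    rw [this]
    by_contra hne
    have hu : IsUnit ((U.submatrix f id) * (W.submatrix id f')) :=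
      (Matrix.isUnit_iff_isUnit_det _).2 (isUnit_iff_ne_zero.2 hne)
    have h1 := Matrix.rank_of_isUnit _ hu
    have h2 := (Matrix.rank_mul_le_left (U.submatrix f id) (W.submatrix id f')).trans
      (Matrix.rank_le_card_width _)
    rw [h1] at h2
    simp at h2

end GrothLib.SMT
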