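import Groth.Agent.Lib.SMT.DetThm
import Mathlib.LinearAlgebra.Matrix.NonsingularInverse

/-!
# The first fundamental theorem for `GL_n`

An invariant times a power of the minor `[last n rows | first n columns]` comes from the product
matrix, and this minor can be divided out because it is the Plücker coordinate `tauS`, whose
hyperplane section is a union of Schubert varieties.
-/

universe u

noncomputable section

open MvPolynomial W4bk4grassmannian Finset

namespace GrothLib.SMT

variable {K : Type u} [Field K]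

/-- The point of the pair space given by two matrices. -/
def pv {m n q : ℕ} (U : Matrix (Fin m) (Fin n) K) (W : Matrix (Fin n) (Fin q) K) :
    (Fin m × Fin n) ⊕ (Fin n × Fin q) → K :=
  Sum.elim (fun p => U p.1 p.2) (fun p => W p.1 p.2)

theorem exists_pv {m n q : ℕ} (v : (Fin m × Fin n) ⊕ (Fin n × Fin q) → K) :
    ∃ U W, v = pv U W := by
  refine ⟨Matrix.of fun i k => v (Sum.inl (i, k)), Matrix.of fun k j => v (Sum.inr (k, j)), ?_⟩
  funext p
  rcases p with p | p <;> rfl

theorem eval_pairing' {m n q : ℕ} (U : Matrix (Fin m) (Fin n) K) (W : Matrix (Fin n) (Fin q) K)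
    (g : MvPolynomial (Fin m × Fin q) K) :
    eval (pv U W) (pairingMap K n m q g) = eval (fun p => (U * W) p.1 p.2) g :=
  eval_pairingMap U W g

theorem eval_glTranslate {m n q : ℕ} (A : GL (Fin n) K) (U : Matrix (Fin m) (Fin n) K)
    (W : Matrix (Fin n) (Fin q) K) (f : PairRing K n m q) :
    eval (pv U W) (glTranslate K n m q A f) =
      eval (pv (U * ((A⁻¹ : GL (Fin n) K) : Matrix (Fin n) (Fin n) K))
        ((A : Matrix (Fin n) (Fin n) K) * W)) f := by
  have : (MvPolynomial.aeval (pv U W)).comp (glTranslate K n m q A) =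
      MvPolynomial.aeval (pv (U * ((A⁻¹ : GL (Fin n) K) : Matrix (Fin n) (Fin n) K))
        ((A : Matrix (Fin n) (Fin n) K) * W)) := by
    apply MvPolynomial.algHom_ext
    intro x
    rcases x with x | x <;> simp [glTranslate, pv, Matrix.mul_apply]
  simpa [MvPolynomial.aeval_eq_eval] using DFunLike.congr_fun this f

theorem glTranslate_pairingMap [Infinite K] {m n q : ℕ} (A : GL (Fin n) K)
    (g : MvPolynomial (Fin m × Fin q) K) :
    glTranslate K n m q A (pairingMap K n m q g) = pairingMap K n m q g := by
  refine MvPolynomial.funext fun v => ?_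
  obtain ⟨U, W, rfl⟩ := exists_pv v
  rw [eval_glTranslate, eval_pairing', eval_pairing', Matrix.mul_assoc,
    ← Matrix.mul_assoc ((A⁻¹ : GL (Fin n) K) : Matrix (Fin n) (Fin n) K),
    ← Matrix.GeneralLinearGroup.coe_mul, inv_mul_cancel, Matrix.GeneralLinearGroup.coe_one,
    Matrix.one_mul]

/-- The last `n` rows. -/
def lastRows {m n : ℕ} (hm : n ≤ m) (k : Fin n) : Fin m := ⟨m - n + k.val, by omega⟩

/-- The first `n` columns. -/
def firstCols {n q : ℕ} (hq : n ≤ q) (k : Fin n) : Fin q := ⟨k.val, by omega⟩

section Square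

variable {m n q : ℕ} (hm : n ≤ m) (hq : n ≤ q)

theorem lastRows_injective : Function.Injective (lastRows hm) := fun a b h =>
  Fin.ext (by have := congrArg Fin.val h; simp [lastRows] at this; omega)

theorem firstCols_injective : Function.Injective (firstCols hq) := fun a b h =>
  Fin.ext (by have := congrArg Fin.val h; simpa [firstCols] using this)

/-- The distinguished minor. -/
def dMinor : MvPolynomial (Fin m × Fin q) K :=
  ((genMatrix K m q).submatrix (lastRows hm) (firstCols hq)).det

theorem eval_dMinor (Z : Matrix (Fin m) (Fin q) K) :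
    eval (fun p => Z p.1 p.2) (dMinor (K := K) hm hq) =
      (Z.submatrix (lastRows hm) (firstCols hq)).det := by
  rw [dMinor, RingHom.map_det]
  congr 1
  refine Matrix.ext fun i j => ?_
  simp [genMatrix]

theorem exists_pow_dMinor_mul [Infinite K] (f : PairRing K n m q)
    (hf : ∀ A : GL (Fin n) K, glTranslate K n m q A f = f) :
    ∃ N, pairingMap K n m q (dMinor hm hq) ^ N * f ∈ (pairingMap K n m q).range := by
  classical
  let Y := genMatrix K m q
  let M : Matrix (Fin m) (Fin n) (MvPolynomial (Fin m × Fin q) K) :=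
    Y.submatrix id (firstCols hq) * (Y.submatrix (lastRows hm) (firstCols hq)).adjugate
  let img : (Fin m × Fin n) ⊕ (Fin n × Fin q) → MvPolynomial (Fin m × Fin q) K :=
    Sum.elim (fun p => M p.1 p.2) (fun p => Y (lastRows hm p.1) p.2)
  let wt : ((Fin m × Fin n) ⊕ (Fin n × Fin q) →₀ ℕ) → ℕ := fun e =>
    e.sum fun x k => Sum.elim (fun _ => k) (fun _ => 0) x
  let N := f.support.sup wt
  let P : MvPolynomial (Fin m × Fin q) K := ∑ e ∈ f.support,
    C (f.coeff e) * (e.prod fun x k => img x ^ k) * dMinor hm hq ^ (N - wt e)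
  refine ⟨N, P, ?_⟩
  have hne : pairingMap K n m q (dMinor (K := K) hm hq) ≠ 0 := by
    intro h
    let U : Matrix (Fin m) (Fin n) K := Matrix.of fun i k => if i = lastRows hm k then 1 else 0
    let W : Matrix (Fin n) (Fin q) K := Matrix.of fun k j => if j = firstCols hq k then 1 else 0
    have h1 := eval_pairing' U W (dMinor hm hq)
    rw [h, map_zero, eval_dMinor, Matrix.submatrix_mul _ _ _ id _ Function.bijective_id] at h1
    have hU : U.submatrix (lastRows hm) id = 1 := Matrix.ext fun i k => by
      simp [U, Matrix.one_apply, (lastRows_injective hm).eq_iff]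
    have hW : W.submatrix id (firstCols hq) = 1 := Matrix.ext fun k j => by
      simp [W, Matrix.one_apply, (firstCols_injective hq).eq_iff, eq_comm]
    rw [hU, hW, Matrix.one_mul, Matrix.det_one] at h1
    exact zero_ne_one h1
  apply mul_left_cancel₀ hne
  refine MvPolynomial.funext fun v => ?_
  obtain ⟨U, W, rfl⟩ := exists_pv v
  set Z := U * W with hZ
  set δ := (Z.submatrix (lastRows hm) (firstCols hq)).det with hδ
  have hD : eval (pv U W) (pairingMap K n m q (dMinor hm hq)) = δ := by
    rw [eval_pairing', eval_dMinor]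
  rw [map_mul, map_mul, hD]
  rcases eq_or_ne δ 0 with h0 | h0
  · rw [h0, zero_mul, zero_mul]
  congr 1
  show eval (pv U W) (pairingMap K n m q P) = _
  rw [map_mul, map_pow, hD, eval_pairing', ← hZ]
  set U1 := U.submatrix (lastRows hm) id with hU1
  set W1 := W.submatrix id (firstCols hq) with hW1
  have hsplit : Z.submatrix (lastRows hm) (firstCols hq) = U1 * W1 :=
    Matrix.submatrix_mul _ _ _ id _ Function.bijective_id
  have hU1u : U1.det ≠ 0 := fun e => h0 (by rw [hδ, hsplit, Matrix.det_mul, e, zero_mul])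
  have hW1u : W1.det ≠ 0 := fun e => h0 (by rw [hδ, hsplit, Matrix.det_mul, e, mul_zero])
  let A : GL (Fin n) K := Matrix.GeneralLinearGroup.mkOfDetNeZero U1 hU1u
  have hAinv : ((A⁻¹ : GL (Fin n) K) : Matrix (Fin n) (Fin n) K) = U1⁻¹ := by
    rw [Matrix.coe_units_inv]
    rfl
  have hinv : eval (pv U W) f = eval (pv (U * U1⁻¹) (U1 * W)) f := by
    conv_lhs => rw [← hf A]
    rw [eval_glTranslate, hAinv]
    rfl
  set w : (Fin m × Fin n) ⊕ (Fin n × Fin q) → K := fun x => eval (fun p => Z p.1 p.2) (img x)
  have hw : ∀ x, pv (U * U1⁻¹) (U1 * W) x = w x * Sum.elim (fun _ => δ⁻¹) (fun _ => 1) x := by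
    rintro (⟨i, k⟩ | ⟨k, j⟩)
    · show (U * U1⁻¹) i k = eval _ (M i k) * δ⁻¹
      have hM : M.map (eval fun p => Z p.1 p.2) =
          Z.submatrix id (firstCols hq) * (Z.submatrix (lastRows hm) (firstCols hq)).adjugate := by
        simp only [M, Matrix.map_mul]
        congr 1
        · refine Matrix.ext fun a b => ?_
          simp [Y, genMatrix]
        · rw [← RingHom.mapMatrix_apply, RingHom.map_adjugate]
          congr 1
          refine Matrix.ext fun a b => ?_
          simp [Y, genMatrix]
      have hM' : eval (fun p => Z p.1 p.2) (M i k) = (M.map (eval fun p => Z p.1 p.2)) i k := rfl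
      rw [hM', hM]
      have hkey : U * U1⁻¹ =
          δ⁻¹ • (Z.submatrix id (firstCols hq) * (Z.submatrix (lastRows hm) (firstCols hq)).adjugate) := by
        rw [← Matrix.mul_smul, show δ⁻¹ • (Z.submatrix (lastRows hm) (firstCols hq)).adjugate =
          (Z.submatrix (lastRows hm) (firstCols hq))⁻¹ by
            rw [Matrix.inv_def, Ring.inverse_eq_inv']]
        rw [hsplit, Matrix.mul_inv_rev, show Z.submatrix id (firstCols hq) = U * W1 by
          rw [hZ, hW1, Matrix.submatrix_mul U W id id (firstCols hq) Function.bijective_id,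
            Matrix.submatrix_id_id]]
        rw [← Matrix.mul_assoc, Matrix.mul_assoc U W1 W1⁻¹,
          Matrix.mul_nonsing_inv _ (isUnit_iff_ne_zero.2 hW1u), Matrix.mul_one]
      rw [hkey, Matrix.smul_apply, smul_eq_mul, mul_comm]
    · show (U1 * W) k j = eval _ (Y (lastRows hm k) j) * 1
      rw [mul_one]
      simp [Y, genMatrix, hZ, hU1, Matrix.mul_apply]
  rw [hinv]
  conv_rhs => rw [MvPolynomial.eval_eq]
  rw [Finset.mul_sum, map_sum]
  refine sum_congr rfl fun e he => ?_
  simp only [map_mul, map_pow, eval_C, Finsupp.prod, map_prod]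
  rw [eval_dMinor, ← hδ]
  have hwt : wt e ≤ N := Finset.le_sup he
  have hprod : ∏ x ∈ e.support, pv (U * U1⁻¹) (U1 * W) x ^ e x =
      (∏ x ∈ e.support, w x ^ e x) * δ⁻¹ ^ wt e := by
    simp only [hw, mul_pow, prod_mul_distrib]
    congr 1
    simp only [wt, Finsupp.sum]
    rw [← prod_pow_eq_pow_sum]
    refine prod_congr rfl fun x _ => ?_
    rcases x with x | x <;> simp
  rw [hprod, show δ ^ (N - wt e) = δ ^ N * δ⁻¹ ^ wt e by rw [inv_pow, pow_sub₀ _ h0 hwt]]
  simp only [w]
  ring

theorem dMinor_eq_cellMinor (hn : 0 < n) :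
    ∃ ε : ℤˣ, dMinor (K := K) hm hq =
      ((ε : ℤ) : CellRing K q m) * cellMinor K q m (tauS q m n hq hm) := by
  classical
  have hf := lastRows_injective hm
  have hg := firstCols_injective hq
  refine ⟨cellSign (lastRows hm) (firstCols hq), ?_⟩
  rw [dMinor, det_eq_sign_cellMinor K hf hg]
  congr 2
  have hc : Finset.univ.image (cellRows (lastRows hm) (firstCols hq)) =
      Finset.univ.image (tauS q m n hq hm).1 := by
    refine Finset.eq_of_subset_of_card_le ?_ ?_
    · intro x hx
      obtain ⟨c, -, rfl⟩ := mem_image.1 hx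
      refine mem_image.2 ?_
      by_cases h : ∃ k, firstCols hq k = c
      · obtain ⟨k, rfl⟩ := h
        refine ⟨⟨q - n + k.val, by omega⟩, mem_univ _, ?_⟩
        rw [cellRows_apply _ hg]
        apply Fin.ext
        simp only [tauS]
        rw [if_neg (by omega)]
        simp [lowRow, lastRows]
        omega
      · push Not at h
        rw [cellRows_apply_not _ h]
        have hcn : n ≤ c.val := by
          by_contra hc
          exact h ⟨c.val, by omega⟩ rfl
        refine ⟨⟨c.val - n, by omega⟩, mem_univ _, ?_⟩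
        apply Fin.ext
        simp only [tauS]
        rw [if_pos (by omega)]
        simp
        omega
    · rw [card_image_of_injective _ (tauS q m n hq hm).2.injective,
        card_image_of_injective _ (cellRows_injective hf hg)]
  apply Subtype.ext
  show (fun t => Finset.orderEmbOfFin _ _ t) = _
  symm
  refine Finset.orderEmbOfFin_unique ((card_image_eq_iff _).2 (cellRows_injective hf hg)) (fun t => ?_)
    (tauS q m n hq hm).2
  rw [hc]
  exact mem_image_of_mem _ (mem_univ t)

theorem mem_range_of_dMinor_mul [Infinite K] (hn : 0 < n) (h : PairRing K n m q)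
    (g : MvPolynomial (Fin m × Fin q) K)
    (hg : pairingMap K n m q g = pairingMap K n m q (dMinor hm hq) * h) :
    h ∈ (pairingMap K n m q).range := by
  classical
  have hq0 : 0 < q := by omega
  set τ := tauS q m n hq hm
  obtain ⟨ε, hε⟩ := dMinor_eq_cellMinor (K := K) hm hq hn
  obtain ⟨G, rfl⟩ := cellMap_surjective (K := K) (d := q) (r := m) hq0 g
  set bot := botIdx (n := q + m) (q.le_add_right m)
  set G' := homogP bot G.totalDegree G
  have h2 : cellMap K q m G' = cellMap K q m G := by
    obtain ⟨c, hc⟩ := Ideal.mem_span_singleton'.1 (homogP_sub_mem bot (le_refl G.totalDegree) (g := G))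
    have := congrArg (cellMap K q m) hc
    rw [map_mul, map_sub, map_one, cellMap_bot, sub_self, mul_zero, map_sub, eq_comm, sub_eq_zero] at this
    exact this
  have hbotlow : low bot = 0 := low_botIdx q m
  have hmem : ∀ φ : Idx q (q + m), φ < τ → G' ∈ plD K (· ≤ φ) := by
    intro φ hφ
    have hp := (compat_le φ).isPrime (K := K) hq0
    have hbot : (X bot : PlRing K q (q + m)) ∉ plD K (· ≤ φ) := by
      intro hc
      have h0 : phi K (fun i t => i ≤ φ.1 t) (X bot) = 0 := (compat_le φ).plD_le_ker hc
      rw [phi_X] at h0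
      refine (trunc_minor_monic K _ bot ?_).2.ne_zero h0
      intro t
      show bot.1 t ≤ φ.1 t
      rw [Fin.le_def]
      exact strictMono_val_le φ.2 t
    refine (hp.mem_or_mem (x := X bot) ?_).resolve_left hbot
    rw [← schubertVanishing_eq hq0]
    simp only [schubertVanishing, Submodule.mem_iInf]
    intro B hB
    show evalMinors K q (q + m) B _ = 0
    rw [map_mul]
    by_cases h0 : (B.submatrix bot.1 id).det = 0
    · rw [evalMinors, aeval_X, h0, zero_mul]
    obtain ⟨Z, hZ⟩ := exists_cellVal B (isUnit_iff_ne_zero.2 h0)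
    have hzero : ∀ ψ : Idx q (q + m), ¬ ψ ≤ φ → eval Z (cellMinor K q m ψ) = 0 := by
      intro ψ hψ
      have h1 := hB ψ hψ
      rw [hZ, Matrix.submatrix_mul _ _ ψ.1 id id Function.bijective_id, Matrix.submatrix_id_id,
        Matrix.det_mul] at h1
      rw [← cellMap_X, eval_cellMap, evalMinors, aeval_X]
      exact (mul_eq_zero.1 h1).resolve_right h0
    have hD0 : eval Z (dMinor (K := K) hm hq) = 0 := by
      rw [hε, map_mul, hzero τ (fun hle => absurd (hle.trans_lt hφ) (lt_irrefl _)), mul_zero]
    obtain ⟨U, W, hUW⟩ := exists_factor_of_minors (k := n) (Matrix.of fun i j => Z (i, j)) (fun f f' => by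
      have hmap : ((genMatrix K m q).submatrix f f').map (eval Z) =
          (Matrix.of fun i j => Z (i, j)).submatrix f f' := by
        refine Matrix.ext fun i j => ?_
        simp [genMatrix]
      by_cases hf : Function.Injective f
      · by_cases hf' : Function.Injective f'
        · rw [← hmap, ← RingHom.mapMatrix_apply, ← RingHom.map_det,
            det_eq_sign_cellMinor K hf hf', map_mul, hzero _ (fun hle => by
              have h1 := (le_tauS_iff hq hm _).1 (hle.trans hφ.le)
              unfold low at h1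
              rw [card_low_cellIdx] at h1
              omega), mul_zero]
        · obtain ⟨a, b, he, hne⟩ := Function.not_injective_iff.1 hf'
          exact Matrix.det_zero_of_column_eq hne (by intro c; simp [he])
      · obtain ⟨a, b, he, hne⟩ := Function.not_injective_iff.1 hf
        exact Matrix.det_zero_of_row_eq hne (by funext c; simp [he]))
    have hZ' : Z = fun p => (U * W) p.1 p.2 := by
      rw [← hUW]
      rfl
    have h3 := congrArg (eval (pv U W)) hg
    rw [map_mul, eval_pairing', eval_pairing', ← hZ', hD0, zero_mul, ← h2, eval_cellMap] at h3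
    conv_lhs => arg 2; rw [hZ, evalMinors_mul _ _ (isHomogeneous_homogP bot G.totalDegree G), h3]
    simp
  have hτ : plD K (fun θ => θ ≤ τ ∧ θ ≠ τ) = plD K (· ≤ τ) ⊔ Ideal.span {X τ} :=
    (plD_sup_span_singleton (· ≤ τ) τ).symm
  have hG' : G' ∈ plD K (fun θ => θ ≤ τ ∧ θ ≠ τ) := by
    let D : Finset (Idx q (q + m)) := Finset.univ.filter fun φ => φ < τ
    have hDne : D.Nonempty := by
      refine ⟨bot, mem_filter.2 ⟨mem_univ _, lt_of_le_of_ne (fun t => strictMono_val_le τ.2 t) fun e => ?_⟩⟩
      have h1 : codeg τ = 0 := by rw [← e]; simp [codeg, bot, botIdx]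
      rw [codeg_tauS] at h1
      have : 0 < n * m := Nat.mul_pos hn (by omega)
      omega
    have hJ : J K D = plD K (fun θ => θ ≤ τ ∧ θ ≠ τ) := by
      rw [J_eq_plD hq0 hDne]
      congr 1
      funext θ
      refine propext ⟨fun ⟨φ, hφ, hle⟩ => ?_, fun ⟨h1, h2⟩ =>
        ⟨θ, mem_filter.2 ⟨mem_univ _, lt_of_le_of_ne h1 h2⟩, le_rfl⟩⟩
      have hlt := hle.trans_lt (mem_filter.1 hφ).2
      exact ⟨hlt.le, hlt.ne⟩
    rw [← hJ]
    simp only [J, Submodule.mem_iInf]
    exact fun φ hφ => hmem φ (mem_filter.1 hφ).2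
  rw [hτ] at hG'
  obtain ⟨j, hj, z, hz, hjz⟩ := Submodule.mem_sup.1 hG'
  obtain ⟨c, rfl⟩ := Ideal.mem_span_singleton'.1 hz
  have hj0 : pairingMap K n m q (cellMap K q m j) = 0 := by
    have h1 : cellMap K q m j ∈ CAlgX.minorIdeal (genMatrix K m q) (n + 1) := by
      have := (comap_cellMap_minorIdeal (K := K) hq0 hq hm).ge (Ideal.mem_sup_left hj)
      exact this
    rw [← sft] at h1
    exact h1
  refine ⟨((ε : ℤ) : CellRing K q m) * cellMap K q m c, ?_⟩
  have hDne : pairingMap K n m q (dMinor (K := K) hm hq) ≠ 0 := by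
    intro e
    have h1 : dMinor (K := K) hm hq ∈ CAlgX.minorIdeal (genMatrix K m q) (n + 1) := by
      rw [← sft]; exact e
    have h2 : cellMap K q m (X τ) ∈ CAlgX.minorIdeal (genMatrix K m q) (n + 1) := by
      rw [hε] at h1
      have h3 := Ideal.mul_mem_left _ (((ε : ℤ) : CellRing K q m)) h1
      rw [← mul_assoc, ← Int.cast_mul, ← Units.val_mul, Int.units_mul_self, Units.val_one, Int.cast_one,
        one_mul] at h3
      rw [cellMap_X]
      exact h3
    have h4 : (X τ : PlRing K q (q + m)) ∈ cellIdeal K n hq hm := by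
      rw [← comap_cellMap_minorIdeal hq0 hq hm]
      exact h2
    have hP := (compat_le τ).isPrime (K := K) hq0
    exact X_notMem_plD_le (K := K) hq0 τ (mem_of_homogeneous_mem_sup bot
      (fun _ hf k => component_mem_plD K hf k) (bot_notMem hq0 hq hm) (isHomogeneous_X K τ) h4)
  apply mul_left_cancel₀ hDne
  show _ * pairingMap K n m q _ = _
  rw [← hg, ← h2, ← hjz, ← map_mul, hε]
  have e : ((ε : ℤ) : CellRing K q m) * cellMinor K q m τ * (((ε : ℤ) : CellRing K q m) * cellMap K q m c) =
      cellMap K q m (c * X τ) := by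
    rw [map_mul (cellMap K q m), cellMap_X, mul_mul_mul_comm, ← Int.cast_mul, ← Units.val_mul,
      Int.units_mul_self, Units.val_one, Int.cast_one, one_mul, mul_comm]
  rw [e, map_add (cellMap K q m), map_add, hj0, zero_add]

theorem mem_range_of_invariant [Infinite K] (hn : 0 < n) (hm : n ≤ m) (hq : n ≤ q) (f : PairRing K n m q)
    (hf : ∀ A : GL (Fin n) K, glTranslate K n m q A f = f) : f ∈ (pairingMap K n m q).range := by
  obtain ⟨N, hN⟩ := exists_pow_dMinor_mul hm hq f hf
  induction N with
  | zero => simpa using hN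
  | succ N ih =>
    obtain ⟨g, hg⟩ := hN
    exact ih (mem_range_of_dMinor_mul hm hq hn _ g (by
      rw [← mul_assoc, ← pow_succ']
      exact hg))

end Square

theorem fftGL [Infinite K] (m n q : ℕ) (f : PairRing K n m q) :
    (∀ A : GL (Fin n) K, glTranslate K n m q A f = f) ↔ f ∈ (pairingMap K n m q).range := by
  classical
  refine ⟨fun hf => ?_, fun ⟨g, hg⟩ A => by
    rw [← hg]
    exact glTranslate_pairingMap A g⟩
  rcases Nat.eq_zero_or_pos n with rfl | hn
  · exact ⟨C (constantCoeff f), by
      show pairingMap K 0 m q _ = f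
      rw [← MvPolynomial.algebraMap_eq, AlgHom.commutes, MvPolynomial.algebraMap_eq]
      exact (eq_C_of_isEmpty f).symm⟩
  let ι : PairRing K n m q →ₐ[K] PairRing K n (m + n) (q + n) :=
    rename (Sum.map (Prod.map (Fin.castAdd n) id) (Prod.map id (Fin.castAdd n)))
  let ρ : PairRing K n (m + n) (q + n) →ₐ[K] PairRing K n m q :=
    aeval (Sum.elim
      (fun p : Fin (m + n) × Fin n => Fin.addCases (motive := fun _ => PairRing K n m q)
        (fun i => X (Sum.inl (i, p.2))) (fun _ => 0) p.1)
      (fun p : Fin n × Fin (q + n) => Fin.addCases (motive := fun _ => PairRing K n m q)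
        (fun j => X (Sum.inr (p.1, j))) (fun _ => 0) p.2))
  let σ : MvPolynomial (Fin (m + n) × Fin (q + n)) K →ₐ[K] MvPolynomial (Fin m × Fin q) K :=
    aeval fun p : Fin (m + n) × Fin (q + n) => Fin.addCases (motive := fun _ => MvPolynomial (Fin m × Fin q) K)
      (fun i => Fin.addCases (motive := fun _ => MvPolynomial (Fin m × Fin q) K)
        (fun j => X (i, j)) (fun _ => 0) p.2) (fun _ => 0) p.1
  have hρι : ∀ x, ρ (ι x) = x := fun x => by
    have h1 : ρ.comp ι = AlgHom.id K _ := by
      apply MvPolynomial.algHom_ext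
      rintro (⟨i, k⟩ | ⟨k, j⟩) <;> simp [ρ, ι]
    simpa using DFunLike.congr_fun h1 x
  have hρπ : ∀ x, ρ (pairingMap K n (m + n) (q + n) x) = pairingMap K n m q (σ x) := fun x => by
    have h1 : ρ.comp (pairingMap K n (m + n) (q + n)) = (pairingMap K n m q).comp σ := by
      apply MvPolynomial.algHom_ext
      rintro ⟨i, j⟩
      induction i using Fin.addCases with
      | left i =>
        induction j using Fin.addCases with
        | left j => simp [ρ, σ, pairingMap]
        | right j => simp [ρ, σ, pairingMap]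
      | right i => simp [ρ, σ, pairingMap]
    exact DFunLike.congr_fun h1 x
  have hinv : ∀ A : GL (Fin n) K, glTranslate K n (m + n) (q + n) A (ι f) = ι f := by
    intro A
    have h1 : (glTranslate K n (m + n) (q + n) A).comp ι = ι.comp (glTranslate K n m q A) := by
      apply MvPolynomial.algHom_ext
      rintro (⟨i, k⟩ | ⟨k, j⟩) <;> simp [glTranslate, ι, map_sum]
    have h2 := DFunLike.congr_fun h1 f
    simp only [AlgHom.comp_apply, hf A] at h2
    exact h2
  obtain ⟨g, hg⟩ := mem_range_of_invariant hn (Nat.le_add_left n m) (Nat.le_add_left n q) (ι f) hinv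
  exact ⟨σ g, by
    show pairingMap K n m q (σ g) = f
    rw [← hρπ, show pairingMap K n (m + n) (q + n) g = ι f from hg, hρι]⟩

end GrothLib.SMT
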