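import Groth.Agent.Lib.SMT.Straighten

/-!
# The lattice of indices: divisors, ranks
-/

noncomputable section

open W4bk4grassmannian Finset

namespace GrothLib.SMT

variable {d n : ℕ}

theorem exists_divisor_ge {τ w : Idx d n} (h : τ < w) : ∃ φ ∈ divisors w, τ ≤ φ := by
  classical
  have hne : (univ.filter fun t => τ.1 t < w.1 t).Nonempty := by
    by_contra hc
    refine absurd (le_antisymm h.le (fun t => ?_)) h.ne
    by_contra ht
    exact hc ⟨t, by simpa using lt_of_not_ge ht⟩
  obtain ⟨t0, ht0, hmin⟩ := Finset.exists_min_image _ id hne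
  replace ht0 : τ.1 t0 < w.1 t0 := (mem_filter.1 ht0).2
  have hbefore : ∀ s < t0, τ.1 s = w.1 s := fun s hs => le_antisymm (h.le s) (by
    by_contra hc
    exact absurd hs (not_lt.2 (hmin s (mem_filter.2 ⟨mem_univ _, lt_of_not_ge hc⟩))))
  have hv : (τ.1 t0).val < (w.1 t0).val := ht0
  let v : Fin n := ⟨(w.1 t0).val - 1, lt_of_le_of_lt (Nat.sub_le _ _) (w.1 t0).isLt⟩
  let f : Fin d → Fin n := fun t => if t = t0 then v else w.1 t
  have hf : StrictMono f := by
    intro a b hab
    simp only [f]
    split_ifs with ha hb hb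
    · exact absurd (ha.trans hb.symm) hab.ne
    · subst ha
      have : (w.1 a).val < (w.1 b).val := w.2 hab
      show v.val < (w.1 b).val
      simp only [v]; omega
    · subst hb
      show (w.1 a).val < v.val
      have h1 : (τ.1 a).val < (τ.1 b).val := τ.2 hab
      rw [hbefore a hab] at h1
      simp only [v]; omega
    · exact w.2 hab
  have hle : τ ≤ (⟨f, hf⟩ : Idx d n) := by
    intro t
    show τ.1 t ≤ f t
    simp only [f]
    split_ifs with ht
    · subst ht
      show (τ.1 t).val ≤ v.val
      simp only [v]; omega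
    · exact h.le t
  refine ⟨⟨f, hf⟩, ⟨?_, ?_⟩, hle⟩
  · refine lt_of_le_of_ne (fun t => ?_) (fun e => ?_)
    · show f t ≤ w.1 t
      simp only [f]
      split_ifs with ht
      · subst ht
        show v.val ≤ (w.1 t).val
        simp only [v]; omega
      · exact le_rfl
    · have := congrArg (fun x : Idx d n => (x.1 t0).val) e
      simp [f, v] at this
      omega
  · unfold codeg
    rw [← add_sum_erase univ _ (mem_univ t0), ← add_sum_erase univ (fun t => (w.1 t).val - t.val)
      (mem_univ t0)]
    have hτt := strictMono_val_le τ.2 t0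
    have e : ∑ t ∈ univ.erase t0, ((f t).val - t.val) = ∑ t ∈ univ.erase t0, ((w.1 t).val - t.val) :=
      sum_congr rfl fun t ht => by simp [f, (mem_erase.1 ht).1]
    simp only [f, v, if_true]
    simp only [f, v] at e
    rw [e]
    omega

end GrothLib.SMT
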