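import Groth.Agent.Lib.SMT.Basis

/-!
# Unions of Schubert conditions
-/

universe u

noncomputable section

open MvPolynomial W4bk4grassmannian Finset

namespace GrothLib.SMT

variable {K : Type u} [CommRing K] {d n : ℕ}

/-- If every standard monomial on `q` lives on one of the pieces, the ideal of `q` is the
intersection of the ideals of the pieces, and standard monomials on `q` are independent. -/
theorem union_indep {ι : Type*} {q : Idx d n → Prop} {qs : ι → Idx d n → Prop}
    {ps : ι → Fin n → Fin d → Prop} (h : ∀ i, Compat (qs i) (ps i)) (hd : 0 < d)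
    (hcov : ∀ s, IsStdOn q s → ∃ i, ∀ θ ∈ s, qs i θ) {l : StdM q →₀ K}
    (hl : ∀ i, Finsupp.linearCombination K (fun s : StdM q => mon K s.1) l ∈ plD K (qs i)) :
    l = 0 := by
  classical
  refine Finsupp.ext fun s => ?_
  by_contra hs
  obtain ⟨i, hi⟩ := hcov s.1 s.2
  have hsup := Finsupp.mem_support_iff.2 hs
  let A := l.support.filter fun t => ∀ θ ∈ t.1, qs i θ
  have h0 : phi K (ps i) (Finsupp.linearCombination K (fun s : StdM q => mon K s.1) l) = 0 :=
    (h i).plD_le_ker (hl i)
  rw [Finsupp.linearCombination_apply, map_finsuppSum, Finsupp.sum] at h0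
  simp only [map_smul] at h0
  rw [← sum_filter_add_sum_filter_not l.support (fun t : StdM q => ∀ θ ∈ t.1, qs i θ)] at h0
  rw [add_eq_left.2, ← sum_attach] at h0
  · let f : {x // x ∈ A} → StdM (qs i) := fun t => ⟨t.1.1, t.1.2.1, (mem_filter.1 t.2).2⟩
    have hinj : Function.Injective f := by
      intro a b hab
      have := congrArg (fun x : StdM (qs i) => x.1) hab
      exact Subtype.ext (Subtype.ext this)
    have := ((h i).linearIndependent (K := K) hd).comp f hinj
    rw [Fintype.linearIndependent_iff] at this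
    exact hs (this (fun t => l t.1) h0 ⟨s, mem_filter.2 ⟨hsup, hi⟩⟩)
  · refine sum_eq_zero fun t ht => ?_
    obtain ⟨-, hbad⟩ := mem_filter.1 ht
    push Not at hbad
    have : phi K (ps i) (mon K t.1) = 0 := (h i).plD_le_ker (mon_mem_plD K hbad)
    rw [this, smul_zero]

theorem union_eq_iInf {ι : Type*} {q : Idx d n → Prop} {qs : ι → Idx d n → Prop}
    {ps : ι → Fin n → Fin d → Prop} (h : ∀ i, Compat (qs i) (ps i)) (hd : 0 < d)
    (hsub : ∀ i θ, qs i θ → q θ) (hcov : ∀ s, IsStdOn q s → ∃ i, ∀ θ ∈ s, qs i θ) :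
    plD K q = ⨅ i, plD K (qs i) := by
  refine le_antisymm (le_iInf fun i => plD_anti K (hsub i)) fun f hf => ?_
  obtain ⟨l, hl⟩ := exists_std_expansion K q f
  have hl0 : l = 0 := by
    refine union_indep h hd hcov fun i => ?_
    have h1 := plD_anti K (hsub i) hl
    have h2 := Submodule.mem_iInf _ |>.1 hf i
    simpa using (plD K (qs i)).sub_mem h2 h1
  simpa [hl0] using hl

/-- Chains below a union of principal down-sets lie below one of them. -/
theorem chain_cover {ι : Type*} [Nonempty ι] {τs : ι → Idx d n} {s : Multiset (Idx d n)}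
    (hs : IsStdOn (fun θ => ∃ i, θ ≤ τs i) s) : ∃ i, ∀ θ ∈ s, θ ≤ τs i := by
  rcases eq_or_ne s 0 with rfl | hne
  · exact ⟨Classical.arbitrary ι, by simp⟩
  · obtain ⟨θ, hθ, hmax⟩ := hs.1.exists_top hne
    obtain ⟨i, hi⟩ := hs.2 θ hθ
    exact ⟨i, fun a ha => (hmax a ha).trans hi⟩

theorem plD_union {ι : Type*} [Nonempty ι] (hd : 0 < d) (τs : ι → Idx d n) :
    plD K (fun θ => ∃ i, θ ≤ τs i) = ⨅ i, plD K (· ≤ τs i) :=
  union_eq_iInf (fun i => compat_le (τs i)) hd (fun i _ h => ⟨i, h⟩) (fun _ hs => chain_cover hs)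

theorem iInf_schubertVanishing [IsDomain K] [Infinite K] {ι : Type*} [Nonempty ι] (hd : 0 < d)
    (τs : ι → Idx d n) :
    ⨅ i, schubertVanishing K d n (τs i) = plD K (fun θ => ∃ i, θ ≤ τs i) := by
  simp only [schubertVanishing_eq hd, plD_union hd]

theorem plD_sup_span_singleton (q : Idx d n → Prop) (τ : Idx d n) :
    plD K q ⊔ Ideal.span {X τ} = plD K (fun θ => q θ ∧ θ ≠ τ) := by
  refine le_antisymm (sup_le (plD_anti K fun _ h => h.1) ?_) (sup_le ?_ ?_)
  · rw [Ideal.span_singleton_le_iff_mem]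
    exact X_mem_plD K fun h => h.2 rfl
  · exact le_sup_of_le_left (plIdealTop_le_plD K q)
  · rw [Ideal.span_le]
    rintro f ⟨φ, hφ, rfl⟩
    by_cases h1 : φ = τ
    · subst h1; exact Ideal.mem_sup_right (Ideal.subset_span rfl)
    · exact Ideal.mem_sup_left (X_mem_plD K fun h => hφ ⟨h, h1⟩)

end GrothLib.SMT
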