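import Groth.Agent.Lib.SMT.Graded
import Groth.Agent.Lib.SMT.Union
import Groth.Agent.Lib.SMT.Poset
import Mathlib.Algebra.MvPolynomial.Equiv
import Mathlib.Algebra.MvPolynomial.Rename
import Mathlib.Algebra.MvPolynomial.NoZeroDivisors

/-!
# Schubert coordinate rings are free over the rank sums

`ySum i` is the sum of the variables of rank (`codeg`) `i`; `wEval N` evaluates a polynomial in
`N` variables at `ySum (N-1), …, ySum 0`.  `Good N lo hi B`: the monomials of `B` are a basis of
`lo/hi` over `K[w]`.  `exists_good_schubert`, `exists_good_divisors`: the coordinate rings of a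
Schubert variety and of a union of divisors are free (the shelling of the lattice of indices).
-/

universe u

noncomputable section

open MvPolynomial W4bk4grassmannian Finset

namespace GrothLib.SMT

variable (K : Type u) [CommRing K] {d n : ℕ}

theorem codeg_add (θ : Idx d n) : codeg θ + ∑ t : Fin d, t.val = sumVal θ := by
  rw [codeg, sumVal, ← sum_add_distrib]
  exact sum_congr rfl fun t _ => Nat.sub_add_cancel (strictMono_val_le θ.2 t)

theorem codeg_lt {θ η : Idx d n} (h : θ < η) : codeg θ < codeg η := by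
  have h2 : sumVal θ < sumVal η := by
    refine sum_lt_sum (fun t _ => h.le t) ?_
    by_contra hc
    push Not at hc
    exact h.ne (le_antisymm h.le fun t => hc t (mem_univ t))
  have := codeg_add θ
  have := codeg_add η
  omega

theorem codeg_sup_add_inf (θ η : Idx d n) :
    codeg (W4bk4grassmannian.sup θ η) + codeg (W4bk4grassmannian.inf θ η) = codeg θ + codeg η := by
  have h : sumVal (W4bk4grassmannian.sup θ η) + sumVal (W4bk4grassmannian.inf θ η) =
      sumVal θ + sumVal η := by
    unfold sumVal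
    rw [← sum_add_distrib, ← sum_add_distrib]
    refine sum_congr rfl fun t _ => ?_
    show (max (θ.1 t) (η.1 t)).val + (min (θ.1 t) (η.1 t)).val = _
    rcases le_total (θ.1 t) (η.1 t) with h | h
    · rw [max_eq_right h, min_eq_left h, add_comm]
    · rw [max_eq_left h, min_eq_right h]
  have := codeg_add (W4bk4grassmannian.sup θ η)
  have := codeg_add (W4bk4grassmannian.inf θ η)
  have := codeg_add θ
  have := codeg_add η
  omega

/-- The sum of the Plücker variables of rank `i`. -/
def ySum (i : ℕ) : PlRing K d n :=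
  open scoped Classical in ∑ θ ∈ univ.filter (fun θ : Idx d n => codeg θ = i), X θ

theorem isHomogeneous_ySum (i : ℕ) : (ySum K (d := d) (n := n) i).IsHomogeneous 1 := by
  classical
  exact IsHomogeneous.sum _ _ 1 fun θ _ => isHomogeneous_X K θ

theorem ySum_sub_X_mem (τ : Idx d n) : ySum K (codeg τ) - X τ ∈ plD K (· ≤ τ) := by
  classical
  have : ySum K (codeg τ) - X τ =
      ∑ θ ∈ (univ.filter (fun θ : Idx d n => codeg θ = codeg τ)).erase τ, (X θ : PlRing K d n) := by
    rw [ySum, ← add_sum_erase (univ.filter (fun θ : Idx d n => codeg θ = codeg τ))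
      (fun θ => (X θ : PlRing K d n)) (mem_filter.2 ⟨mem_univ τ, rfl⟩), add_sub_cancel_left]
  rw [this]
  refine Ideal.sum_mem _ fun θ hθ => X_mem_plD K fun hle => ?_
  obtain ⟨hne, hθ'⟩ := mem_erase.1 hθ
  exact absurd (mem_filter.1 hθ').2 (codeg_lt (lt_of_le_of_ne hle hne)).ne

/-- Evaluation at the rank sums, top rank first. -/
def wEval (N : ℕ) : MvPolynomial (Fin N) K →ₐ[K] PlRing K d n :=
  aeval fun i : Fin N => ySum K (N - 1 - i.val)

theorem wEval_rename_succ (N : ℕ) (p : MvPolynomial (Fin N) K) :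
    wEval K (d := d) (n := n) (N + 1) (rename Fin.succ p) = wEval K N p := by
  rw [wEval, aeval_rename, wEval]
  congr 1
  refine algHom_ext fun i => ?_
  simp only [aeval_X, Function.comp_apply, Fin.val_succ]
  congr 1
  omega

theorem wEval_X_zero (N : ℕ) : wEval K (d := d) (n := n) (N + 1) (X 0) = ySum K N := by
  simp [wEval]

theorem isHomogeneous_wEval {N : ℕ} {p : MvPolynomial (Fin N) K} {i : ℕ} (hp : p.IsHomogeneous i) :
    (wEval K (d := d) (n := n) N p).IsHomogeneous i := by
  simpa [wEval] using hp.aeval (fun j : Fin N => ySum K (d := d) (n := n) (N - 1 - j.val))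
    (fun j => isHomogeneous_ySum K _)

/-- A combination of the monomials of `B` with coefficients in `K[w]`. -/
def comb (N : ℕ) (B : Finset (Multiset (Idx d n)))
    (l : Multiset (Idx d n) → MvPolynomial (Fin N) K) : PlRing K d n :=
  ∑ b ∈ B, wEval K N (l b) * mon K b

theorem comb_component (N : ℕ) (B : Finset (Multiset (Idx d n)))
    (l : Multiset (Idx d n) → MvPolynomial (Fin N) K) (m : ℕ) :
    ∃ l', homogeneousComponent m (comb K N B l) = comb K N B l' := by
  classical
  refine ⟨fun b => if b.card ≤ m then homogeneousComponent (m - b.card) (l b) else 0, ?_⟩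
  rw [comb, map_sum]
  refine sum_congr rfl fun b _ => ?_
  rw [component_mul (isHomogeneous_mon K b)]
  split_ifs with h
  · congr 1
    conv_lhs => rw [← sum_homogeneousComponent (l b), map_sum, map_sum]
    have hcomp : ∀ i, homogeneousComponent (m - b.card)
        (wEval K (d := d) (n := n) N (homogeneousComponent i (l b))) =
        if i = m - b.card then wEval K N (homogeneousComponent i (l b)) else 0 := fun i => by
      rw [homogeneousComponent_of_mem (isHomogeneous_wEval K (homogeneousComponent_isHomogeneous i _))]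
      by_cases h' : i = m - b.card
      · rw [if_pos h'.symm, if_pos h']
      · rw [if_neg (Ne.symm h'), if_neg h']
    simp only [hcomp]
    rw [Finset.sum_ite_eq']
    split_ifs with hr
    · rfl
    · rw [homogeneousComponent_eq_zero _ _ (by simp at hr; omega), map_zero]
  · simp [h]

/-- The monomials of `B` form a `K[w]`-basis of `lo / hi`. -/
structure Good (N : ℕ) (lo hi : Ideal (PlRing K d n)) (B : Finset (Multiset (Idx d n))) : Prop where
  mem : ∀ b ∈ B, mon K b ∈ lo
  span : ∀ f ∈ lo, ∃ l, f - comb K N B l ∈ hi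
  indep : ∀ l, comb K N B l ∈ hi → ∀ b ∈ B, l b = 0

theorem good_empty (N : ℕ) (I : Ideal (PlRing K d n)) : Good K N I I ∅ :=
  ⟨by simp, fun f hf => ⟨0, by simpa [comb] using hf⟩, by simp⟩

theorem Good.compose {N : ℕ} {lo mid hi : Ideal (PlRing K d n)}
    {B1 B2 : Finset (Multiset (Idx d n))} (h1 : Good K N lo mid B1) (h2 : Good K N mid hi B2)
    (hml : mid ≤ lo) (hhm : hi ≤ mid) (hdisj : Disjoint B1 B2) : Good K N lo hi (B1 ∪ B2) := by
  classical
  have hsum : ∀ l, comb K N (B1 ∪ B2) l = comb K N B1 l + comb K N B2 l := fun l => sum_union hdisj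
  refine ⟨fun b hb => (mem_union.1 hb).elim (h1.mem b) (fun h => hml (h2.mem b h)), fun f hf => ?_,
    fun l hl => ?_⟩
  · obtain ⟨l1, hl1⟩ := h1.span f hf
    obtain ⟨l2, hl2⟩ := h2.span _ hl1
    refine ⟨fun b => if b ∈ B1 then l1 b else l2 b, ?_⟩
    have e1 : comb K N B1 (fun b => if b ∈ B1 then l1 b else l2 b) = comb K N B1 l1 :=
      sum_congr rfl fun b hb => by simp only [if_pos hb]
    have e2 : comb K N B2 (fun b => if b ∈ B1 then l1 b else l2 b) = comb K N B2 l2 :=
      sum_congr rfl fun b hb => by simp only [if_neg (disjoint_right.1 hdisj hb)]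
    rw [hsum, e1, e2]
    rwa [← sub_sub]
  · rw [hsum] at hl
    have hB2 : comb K N B2 l ∈ mid :=
      Ideal.sum_mem _ fun b hb => Ideal.mul_mem_left _ _ (h2.mem b hb)
    have hB1 := h1.indep l (by simpa using mid.sub_mem (hhm hl) hB2)
    have e1 : comb K N B1 l = 0 := sum_eq_zero fun b hb => by rw [hB1 b hb, map_zero, zero_mul]
    rw [e1, zero_add] at hl
    exact fun b hb => (mem_union.1 hb).elim (hB1 b) (h2.indep l hl b)

theorem eq_rename_add_X_mul (N : ℕ) (p : MvPolynomial (Fin (N + 1)) K) :
    ∃ p0 p', p = rename Fin.succ p0 + X 0 * p' := by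
  induction p using MvPolynomial.induction_on with
  | C a => exact ⟨C a, 0, by simp⟩
  | add p q hp hq =>
    obtain ⟨a, a', rfl⟩ := hp
    obtain ⟨b, b', rfl⟩ := hq
    exact ⟨a + b, a' + b', by rw [map_add]; ring⟩
  | mul_X p i hp =>
    obtain ⟨a, a', rfl⟩ := hp
    cases i using Fin.cases with
    | zero => exact ⟨0, rename Fin.succ a + X 0 * a', by rw [map_zero]; ring⟩
    | succ j => exact ⟨a * X j, a' * X j.succ, by rw [map_mul, rename_X]; ring⟩

section Domain

variable {K} [IsDomain K]

theorem X_notMem_plD_le (hd : 0 < d) (τ : Idx d n) : (X τ : PlRing K d n) ∉ plD K (· ≤ τ) := by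
  intro h
  have h0 : phi K (fun i t => i ≤ τ.1 t) (X τ) = 0 := (compat_le τ).plD_le_ker h
  have := (trunc_minor_monic K (fun i t => i ≤ τ.1 t) τ (fun t => le_rfl)).2.ne_zero
  rw [phi_X] at h0
  exact this h0

/-- Lifting freeness from the boundary to the Schubert variety. -/
theorem good_lift (hd : 0 < d) {τ : Idx d n} {B : Finset (Multiset (Idx d n))}
    (hB : Good K (codeg τ) ⊤ (plD K (fun θ => θ ≤ τ ∧ θ ≠ τ)) B) :
    Good K (codeg τ + 1) ⊤ (plD K (· ≤ τ)) B := by
  classical
  set r := codeg τ
  have hI : plD K (fun θ => θ ≤ τ ∧ θ ≠ τ) = plD K (· ≤ τ) ⊔ Ideal.span {X τ} :=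
    (plD_sup_span_singleton (· ≤ τ) τ).symm
  have hmem : ∀ f : PlRing K d n, f ∈ plD K (fun θ => θ ≤ τ ∧ θ ≠ τ) →
      ∃ g, f - g * X τ ∈ plD K (· ≤ τ) := by
    intro f hf
    rw [hI] at hf
    obtain ⟨j, hj, z, hz, rfl⟩ := Submodule.mem_sup.1 hf
    obtain ⟨g, rfl⟩ := Ideal.mem_span_singleton'.1 hz
    exact ⟨g, by simpa using hj⟩
  refine ⟨fun b hb => trivial, fun f _ => ?_, ?_⟩
  · suffices hom : ∀ m (f : PlRing K d n), f.IsHomogeneous m →
        ∃ l, f - comb K (r + 1) B l ∈ plD K (· ≤ τ) by
      choose L hL using fun i => hom i (homogeneousComponent i f)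
        (homogeneousComponent_isHomogeneous i f)
      refine ⟨∑ i ∈ Finset.range (f.totalDegree + 1), L i, ?_⟩
      have : comb K (r + 1) B (∑ i ∈ Finset.range (f.totalDegree + 1), L i) =
          ∑ i ∈ Finset.range (f.totalDegree + 1), comb K (r + 1) B (L i) := by
        unfold comb
        rw [sum_comm]
        refine sum_congr rfl fun b _ => ?_
        rw [Finset.sum_apply, map_sum, sum_mul]
      rw [this]
      have e : f - ∑ i ∈ Finset.range (f.totalDegree + 1), comb K (r + 1) B (L i) =
          ∑ i ∈ Finset.range (f.totalDegree + 1),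
            (homogeneousComponent i f - comb K (r + 1) B (L i)) := by
        rw [sum_sub_distrib, sum_homogeneousComponent]
      rw [e]
      exact Ideal.sum_mem _ fun i _ => hL i
    intro m
    induction m using Nat.strong_induction_on with
    | _ m ih =>
      intro f hf
      obtain ⟨l0, hl0⟩ := hB.span f trivial
      have hc := component_mem_plD K hl0 m
      rw [map_sub, homogeneousComponent_of_mem hf, if_pos rfl] at hc
      obtain ⟨l1, hl1⟩ := comb_component K r B l0 m
      rw [hl1] at hc
      obtain ⟨g, hg⟩ := hmem _ hc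
      have hlift : comb K r B l1 = comb K (r + 1) B (fun b => rename Fin.succ (l1 b)) :=
        sum_congr rfl fun b _ => by rw [wEval_rename_succ]
      have hc2 := component_mem_plD K hg m
      obtain ⟨l1', hl1'⟩ := comb_component K (r + 1) B (fun b => rename Fin.succ (l1 b)) m
      rw [map_sub, map_sub, homogeneousComponent_of_mem hf, if_pos rfl, hlift, hl1',
        component_mul (isHomogeneous_X K τ)] at hc2
      by_cases hm : 1 ≤ m
      · rw [if_pos hm] at hc2
        obtain ⟨l2, hl2⟩ := ih (m - 1) (by omega) _ (homogeneousComponent_isHomogeneous (m - 1) g)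
        refine ⟨fun b => l1' b + X 0 * l2 b, ?_⟩
        have hsplit : comb K (r + 1) B (fun b => l1' b + X 0 * l2 b) =
            comb K (r + 1) B l1' + ySum K r * comb K (r + 1) B l2 := by
          unfold comb
          rw [mul_sum, ← sum_add_distrib]
          refine sum_congr rfl fun b _ => ?_
          rw [map_add, map_mul, wEval_X_zero]; ring
        rw [hsplit]
        have e : f - (comb K (r + 1) B l1' + ySum K r * comb K (r + 1) B l2) =
            (f - comb K (r + 1) B l1' - homogeneousComponent (m - 1) g * X τ) +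
              X τ * (homogeneousComponent (m - 1) g - comb K (r + 1) B l2) -
              (ySum K r - X τ) * comb K (r + 1) B l2 := by ring
        rw [e]
        exact Ideal.sub_mem _ (Ideal.add_mem _ hc2 (Ideal.mul_mem_left _ _ hl2))
          (Ideal.mul_mem_right _ _ (ySum_sub_X_mem K τ))
      · rw [if_neg hm, sub_zero] at hc2
        exact ⟨l1', hc2⟩
  · have hprime : (plD K (· ≤ τ)).IsPrime := (compat_le τ).isPrime hd
    suffices hdeg : ∀ k l, (∀ b ∈ B, (l b).totalDegree ≤ k) →
        comb K (r + 1) B l ∈ plD K (· ≤ τ) → ∀ b ∈ B, l b = 0 from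
      fun l hl => hdeg (B.sup fun b => (l b).totalDegree) l
        (fun b hb => Finset.le_sup (f := fun b => (l b).totalDegree) hb) hl
    intro k
    induction k using Nat.strong_induction_on with
    | _ k ih =>
      intro l hk hl
      choose p0 p' hp using fun b => eq_rename_add_X_mul K r (l b)
      have hsplit : comb K (r + 1) B l = comb K r B p0 + ySum K r * comb K (r + 1) B p' := by
        unfold comb
        rw [mul_sum, ← sum_add_distrib]
        refine sum_congr rfl fun b _ => ?_
        rw [hp b, map_add, map_mul, wEval_X_zero, wEval_rename_succ]; ring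
      rw [hsplit] at hl
      have hy : ySum K r ∈ plD K (fun θ => θ ≤ τ ∧ θ ≠ τ) := by
        rw [hI]
        have : ySum K r = (ySum K r - X τ) + X τ := by ring
        rw [this]
        exact Ideal.add_mem _ (Ideal.mem_sup_left (ySum_sub_X_mem K τ))
          (Ideal.mem_sup_right (Ideal.subset_span rfl))
      have h0 : comb K r B p0 ∈ plD K (fun θ => θ ≤ τ ∧ θ ≠ τ) := by
        have hle : plD K (· ≤ τ) ≤ plD K (fun θ => θ ≤ τ ∧ θ ≠ τ) := plD_anti K fun θ h => h.1
        simpa using Ideal.sub_mem _ (hle hl)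
          (Ideal.mul_mem_right (comb K (r + 1) B p') _ hy)
      have hp0 := hB.indep p0 h0
      have hcomb0 : comb K r B p0 = 0 := sum_eq_zero fun b hb => by rw [hp0 b hb, map_zero, zero_mul]
      rw [hcomb0, zero_add] at hl
      have hnm : ySum K r ∉ plD K (· ≤ τ) := fun h => X_notMem_plD_le (K := K) hd τ (by
        simpa [r] using Ideal.sub_mem _ h (ySum_sub_X_mem K τ))
      have hc' := (hprime.mem_or_mem hl).resolve_left hnm
      have hlp : ∀ b ∈ B, l b = X 0 * p' b := fun b hb => by rw [hp b, hp0 b hb, map_zero, zero_add]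
      by_contra hne
      push Not at hne
      obtain ⟨b0, hb0, hne0⟩ := hne
      have hkpos : ∀ b ∈ B, p' b = 0 ∨ (p' b).totalDegree + 1 ≤ k := by
        intro b hb
        by_cases h : p' b = 0
        · exact Or.inl h
        · refine Or.inr (le_trans ?_ (hk b hb))
          rw [hlp b hb, totalDegree_mul_of_isDomain (X_ne_zero _) h, totalDegree_X]
          omega
      have hk0 : 0 < k := by
        rcases hkpos b0 hb0 with h | h
        · exact absurd (by rw [hlp b0 hb0, h, mul_zero]) hne0
        · omega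
      have := ih (k - 1) (by omega) p' (fun b hb => (hkpos b hb).elim (fun h => by simp [h])
        (fun h => by omega)) hc' b0 hb0
      exact hne0 (by rw [hlp b0 hb0, this, mul_zero])

theorem plD_false_decomp (f : PlRing K d n) :
    f - C (constantCoeff f) ∈ plD K (fun _ : Idx d n => False) := by
  induction f using MvPolynomial.induction_on with
  | C a => simp
  | add p q hp hq =>
    rw [show p + q - C (constantCoeff (p + q)) =
      (p - C (constantCoeff p)) + (q - C (constantCoeff q)) by rw [map_add, map_add]; ring]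
    exact Ideal.add_mem _ hp hq
  | mul_X p i _ =>
    simpa using Ideal.mul_mem_left _ p (X_mem_plD K (q := fun _ : Idx d n => False) id (φ := i))

theorem good_bot (hd : 0 < d) {τ : Idx d n} (hτ : codeg τ = 0) :
    Good K (codeg τ) ⊤ (plD K (fun θ => θ ≤ τ ∧ θ ≠ τ)) {0} := by
  have hq : (fun θ : Idx d n => θ ≤ τ ∧ θ ≠ τ) = fun _ => False := by
    funext θ
    refine propext ⟨fun h => ?_, False.elim⟩
    have := codeg_lt (lt_of_le_of_ne h.1 h.2)
    omega
  rw [hq, hτ]
  refine ⟨fun b _ => trivial, fun f _ => ⟨fun _ => C (constantCoeff f), ?_⟩, fun l hl b hb => ?_⟩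
  · simpa [comb, wEval] using plD_false_decomp f
  · obtain rfl : b = 0 := Finset.mem_singleton.1 hb
    obtain ⟨c, hc⟩ : ∃ c, l 0 = C c := ⟨_, eq_C_of_isEmpty (l 0)⟩
    have hcomp : Compat (fun _ : Idx d n => False) (fun (_ : Fin n) (_ : Fin d) => False) :=
      ⟨fun _ _ _ => ⟨⟨0, hd⟩, id⟩, fun _ h => h.elim⟩
    have hmem : (C c : PlRing K d n) ∈ plD K (fun _ : Idx d n => False) := by
      simpa [comb, hc, wEval] using hl
    have h0 : phi K (fun (_ : Fin n) (_ : Fin d) => False) (C c) = 0 := hcomp.plD_le_ker hmem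
    rw [← MvPolynomial.algebraMap_eq, AlgHom.commutes, MvPolynomial.algebraMap_eq, C_eq_zero] at h0
    rw [hc, h0, map_zero]

/-- The ideal of a finite union of Schubert varieties (the unit ideal for the empty union). -/
def J (K : Type u) [CommRing K] (S : Finset (Idx d n)) : Ideal (PlRing K d n) :=
  ⨅ σ ∈ S, plD K (· ≤ σ)

/-- Below one of the elements of `S`. -/
def downS (S : Finset (Idx d n)) (θ : Idx d n) : Prop := ∃ σ ∈ S, θ ≤ σ

/-- `b` is not supported below `S`. -/
def Escape (S : Finset (Idx d n)) (b : Multiset (Idx d n)) : Prop :=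
  S.Nonempty → ∃ θ ∈ b, ¬ downS S θ

omit [IsDomain K] in
theorem J_eq_plD (hd : 0 < d) {S : Finset (Idx d n)} (h : S.Nonempty) :
    J K S = plD K (downS S) := by
  have : Nonempty {σ // σ ∈ S} := h.to_subtype
  rw [J, iInf_subtype', ← plD_union hd (fun i : {σ // σ ∈ S} => i.1)]
  congr 1
  funext θ
  simp [downS]

omit [IsDomain K] in
theorem J_le_of {S E : Finset (Idx d n)} (h : ∀ σ ∈ E, downS S σ) : J K S ≤ J K E := by
  refine le_iInf₂ fun σ hσ => ?_
  obtain ⟨σ', hσ', hle⟩ := h σ hσ
  exact (iInf₂_le σ' hσ').trans (plD_anti K fun θ hθ => hθ.trans hle)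

omit [IsDomain K] in
theorem mon_mem_J (hd : 0 < d) {S : Finset (Idx d n)} {b : Multiset (Idx d n)} (h : Escape S b) :
    mon K b ∈ J K S := by
  rcases S.eq_empty_or_nonempty with rfl | hS
  · simp [J]
  · rw [J_eq_plD hd hS]
    exact mon_mem_plD K (h hS)

/-- `↓τ` relative to a set `E` of its divisors is free. -/
def HasPiece (K : Type u) [CommRing K] (τ : Idx d n) (E : Finset (Idx d n)) : Prop :=
  ∃ B, Good K (codeg τ + 1) (J K E) (plD K (· ≤ τ)) B ∧
    ∀ b ∈ B, (∀ θ ∈ b, θ ≤ τ) ∧ Escape E b

theorem hasSlab (hd : 0 < d) {r : ℕ} {τ : Idx d n} (hτ : codeg τ = r)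
    (hpiece : ∀ ψ : Idx d n, codeg ψ + 1 = r → ∀ E : Finset (Idx d n),
      (∀ σ ∈ E, σ ∈ divisors ψ) → HasPiece K ψ E)
    (T E : Finset (Idx d n)) (hT : ∀ σ ∈ T, σ ∈ divisors τ) (hE : ∀ σ ∈ E, σ ∈ divisors τ) :
    ∃ B, Good K r (J K E) (J K (E ∪ T)) B ∧ ∀ b ∈ B, (∀ θ ∈ b, downS (E ∪ T) θ) ∧ Escape E b := by
  classical
  induction T using Finset.induction with
  | empty => exact ⟨∅, by rw [Finset.union_empty]; exact good_empty K r _, by simp⟩
  | @insert ψ T hψT ih =>
    obtain ⟨B1, hB1, hB1'⟩ := ih fun σ hσ => hT σ (mem_insert_of_mem hσ)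
    by_cases hψS : ψ ∈ E ∪ T
    · have : E ∪ insert ψ T = E ∪ T := by
        rw [union_insert, insert_eq_self.2 hψS]
      rw [this]
      exact ⟨B1, hB1, hB1'⟩
    set S := E ∪ T with hS
    have hψ := hT ψ (mem_insert_self _ _)
    have hSdiv : ∀ σ ∈ S, σ ∈ divisors τ := fun σ hσ =>
      (mem_union.1 hσ).elim (hE σ) (fun h => hT σ (mem_insert_of_mem h))
    set E' := S.image (W4bk4grassmannian.inf ψ) with hE'
    have hψr : codeg ψ + 1 = r := hψ.2.trans hτ
    have hdiv' : ∀ σ ∈ E', σ ∈ divisors ψ := by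
      intro x hx
      obtain ⟨σ, hσ, rfl⟩ := mem_image.1 hx
      have hσd := hSdiv σ hσ
      have hne : ψ ≠ σ := fun e => hψS (e ▸ hσ)
      have hns : ¬ σ ≤ ψ := fun hle => by
        rcases hle.lt_or_eq with h | h
        · have := codeg_lt h; have := hσd.2; have := hψ.2; omega
        · exact hne h.symm
      have hlt : ψ < W4bk4grassmannian.sup ψ σ :=
        lt_of_le_of_ne (fun t => le_max_left _ _) fun e => hns (fun t => by
          have : σ.1 t ≤ max (ψ.1 t) (σ.1 t) := le_max_right _ _
          exact this.trans_eq (congrArg (fun x : Idx d n => x.1 t) e).symm)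
      have hsupτ : W4bk4grassmannian.sup ψ σ = τ := by
        have hle : W4bk4grassmannian.sup ψ σ ≤ τ := fun t => max_le (hψ.1.le t) (hσd.1.le t)
        rcases hle.lt_or_eq with h | h
        · have := codeg_lt h; have := codeg_lt hlt; have := hψ.2; omega
        · exact h
      have hc := codeg_sup_add_inf ψ σ
      rw [hsupτ] at hc
      have := hσd.2
      have := hψ.2
      refine ⟨lt_of_le_of_ne (fun t => min_le_left _ _) fun e => ?_, by omega⟩
      rw [e] at hc
      omega
    obtain ⟨B2, hB2, hB2'⟩ := hpiece ψ hψr E' hdiv'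
    rw [hψr] at hB2
    have hesc : ∀ b ∈ B2, Escape S b := by
      intro b hb hne
      obtain ⟨hsupp, hesc'⟩ := hB2' b hb
      obtain ⟨θ, hθb, hθ⟩ := hesc' (hne.image _)
      refine ⟨θ, hθb, fun ⟨σ, hσ, hle⟩ => hθ ⟨_, mem_image_of_mem _ hσ, fun t => ?_⟩⟩
      exact le_min (hsupp θ hθb t) (hle t)
    have hins : E ∪ insert ψ T = insert ψ S := union_insert ψ E T
    have hJins : J K (insert ψ S) = plD K (· ≤ ψ) ⊓ J K S := Finset.iInf_insert _ _ _
    have hJ' : J K S ≤ J K E' := J_le_of fun x hx => by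
      obtain ⟨σ, hσ, rfl⟩ := mem_image.1 hx
      exact ⟨σ, hσ, fun t => min_le_right _ _⟩
    have hexc : Good K r (J K S) (J K (insert ψ S)) B2 := by
      refine ⟨fun b hb => mon_mem_J hd (hesc b hb), fun f hf => ?_, fun l hl => ?_⟩
      · obtain ⟨l, hl⟩ := hB2.span f (hJ' hf)
        refine ⟨l, ?_⟩
        rw [hJins]
        refine ⟨hl, Ideal.sub_mem _ hf (Ideal.sum_mem _ fun b hb => ?_)⟩
        exact Ideal.mul_mem_left _ _ (mon_mem_J hd (hesc b hb))
      · rw [hJins] at hl
        exact hB2.indep l hl.1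
    have hmono : ∀ θ, downS S θ → downS (insert ψ S) θ :=
      fun θ ⟨σ, hσ, h⟩ => ⟨σ, mem_insert_of_mem hσ, h⟩
    have hdisj : Disjoint B1 B2 := by
      rcases S.eq_empty_or_nonempty with he | hne
      · have : B1 = ∅ := by
          by_contra hc
          obtain ⟨b, hb⟩ := Finset.nonempty_iff_ne_empty.2 hc
          have := hB1.indep (fun _ => 1) (by rw [he]; simp [J]) b hb
          exact one_ne_zero this
        simp [this]
      · rw [disjoint_left]
        intro b hb1 hb2
        obtain ⟨θ, hθ, hθ'⟩ := hesc b hb2 hne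
        exact hθ' ((hB1' b hb1).1 θ hθ)
    refine ⟨B1 ∪ B2, ?_, ?_⟩
    · rw [hins]
      exact hB1.compose K hexc (J_le_of fun σ hσ => ⟨σ, mem_union_left _ hσ, le_rfl⟩)
        (J_le_of fun σ hσ => ⟨σ, mem_insert_of_mem hσ, le_rfl⟩) hdisj
    · intro b hb
      rw [hins]
      rcases mem_union.1 hb with h | h
      · exact ⟨fun θ hθ => hmono θ ((hB1' b h).1 θ hθ), (hB1' b h).2⟩
      · refine ⟨fun θ hθ => ⟨ψ, mem_insert_self _ _, (hB2' b h).1 θ hθ⟩, fun hne => ?_⟩
        obtain ⟨θ, hθ, hθ'⟩ := hesc b h (hne.mono subset_union_left)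
        exact ⟨θ, hθ, fun ⟨σ, hσ, h'⟩ => hθ' ⟨σ, mem_union_left _ hσ, h'⟩⟩

theorem bot_mem {τ : Idx d n} (h : 0 < codeg τ) : ∃ φ : Idx d n, φ < τ := by
  let φ : Idx d n := ⟨fun t => ⟨t.val, (strictMono_val_le τ.2 t).trans_lt (τ.1 t).isLt⟩,
    fun a b h => h⟩
  refine ⟨φ, lt_of_le_of_ne (fun t => strictMono_val_le τ.2 t) fun e => ?_⟩
  have : codeg φ = 0 := sum_eq_zero fun t _ => by simp [φ]
  rw [e] at this
  omega

theorem hasPiece (hd : 0 < d) : ∀ (r : ℕ) (τ : Idx d n), codeg τ = r →
    ∀ E : Finset (Idx d n), (∀ σ ∈ E, σ ∈ divisors τ) → HasPiece K τ E := by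
  classical
  intro r
  induction r using Nat.strong_induction_on with
  | _ r ih =>
    intro τ hτ E hE
    rcases Nat.eq_zero_or_pos r with rfl | hr
    · have hE0 : E = ∅ := Finset.eq_empty_of_forall_notMem fun σ hσ => by
        have := (hE σ hσ).2
        omega
      subst hE0
      refine ⟨{0}, ?_, ?_⟩
      · simpa [J] using good_lift hd (good_bot hd hτ)
      · intro b hb
        obtain rfl := Finset.mem_singleton.1 hb
        exact ⟨by simp, fun h => absurd h Finset.not_nonempty_empty⟩
    · have hpiece : ∀ ψ : Idx d n, codeg ψ + 1 = r → ∀ E : Finset (Idx d n),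
          (∀ σ ∈ E, σ ∈ divisors ψ) → HasPiece K ψ E :=
        fun ψ hψ => ih (codeg ψ) (by omega) ψ rfl
      let D : Finset (Idx d n) := univ.filter (fun σ => σ ∈ divisors τ)
      have hD : ∀ σ, σ ∈ D ↔ σ ∈ divisors τ := fun σ => by simp [D]
      obtain ⟨B1, hB1, hB1'⟩ := hasSlab hd hτ hpiece D E (fun σ h => (hD σ).1 h) hE
      have hED : E ∪ D = D := union_eq_right.2 fun σ h => (hD σ).2 (hE σ h)
      rw [hED] at hB1 hB1'
      obtain ⟨B0, hB0, hB0'⟩ := hasSlab hd hτ hpiece E ∅ hE (by simp)
      rw [Finset.empty_union] at hB0 hB0'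
      obtain ⟨φ0, hφ0⟩ := bot_mem (show 0 < codeg τ by omega)
      obtain ⟨ψ0, hψ0, -⟩ := exists_divisor_ge hφ0
      have hDne : D.Nonempty := ⟨ψ0, (hD ψ0).2 hψ0⟩
      have hlt : ∀ θ, downS D θ ↔ θ ≤ τ ∧ θ ≠ τ := by
        intro θ
        constructor
        · rintro ⟨σ, hσ, hle⟩
          have hlt := hle.trans_lt ((hD σ).1 hσ).1
          exact ⟨hlt.le, hlt.ne⟩
        · rintro ⟨h1, h2⟩
          obtain ⟨σ, hσ, hle⟩ := exists_divisor_ge (lt_of_le_of_ne h1 h2)
          exact ⟨σ, (hD σ).2 hσ, hle⟩
      have hJD : J K D = plD K (fun θ => θ ≤ τ ∧ θ ≠ τ) := by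
        rw [J_eq_plD hd hDne]
        congr 1
        funext θ
        exact propext (hlt θ)
      have hdisj : Disjoint B0 B1 := by
        rcases E.eq_empty_or_nonempty with he | hne
        · have : B0 = ∅ := by
            by_contra hc
            obtain ⟨b, hb⟩ := Finset.nonempty_iff_ne_empty.2 hc
            exact one_ne_zero (hB0.indep (fun _ => 1) (by rw [he]; simp [J]) b hb)
          simp [this]
        · rw [disjoint_left]
          intro b hb0 hb1
          obtain ⟨θ, hθ, hθ'⟩ := (hB1' b hb1).2 hne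
          exact hθ' ((hB0' b hb0).1 θ hθ)
      have hfull := hB0.compose K hB1 (J_le_of (by simp)) (J_le_of fun σ h => ⟨σ, (hD σ).2 (hE σ h), le_rfl⟩) hdisj
      rw [hJD, show J K (∅ : Finset (Idx d n)) = ⊤ by simp [J], ← hτ] at hfull
      have hF := good_lift hd hfull
      rw [hτ] at hF
      unfold HasPiece
      rw [hτ]
      have hτE : ¬ downS E τ := fun ⟨σ, hσ, hle⟩ => absurd (hle.trans_lt (hE σ hσ).1) (lt_irrefl _)
      have hB1τ : ∀ b ∈ B1, τ ∉ b := fun b hb hmem => ((hlt τ).1 ((hB1' b hb).1 τ hmem)).2 rfl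
      let B' := B1 ∪ B0.image (fun b => τ ::ₘ b)
      have hd2 : Disjoint B1 (B0.image fun b => τ ::ₘ b) := by
        rw [disjoint_left]
        intro b hb hb'
        obtain ⟨c, -, rfl⟩ := mem_image.1 hb'
        exact hB1τ _ hb (Multiset.mem_cons_self _ _)
      have hXτ : (X τ : PlRing K d n) ∈ J K E := by
        rw [← mon_singleton]
        exact mon_mem_J hd fun _ => ⟨τ, by simp, hτE⟩
      have hplE : plD K (· ≤ τ) ≤ J K E :=
        le_iInf₂ fun σ hσ => plD_anti K fun θ h => h.trans (hE σ hσ).1.le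
      have hy : ySum K r - X τ ∈ plD K (· ≤ τ) := hτ ▸ ySum_sub_X_mem K τ
      have hcombB' : ∀ l, comb K (r + 1) B' l = comb K (r + 1) B1 l +
          X τ * comb K (r + 1) B0 (fun b => l (τ ::ₘ b)) := by
        intro l
        simp only [comb, B']
        rw [sum_union hd2, sum_image (fun a _ b _ h => (Multiset.cons_inj_right τ).1 h), mul_sum]
        congr 1
        refine sum_congr rfl fun b _ => ?_
        rw [mon_cons]; ring
      refine ⟨B', ⟨?_, fun f hf => ?_, fun l hl => ?_⟩, ?_⟩
      · intro b hb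
        rcases mem_union.1 hb with h | h
        · exact mon_mem_J hd (hB1' b h).2
        · obtain ⟨c, -, rfl⟩ := mem_image.1 h
          exact mon_mem_J hd fun _ => ⟨τ, Multiset.mem_cons_self _ _, hτE⟩
      · obtain ⟨L, hL⟩ := hF.span f trivial
        choose p0 p' hp using fun b => eq_rename_add_X_mul K r (L b)
        have hsplit : comb K (r + 1) (B0 ∪ B1) L =
            comb K r B0 p0 + ySum K r * comb K (r + 1) B0 p' + comb K (r + 1) B1 L := by
          rw [comb, sum_union hdisj]
          simp only [comb]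
          rw [mul_sum, ← sum_add_distrib]
          congr 1
          refine sum_congr rfl fun b _ => ?_
          conv_lhs => rw [hp b, map_add, map_mul, wEval_X_zero, wEval_rename_succ]
          ring
        have hp0 : comb K r B0 p0 ∈ J K E := by
          have h1 : comb K (r + 1) (B0 ∪ B1) L ∈ J K E := by
            simpa using Ideal.sub_mem _ hf (hplE hL)
          have h2 : comb K (r + 1) B1 L ∈ J K E :=
            Ideal.sum_mem _ fun b hb => Ideal.mul_mem_left _ _ (mon_mem_J hd (hB1' b hb).2)
          have h3 : ySum K r * comb K (r + 1) B0 p' ∈ J K E := by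
            refine Ideal.mul_mem_right _ _ ?_
            simpa using Ideal.add_mem _ (hplE hy) hXτ
          rw [hsplit] at h1
          have := Ideal.sub_mem _ (Ideal.sub_mem _ h1 h2) h3
          simpa using this
        have hp0z := hB0.indep p0 hp0
        have hc0 : comb K r B0 p0 = 0 := sum_eq_zero fun b hb => by
          rw [hp0z b hb, map_zero, zero_mul]
        refine ⟨fun b => if b ∈ B1 then L b else p' (b.erase τ), ?_⟩
        rw [hcombB']
        have e1 : comb K (r + 1) B1 (fun b => if b ∈ B1 then L b else p' (b.erase τ)) =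
            comb K (r + 1) B1 L := sum_congr rfl fun b hb => by simp only [if_pos hb]
        have e0 : comb K (r + 1) B0
            (fun b => if τ ::ₘ b ∈ B1 then L (τ ::ₘ b) else p' ((τ ::ₘ b).erase τ)) =
            comb K (r + 1) B0 p' := sum_congr rfl fun b hb => by
          simp only [if_neg (fun h => hB1τ _ h (Multiset.mem_cons_self _ _)), Multiset.erase_cons_head]
        rw [e1, e0]
        rw [hsplit, hc0] at hL
        have e : f - (comb K (r + 1) B1 L + X τ * comb K (r + 1) B0 p') =
            (f - (0 + ySum K r * comb K (r + 1) B0 p' + comb K (r + 1) B1 L)) +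
              (ySum K r - X τ) * comb K (r + 1) B0 p' := by ring
        rw [e]
        exact Ideal.add_mem _ hL (Ideal.mul_mem_right _ _ hy)
      · rw [hcombB'] at hl
        have key : comb K (r + 1) (B0 ∪ B1) (fun b => if b ∈ B0 then X 0 * l (τ ::ₘ b) else l b) ∈
            plD K (· ≤ τ) := by
          rw [comb, sum_union hdisj]
          have e0 : ∑ b ∈ B0, wEval K (r + 1) (if b ∈ B0 then X 0 * l (τ ::ₘ b) else l b) * mon K b =
              ySum K r * comb K (r + 1) B0 (fun b => l (τ ::ₘ b)) := by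
            rw [comb, mul_sum]
            refine sum_congr rfl fun b hb => ?_
            rw [if_pos hb, map_mul, wEval_X_zero]; ring
          have e1 : ∑ b ∈ B1, wEval K (r + 1) (if b ∈ B0 then X 0 * l (τ ::ₘ b) else l b) * mon K b =
              comb K (r + 1) B1 l :=
            sum_congr rfl fun b hb => by rw [if_neg (disjoint_right.1 hdisj hb)]
          rw [e0, e1]
          have e : ySum K r * comb K (r + 1) B0 (fun b => l (τ ::ₘ b)) + comb K (r + 1) B1 l =
              (comb K (r + 1) B1 l + X τ * comb K (r + 1) B0 (fun b => l (τ ::ₘ b))) +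
                (ySum K r - X τ) * comb K (r + 1) B0 (fun b => l (τ ::ₘ b)) := by ring
          rw [e]
          exact Ideal.add_mem _ hl (Ideal.mul_mem_right _ _ hy)
        have hz := hF.indep _ key
        intro b hb
        rcases mem_union.1 hb with h | h
        · have := hz b (mem_union_right _ h)
          simpa [disjoint_right.1 hdisj h] using this
        · obtain ⟨c, hc, rfl⟩ := mem_image.1 h
          have := hz c (mem_union_left _ hc)
          simp only [if_pos hc] at this
          exact (mul_eq_zero.1 this).resolve_left (X_ne_zero _)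
      · intro b hb
        rcases mem_union.1 hb with h | h
        · exact ⟨fun θ hθ => ((hlt θ).1 ((hB1' b h).1 θ hθ)).1, (hB1' b h).2⟩
        · obtain ⟨c, hc, rfl⟩ := mem_image.1 h
          refine ⟨fun θ hθ => ?_, fun _ => ⟨τ, Multiset.mem_cons_self _ _, hτE⟩⟩
          rcases Multiset.mem_cons.1 hθ with rfl | hθ
          · exact le_rfl
          · obtain ⟨σ, hσ, hle⟩ := (hB0' c hc).1 θ hθ
            exact hle.trans (hE σ hσ).1.le

theorem exists_good_schubert (hd : 0 < d) (τ : Idx d n) :
    ∃ B, Good K (codeg τ + 1) ⊤ (plD K (· ≤ τ)) B := by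
  obtain ⟨B, hB, -⟩ := hasPiece (K := K) hd _ τ rfl ∅ (by simp)
  exact ⟨B, by simpa [J] using hB⟩

theorem exists_good_divisors (hd : 0 < d) {τ : Idx d n} (S : Finset (Idx d n))
    (hS : ∀ σ ∈ S, σ ∈ divisors τ) : ∃ B, Good K (codeg τ) ⊤ (J K S) B := by
  classical
  obtain ⟨B, hB, -⟩ := hasSlab (K := K) hd rfl (fun ψ _ E hE => hasPiece (K := K) hd _ ψ rfl E hE) S ∅ hS
    (by simp)
  exact ⟨B, by simpa [J] using hB⟩

end Domain

end GrothLib.SMT
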