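import Groth.Agent.Lib.SMT.Straighten
import Groth.Agent.Lib.SMT.Basis
import Mathlib.RingTheory.MvPolynomial.Homogeneous
import Mathlib.RingTheory.GradedAlgebra.Homogeneous.Ideal

/-!
# Homogeneity of the Plücker ideals
-/

universe u

noncomputable section

open MvPolynomial W4bk4grassmannian Finset

namespace GrothLib.SMT

theorem component_mul {σ R : Type*} [CommRing R] {q : MvPolynomial σ R} {k : ℕ}
    (hq : q.IsHomogeneous k) (p : MvPolynomial σ R) (m : ℕ) :
    homogeneousComponent m (p * q) = if k ≤ m then homogeneousComponent (m - k) p * q else 0 := by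
  classical
  conv_lhs => rw [← sum_homogeneousComponent p, sum_mul, map_sum]
  have h : ∀ i, homogeneousComponent m (homogeneousComponent i p * q) =
      if i + k = m then homogeneousComponent i p * q else 0 := fun i => by
    rw [homogeneousComponent_of_mem ((homogeneousComponent_isHomogeneous i p).mul hq)]
    by_cases h' : i + k = m
    · rw [if_pos h', if_pos (show m = i + k by omega)]
    · rw [if_neg h', if_neg (show ¬ m = i + k by omega)]
  simp only [h]
  split_ifs with hkm
  · rw [Finset.sum_eq_single (m - k)]
    · rw [if_pos (by omega)]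
    · intro i _ hi; rw [if_neg (by omega)]
    · intro hnm
      rw [homogeneousComponent_eq_zero _ _ (by simp at hnm; omega)]
      simp
  · exact sum_eq_zero fun i _ => by rw [if_neg (by omega)]

variable (K : Type u) [CommRing K] {d n : ℕ}

theorem isHomogeneous_X' (θ : Idx d n) : (X θ : PlRing K d n).IsHomogeneous 1 := isHomogeneous_X K θ

theorem isHomogeneous_mon (s : Multiset (Idx d n)) :
    (mon K s).IsHomogeneous s.card := by
  induction s using Multiset.induction with
  | empty => simpa using isHomogeneous_one (Idx d n) K
  | cons a s ih =>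
    rw [mon_cons, Multiset.card_cons, add_comm]
    exact (isHomogeneous_X K a).mul ih

theorem isHomogeneous_coord (a : Fin d → Fin n) : (coord K d n a).IsHomogeneous 1 := by
  unfold coord
  split_ifs
  · have h1 : ((-1 : PlRing K d n) ^ invCount d n a).IsHomogeneous 0 := by
      simpa using ((isHomogeneous_one (Idx d n) K).neg).pow (invCount d n a)
    simpa using h1.mul (isHomogeneous_X K _)
  · exact isHomogeneous_zero _ _ 1

theorem isHomogeneous_shuffleRel (i j : Idx d n) (r : Fin d) :
    (shuffleRel K i j r).IsHomogeneous 2 := by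
  unfold shuffleRel
  refine IsHomogeneous.sum _ _ 2 fun A _ => ?_
  unfold shuffleTerm
  split_ifs
  · have h1 : ((-1 : PlRing K d n) ^ shuffleSign r A).IsHomogeneous 0 := by
      simpa using ((isHomogeneous_one (Idx d n) K).neg).pow (shuffleSign r A)
    simpa using (h1.mul (isHomogeneous_coord K _)).mul (isHomogeneous_coord K _)
  · exact isHomogeneous_zero _ _ 2

attribute [local instance] MvPolynomial.gradedAlgebra in
theorem plD_isHomogeneous (q : Idx d n → Prop) :
    (plD K q).IsHomogeneous (homogeneousSubmodule (Idx d n) K) := by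
  rw [plD, plIdealTop, ← Ideal.span_union]
  refine Ideal.homogeneous_span _ _ ?_
  rintro x (⟨i, j, r, -, rfl⟩ | ⟨φ, -, rfl⟩)
  · exact ⟨2, isHomogeneous_shuffleRel K i j r⟩
  · exact ⟨1, isHomogeneous_X K φ⟩

attribute [local instance] MvPolynomial.gradedAlgebra in
theorem component_mem_plD {q : Idx d n → Prop} {f : PlRing K d n} (hf : f ∈ plD K q) (m : ℕ) :
    homogeneousComponent m f ∈ plD K q := by
  have := (plD_isHomogeneous K q).mem_iff.1 hf m
  rw [← decomposition.decompose'_apply]
  exact this

end GrothLib.SMT
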