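import Groth.Agent.Lib.SMT.UFD
import Mathlib.RingTheory.GradedAlgebra.HomogeneousLocalization
import Mathlib.RingTheory.Algebraic.Basic
import Mathlib.RingTheory.Polynomial.UniqueFactorization
import Mathlib.RingTheory.Localization.Basic

/-!
# Homogeneous localisation of a graded domain at an element
-/

universe u v

noncomputable section

open Finset

namespace GrothLib.SMT

variable {R : Type v} [CommRing R] [IsDomain R] {σ : Type*} [SetLike σ R] [AddSubgroupClass σ R]
  (𝒜 : ℕ → σ) [GradedRing 𝒜] {e : ℕ} {s : R}

theorem powers_le_nonZeroDivisors' (hs0 : s ≠ 0) : Submonoid.powers s ≤ nonZeroDivisors R :=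
  powers_le_nonZeroDivisors_of_noZeroDivisors hs0

theorem algebraMap_away_injective (hs0 : s ≠ 0) :
    Function.Injective (algebraMap R (Localization.Away s)) :=
  IsLocalization.injective (Localization.Away s) (powers_le_nonZeroDivisors' hs0)

theorem algebraMap_val (a : HomogeneousLocalization.Away 𝒜 s) :
    algebraMap (HomogeneousLocalization.Away 𝒜 s) (Localization.Away s) a = a.val := rfl

theorem exists_rep (hs : s ∈ 𝒜 e) (a : HomogeneousLocalization.Away 𝒜 s) :
    ∃ n f, f ∈ 𝒜 (n • e) ∧ a.val * algebraMap R (Localization.Away s) (s ^ n) =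
      algebraMap R (Localization.Away s) f := by
  obtain ⟨n, f, hf, rfl⟩ := HomogeneousLocalization.Away.mk_surjective 𝒜 hs a
  refine ⟨n, f, hf, ?_⟩
  rw [HomogeneousLocalization.Away.val_mk, Localization.mk_eq_mk']
  exact IsLocalization.mk'_spec (Localization.Away s) f _

theorem transcendental_away (he : 0 < e) (hs : s ∈ 𝒜 e) :
    Transcendental (HomogeneousLocalization.Away 𝒜 s) (algebraMap R (Localization.Away s) s) := by
  classical
  rw [transcendental_iff]
  intro p hp
  rcases eq_or_ne s 0 with rfl | hs0
  · have := HomogeneousLocalization.subsingleton 𝒜 (x := Submonoid.powers (0 : R)) ⟨1, pow_one 0⟩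
    exact Subsingleton.elim _ _
  choose n f hf hv using fun i => exists_rep 𝒜 hs (p.coeff i)
  set N := (range (p.natDegree + 1)).sup n
  set g : ℕ → R := fun i => f i * s ^ (N - n i)
  have hg : ∀ i ∈ range (p.natDegree + 1), g i ∈ 𝒜 (N • e) := by
    intro i hi
    have hle : n i ≤ N := Finset.le_sup hi
    have := SetLike.mul_mem_graded (hf i) (SetLike.pow_mem_graded (N - n i) hs)
    rwa [← add_smul, Nat.add_sub_cancel' hle] at this
  have hsum : ∑ i ∈ range (p.natDegree + 1), g i * s ^ i = 0 := by
    apply algebraMap_away_injective hs0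
    rw [map_sum, map_zero, ← zero_mul (algebraMap R (Localization.Away s) (s ^ N)), ← hp,
      Polynomial.aeval_eq_sum_range, sum_mul]
    refine sum_congr rfl fun i hi => ?_
    have hle : n i ≤ N := Finset.le_sup hi
    rw [map_mul, map_mul, ← hv, Algebra.smul_def, algebraMap_val, map_pow _ s i]
    conv_rhs => rw [← Nat.add_sub_cancel' hle, pow_add, map_mul]
    ring
  refine Polynomial.ext fun i => ?_
  rw [Polynomial.coeff_zero]
  by_cases hi : i ∈ range (p.natDegree + 1)
  · have hdeg : ∀ j ∈ range (p.natDegree + 1), g j * s ^ j ∈ 𝒜 (N • e + j • e) := fun j hj =>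
      SetLike.mul_mem_graded (hg j hj) (SetLike.pow_mem_graded j hs)
    have h0 := congrArg (fun x => GradedRing.proj 𝒜 (N • e + i • e) x) hsum
    simp only [map_sum, map_zero, GradedRing.proj_apply] at h0
    rw [sum_eq_single i (fun j hj hji => DirectSum.decompose_of_mem_ne 𝒜 (hdeg j hj) (fun h => hji ?_))
      (fun h => absurd hi h), DirectSum.decompose_of_mem_same 𝒜 (hdeg i hi)] at h0
    · have hgi : g i = 0 := (mul_eq_zero.1 h0).resolve_right (pow_ne_zero _ hs0)
      have hfi : f i = 0 := (mul_eq_zero.1 hgi).resolve_right (pow_ne_zero _ hs0)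
      apply HomogeneousLocalization.val_injective
      have h1 := hv i
      rw [hfi, map_zero] at h1
      rw [HomogeneousLocalization.val_zero]
      have hu : IsUnit (algebraMap R (Localization.Away s) (s ^ n i)) :=
        IsLocalization.map_units (Localization.Away s) (⟨s ^ n i, n i, rfl⟩ : Submonoid.powers s)
      exact hu.mul_left_eq_zero.1 h1
    · simp only [smul_eq_mul] at h
      exact Nat.eq_of_mul_eq_mul_right he (by omega)
  · exact Polynomial.coeff_eq_zero_of_natDegree_lt (by simp at hi; omega)

variable {𝒜}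

/-- `g ↦ g_i / s ^ i` in degree `i`. -/
def dehomHom (hs : s ∈ 𝒜 1) (i : ℕ) : 𝒜 i →+ Polynomial (HomogeneousLocalization.Away 𝒜 s) where
  toFun x := Polynomial.monomial i (HomogeneousLocalization.Away.mk 𝒜 hs i x.1 (by simpa using x.2))
  map_zero' := by
    rw [show HomogeneousLocalization.Away.mk 𝒜 hs i (0 : 𝒜 i).1 (by simpa using (0 : 𝒜 i).2) = 0 from
      HomogeneousLocalization.val_injective _ (by simp [Localization.mk_zero]), map_zero]
  map_add' x y := by
    rw [← map_add]
    congr 1
    apply HomogeneousLocalization.val_injective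
    simp [Localization.add_mk_self]

/-- The map `R → R_(s)[T]`. -/
def dehom (hs : s ∈ 𝒜 1) : R →+* Polynomial (HomogeneousLocalization.Away 𝒜 s) :=
  (DirectSum.toSemiring (dehomHom hs) (by
      show Polynomial.monomial 0 _ = 1
      rw [show HomogeneousLocalization.Away.mk 𝒜 hs 0 _ _ = 1 from HomogeneousLocalization.val_injective _ (by
        rw [HomogeneousLocalization.Away.val_mk, HomogeneousLocalization.val_one, ← Localization.mk_one]
        congr 1
        exact Subtype.ext (pow_zero s)), Polynomial.monomial_zero_one])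
    (fun {i j} ai aj => by
      show Polynomial.monomial _ _ = Polynomial.monomial i _ * Polynomial.monomial j _
      rw [Polynomial.monomial_mul_monomial]
      congr 1
      apply HomogeneousLocalization.val_injective
      simp only [HomogeneousLocalization.Away.val_mk, HomogeneousLocalization.val_mul, Localization.mk_mul]
      congr 1
      exact Subtype.ext (pow_add s i j))).comp (DirectSum.decomposeRingEquiv 𝒜).toRingHom

theorem dehom_of_mem (hs : s ∈ 𝒜 1) {i : ℕ} {x : R} (hx : x ∈ 𝒜 i) :
    dehom hs x = Polynomial.monomial i (HomogeneousLocalization.Away.mk 𝒜 hs i x (by simpa using hx)) := by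
  simp only [dehom, RingHom.comp_apply]
  rw [show (DirectSum.decomposeRingEquiv 𝒜).toRingHom x = DirectSum.decompose 𝒜 x from rfl,
    DirectSum.decompose_of_mem 𝒜 hx, DirectSum.toSemiring_of]
  rfl

theorem dehom_coeff (hs : s ∈ 𝒜 1) (x : R) (i : ℕ) :
    (dehom hs x).coeff i = HomogeneousLocalization.Away.mk 𝒜 hs i (GradedRing.proj 𝒜 i x)
      (by simp [GradedRing.proj_apply]) := by
  classical
  conv_lhs => rw [← DirectSum.sum_support_decompose 𝒜 x, map_sum, Polynomial.finsetSum_coeff]
  rw [Finset.sum_eq_single i]
  · rw [dehom_of_mem hs (DirectSum.decompose 𝒜 x i).2, Polynomial.coeff_monomial, if_pos rfl]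
    rfl
  · intro j _ hj
    rw [dehom_of_mem hs (DirectSum.decompose 𝒜 x j).2, Polynomial.coeff_monomial, if_neg hj]
  · intro hi
    rw [dehom_of_mem hs (DirectSum.decompose 𝒜 x i).2, Polynomial.coeff_monomial, if_pos rfl]
    apply HomogeneousLocalization.val_injective
    simp [DFinsupp.notMem_support_iff.1 hi, Localization.mk_zero]

theorem dehom_injective (hs : s ∈ 𝒜 1) (hs0 : s ≠ 0) : Function.Injective (dehom hs) := by
  classical
  rw [injective_iff_map_eq_zero]
  intro x hx
  rw [← DirectSum.sum_support_decompose 𝒜 x]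
  refine sum_eq_zero fun i _ => ?_
  have h := dehom_coeff hs x i
  rw [hx, Polynomial.coeff_zero] at h
  have h1 := congrArg HomogeneousLocalization.val h.symm
  rw [HomogeneousLocalization.Away.val_mk, HomogeneousLocalization.val_zero, Localization.mk_eq_mk',
    IsLocalization.mk'_eq_zero_iff] at h1
  obtain ⟨⟨_, k, rfl⟩, hm⟩ := h1
  exact (mul_eq_zero.1 hm).resolve_left (pow_ne_zero _ hs0)

theorem isDomain_away (hs0 : s ≠ 0) : IsDomain (HomogeneousLocalization.Away 𝒜 s) := by
  have : IsDomain (Localization.Away s) :=
    IsLocalization.isDomain_localization (powers_le_nonZeroDivisors' hs0)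
  exact Function.Injective.isDomain (algebraMap (HomogeneousLocalization.Away 𝒜 s) (Localization.Away s))
      (HomogeneousLocalization.val_injective _)

theorem ufd_of_away [IsNoetherianRing R] (hs : s ∈ 𝒜 1) (hp : Prime s)
    (h : UniqueFactorizationMonoid (HomogeneousLocalization.Away 𝒜 s)) : UniqueFactorizationMonoid R := by
  classical
  have := isDomain_away (𝒜 := 𝒜) hp.ne_zero
  have hX : dehom hs s = Polynomial.X := by
    rw [dehom_of_mem hs hs, ← Polynomial.monomial_one_one_eq_X]
    congr 1
    apply HomogeneousLocalization.val_injective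
    rw [HomogeneousLocalization.Away.val_mk, HomogeneousLocalization.val_one, ← Localization.mk_one,
      Localization.mk_eq_mk_iff, Localization.r_iff_exists]
    exact ⟨1, by simp⟩
  refine ufd_of_prime_of_localEquiv (dehom hs) (dehom_injective hs hp.ne_zero) s hp (hX ▸ Polynomial.prime_X)
    (fun f => ?_) (fun f hf => ?_)
  · induction f using Polynomial.induction_on' with
    | add a b ha hb =>
      obtain ⟨M, ra, hra⟩ := ha
      obtain ⟨N, rb, hrb⟩ := hb
      refine ⟨M + N, ra * s ^ N + rb * s ^ M, ?_⟩
      rw [map_add, map_mul, map_mul, map_pow, map_pow, hra, hrb, pow_add]; ring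
    | monomial j a =>
      obtain ⟨n, x, hx, rfl⟩ := HomogeneousLocalization.Away.mk_surjective 𝒜 hs a
      refine ⟨n, x * s ^ j, ?_⟩
      have hx' : x ∈ 𝒜 n := by simpa using hx
      rw [map_mul, map_pow, hX, dehom_of_mem hs hx', Polynomial.monomial_mul_X_pow,
        Polynomial.X_pow_mul_monomial]
      congr 2
      omega
  · obtain ⟨a, ha, rfl⟩ := Polynomial.isUnit_iff.1 hf
    obtain ⟨b, hab⟩ := ha.exists_right_inv
    obtain ⟨n, x, hx, rfl⟩ := HomogeneousLocalization.Away.mk_surjective 𝒜 hs a
    obtain ⟨m, y, hy, rfl⟩ := HomogeneousLocalization.Away.mk_surjective 𝒜 hs b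
    replace hx : x ∈ 𝒜 n := by simpa using hx
    replace hy : y ∈ 𝒜 m := by simpa using hy
    have h1 : x * y = s ^ (n + m) := by
      apply algebraMap_away_injective hp.ne_zero
      have h2 := congrArg HomogeneousLocalization.val hab
      rw [HomogeneousLocalization.val_mul, HomogeneousLocalization.val_one,
        HomogeneousLocalization.Away.val_mk, HomogeneousLocalization.Away.val_mk, Localization.mk_mul,
        ← Localization.mk_one, Localization.mk_eq_mk_iff, Localization.r_iff_exists] at h2
      obtain ⟨c, hc⟩ := h2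
      simp only [Submonoid.coe_mul, OneMemClass.coe_one, one_mul, mul_one] at hc
      rw [← pow_add] at hc
      exact congrArg _ (mul_left_cancel₀ (nonZeroDivisors.ne_zero (powers_le_nonZeroDivisors' hp.ne_zero c.2)) hc)
    obtain ⟨i, hi, hxi⟩ := (dvd_prime_pow hp (n + m)).1 ⟨y, h1.symm⟩
    obtain ⟨u, hu⟩ := hxi.symm
    have hu0 : (u : R) ∈ 𝒜 0 ∧ i = n := by
      have hxne : x ≠ 0 := fun e0 => pow_ne_zero (n + m) hp.ne_zero (by rw [← h1, e0, zero_mul])
      have e1 : ∀ k, GradedRing.proj 𝒜 (i + k) x = s ^ i * GradedRing.proj 𝒜 k (u : R) := by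
        intro k
        rw [GradedRing.proj_apply, GradedRing.proj_apply, ← hu,
          DirectSum.coe_decompose_mul_add_of_left_mem 𝒜
            (by simpa using SetLike.pow_mem_graded i hs)]
      by_cases hin : i ≤ n
      · have hk : ∀ k, i + k ≠ n → GradedRing.proj 𝒜 k (u : R) = 0 := fun k hk => by
          have := e1 k
          rw [GradedRing.proj_apply, DirectSum.decompose_of_mem_ne 𝒜 hx (Ne.symm hk)] at this
          exact (mul_eq_zero.1 this.symm).resolve_left (pow_ne_zero _ hp.ne_zero)
        have hu' : (u : R) ∈ 𝒜 (n - i) := by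
          rw [← DirectSum.sum_support_decompose 𝒜 (u : R)]
          refine sum_mem fun k _ => ?_
          by_cases hkn : k = n - i
          · subst hkn; exact SetLike.coe_mem _
          · have := hk k (by omega)
            rw [GradedRing.proj_apply] at this
            rw [this]
            exact zero_mem _
        obtain ⟨v, hv⟩ := u.isUnit.exists_right_inv
        have h0 : (1 : R) ∈ 𝒜 0 := SetLike.one_mem_graded 𝒜
        by_cases hni : n - i = 0
        · exact ⟨hni ▸ hu', by omega⟩
        · exfalso
          have h2 : (DirectSum.decompose 𝒜 ((u : R) * v) 0 : R) = 0 :=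
            DirectSum.coe_decompose_mul_of_left_mem_of_not_le 𝒜 hu' (by omega)
          rw [hv, DirectSum.decompose_of_mem_same 𝒜 h0] at h2
          exact one_ne_zero h2
      · exfalso
        apply hxne
        rw [← DirectSum.decompose_of_mem_same 𝒜 hx, ← hu]
        exact DirectSum.coe_decompose_mul_of_left_mem_of_not_le 𝒜
          (by simpa using SetLike.pow_mem_graded i hs) hin
    obtain ⟨hu0, rfl⟩ := hu0
    refine ⟨u, u.isUnit, ?_⟩
    rw [dehom_of_mem hs hu0, Polynomial.monomial_zero_left]
    congr 1
    apply HomogeneousLocalization.val_injective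
    rw [HomogeneousLocalization.Away.val_mk, HomogeneousLocalization.Away.val_mk, Localization.mk_eq_mk_iff,
      Localization.r_iff_exists]
    exact ⟨1, by simp [← hu]⟩

end GrothLib.SMT
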