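import Groth.Agent.Lib.SMT.Graded
import Mathlib.RingTheory.Ideal.Operations

/-!
# Dehomogenisation at a coordinate

For a prime ideal `P` closed under homogeneous components and a coordinate `X θ ∉ P`:
`homogP θ D` homogenises, and a homogeneous element of `P + (X θ - 1)` lies in `P`
(`mem_of_homogeneous_mem_sup`), so that ideal is again prime (`isPrime_sup`).
-/

universe u

noncomputable section

open MvPolynomial W4bk4grassmannian Finset

namespace GrothLib.SMT

variable {K : Type u} [CommRing K] {d n : ℕ} (θ : Idx d n)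

/-- Homogenisation in degree `D` with the variable `X θ`. -/
def homogP (D : ℕ) (g : PlRing K d n) : PlRing K d n :=
  ∑ i ∈ range (D + 1), homogeneousComponent i g * X θ ^ (D - i)

theorem isHomogeneous_homogP (D : ℕ) (g : PlRing K d n) : (homogP θ D g).IsHomogeneous D := by
  refine IsHomogeneous.sum _ _ D fun i hi => ?_
  have := (homogeneousComponent_isHomogeneous i g).mul ((isHomogeneous_X K θ).pow (D - i))
  rw [one_mul] at this
  convert this using 1
  simp at hi
  omega

theorem homogP_sub_mem {D : ℕ} {g : PlRing K d n} (hg : g.totalDegree ≤ D) :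
    homogP θ D g - g ∈ Ideal.span {(X θ : PlRing K d n) - 1} := by
  have e : g = ∑ i ∈ range (D + 1), homogeneousComponent i g := by
    conv_lhs => rw [← sum_homogeneousComponent g]
    refine sum_subset (range_mono (by omega)) fun i _ hi => ?_
    exact homogeneousComponent_eq_zero _ _ (by simp at hi; omega)
  have : homogP θ D g - g =
      ∑ i ∈ range (D + 1), homogeneousComponent i g * ((X θ : PlRing K d n) ^ (D - i) - 1) := by
    simp only [mul_sub, mul_one, sum_sub_distrib, ← e]
    rfl
  rw [this]
  refine Ideal.sum_mem _ fun i _ => Ideal.mul_mem_left _ _ (Ideal.mem_span_singleton.2 ?_)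
  exact sub_one_dvd_pow_sub_one _ _

/-- A homogeneous element of `P + (X θ - 1)` lies in `P`. -/
theorem mem_of_homogeneous_mem_sup {P : Ideal (PlRing K d n)} [P.IsPrime]
    (hP : ∀ f ∈ P, ∀ m, homogeneousComponent m f ∈ P) (hθ : (X θ : PlRing K d n) ∉ P)
    {g : PlRing K d n} {D : ℕ} (hg : g.IsHomogeneous D)
    (h : g ∈ P ⊔ Ideal.span {(X θ : PlRing K d n) - 1}) : g ∈ P := by
  obtain ⟨j, hj, z, hz, rfl⟩ := Submodule.mem_sup.1 h
  obtain ⟨c, rfl⟩ := Ideal.mem_span_singleton'.1 hz
  set H := fun i => homogeneousComponent i c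
  have key : ∀ i, (if i = D then j + c * (X θ - 1) else 0) -
      ((if 1 ≤ i then H (i - 1) * X θ else 0) - H i) ∈ P := by
    intro i
    have e : (if i = D then j + c * (X θ - 1) else 0) = homogeneousComponent i j +
        ((if 1 ≤ i then H (i - 1) * X θ else 0) - H i) := by
      rw [← homogeneousComponent_of_mem hg, mul_sub, mul_one, map_add, map_sub,
        component_mul (isHomogeneous_X K θ)]
    rw [e, add_sub_cancel_right]
    exact hP j hj i
  have hlow : ∀ i, i < D → H i ∈ P := by
    intro i
    induction i using Nat.strong_induction_on with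
    | _ i ih =>
      intro hi
      have h1 := key i
      rw [if_neg (Nat.ne_of_lt hi), zero_sub, neg_sub] at h1
      by_cases h0 : 1 ≤ i
      · rw [if_pos h0] at h1
        simpa using P.add_mem h1 (P.mul_mem_right (X θ) (ih (i - 1) (by omega) (by omega)))
      · rw [if_neg h0, sub_zero] at h1
        exact h1
  have hhigh : ∀ i, D ≤ i → H i ∈ P := by
    have hmain : ∀ k i, D ≤ i → c.totalDegree < i + k → H i ∈ P := by
      intro k
      induction k with
      | zero =>
        intro i _ hk
        simp [H, homogeneousComponent_eq_zero _ _ (by omega : c.totalDegree < i)]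
      | succ k ih =>
        intro i hi hk
        have h1 := key (i + 1)
        rw [if_neg (by omega), if_pos (by omega), zero_sub, neg_sub, Nat.add_sub_cancel] at h1
        have h2 : H i * X θ ∈ P := by
          simpa using P.sub_mem (ih (i + 1) (by omega) (by omega)) h1
        exact (‹P.IsPrime›.mem_or_mem h2).resolve_right hθ
    exact fun i hi => hmain (c.totalDegree + 1) i hi (by omega)
  have h1 := key D
  rw [if_pos rfl] at h1
  have h2 : (if 1 ≤ D then H (D - 1) * X θ else 0) - H D ∈ P := by
    refine P.sub_mem ?_ (hhigh D le_rfl)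
    split_ifs with h0
    · exact P.mul_mem_right _ (hlow _ (by omega))
    · exact P.zero_mem
  simpa using P.add_mem h1 h2

theorem isPrime_sup {P : Ideal (PlRing K d n)} [hP1 : P.IsPrime]
    (hP : ∀ f ∈ P, ∀ m, homogeneousComponent m f ∈ P) (hθ : (X θ : PlRing K d n) ∉ P) :
    (P ⊔ Ideal.span {(X θ : PlRing K d n) - 1}).IsPrime := by
  set J := P ⊔ Ideal.span {(X θ : PlRing K d n) - 1}
  have hJ : ∀ {D : ℕ} {g : PlRing K d n}, g.totalDegree ≤ D → (homogP θ D g ∈ J ↔ g ∈ J) := by
    intro D g hg
    have := Ideal.mem_sup_right (S := P) (homogP_sub_mem θ hg)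
    exact ⟨fun h => by simpa using J.sub_mem h this, fun h => by simpa using J.add_mem h this⟩
  refine ⟨fun e => hP1.ne_top ?_, fun {a b} hab => ?_⟩
  · rw [Ideal.eq_top_iff_one]
    exact mem_of_homogeneous_mem_sup θ hP hθ (isHomogeneous_one _ _) (show (1 : PlRing K d n) ∈ J by rw [e]; exact Submodule.mem_top)
  · obtain ⟨A, hA⟩ : ∃ A, a.totalDegree ≤ A := ⟨_, le_rfl⟩
    obtain ⟨B, hB⟩ : ∃ B, b.totalDegree ≤ B := ⟨_, le_rfl⟩
    have ha := Ideal.mem_sup_right (S := P) (homogP_sub_mem θ hA)
    have hb := Ideal.mem_sup_right (S := P) (homogP_sub_mem θ hB)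
    have h1 : homogP θ A a * homogP θ B b ∈ J := by
      have e : homogP θ A a * homogP θ B b = a * b + (homogP θ A a - a) * homogP θ B b +
          a * (homogP θ B b - b) := by ring
      rw [e]
      exact J.add_mem (J.add_mem hab (J.mul_mem_right _ ha)) (J.mul_mem_left _ hb)
    have h2 := mem_of_homogeneous_mem_sup θ hP hθ
      ((isHomogeneous_homogP θ A a).mul (isHomogeneous_homogP θ B b)) h1
    exact (hP1.mem_or_mem h2).imp (fun h => (hJ hA).1 (Ideal.mem_sup_left h))
      (fun h => (hJ hB).1 (Ideal.mem_sup_left h))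

end GrothLib.SMT
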