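import Groth.Agent.Lib.SMT.Basis

/-!
# The set of leading exponents of a Plücker algebra

`InE p e`: `e` is supported in `p`, all column sums agree and consecutive columns interlace.
These are exactly the exponents of the standard monomials supported in `p`
(`inE_expo`, `exists_std_of_inE`), a saturated set (`InE.of_forall_add_nsmul`).
-/

universe u

noncomputable section

open MvPolynomial W4bk4grassmannian Finset
open scoped MonomialOrder

namespace GrothLib.SMT

variable {d n : ℕ}

/-- The conditions cutting out the leading exponents. -/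
structure InE (p : Fin n → Fin d → Prop) (e : Fin n × Fin d →₀ ℕ) : Prop where
  supp : ∀ i t, e (i, t) ≠ 0 → p i t
  cols : ∀ t t', ∑ i, e (i, t) = ∑ i, e (i, t')
  interlace : ∀ t t', t < t' → ∀ i, ∑ k ∈ Iic i, e (k, t') ≤ ∑ k ∈ Iio i, e (k, t)

theorem sum_diagExp (θ : Idx d n) (S : Finset (Fin n)) (t : Fin d) :
    ∑ k ∈ S, diagExp θ (k, t) = if θ.1 t ∈ S then 1 else 0 := by
  simp [diagExp_apply]

theorem inE_expo {p : Fin n → Fin d → Prop} {s : Multiset (Idx d n)}
    (h : ∀ θ ∈ s, ∀ t, p (θ.1 t) t) : InE p (expo s) := by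
  induction s using Multiset.induction with
  | empty => exact ⟨fun i t h => absurd (by simp) h, fun _ _ => by simp, fun _ _ _ _ => by simp⟩
  | cons a s ih =>
    obtain ⟨h1, h2, h3⟩ := ih fun θ hθ => h θ (Multiset.mem_cons_of_mem hθ)
    refine ⟨fun i t hne => ?_, fun t t' => ?_, fun t t' htt i => ?_⟩
    · rw [expo_cons, Finsupp.add_apply, diagExp_apply] at hne
      by_cases ha : a.1 t = i
      · exact ha ▸ h a (Multiset.mem_cons_self _ _) t
      · exact h1 i t (by simpa [ha] using hne)
    · simp only [expo_cons, Finsupp.add_apply, sum_add_distrib, sum_diagExp, mem_univ, if_true, h2 t t']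
    · simp only [expo_cons, Finsupp.add_apply, sum_add_distrib, sum_diagExp, mem_Iic, mem_Iio]
      refine add_le_add ?_ (h3 t t' htt i)
      split_ifs with h4 h5
      · exact le_rfl
      · exact absurd ((a.2 htt).trans_le h4) h5
      · exact zero_le_one
      · exact le_rfl

theorem InE.exists_top_index (hd : 0 < d) {p : Fin n → Fin d → Prop} {e : Fin n × Fin d →₀ ℕ}
    (h : InE p e) (hne : (∑ i, e (i, ⟨0, hd⟩)) ≠ 0) :
    ∃ θ : Idx d n, (∀ t, e (θ.1 t, t) ≠ 0) ∧ ∀ i t, e (i, t) ≠ 0 → i ≤ θ.1 t := by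
  classical
  have hsupp : ∀ t, (univ.filter fun i => e (i, t) ≠ 0).Nonempty := by
    intro t
    obtain ⟨i, -, hi⟩ := exists_ne_zero_of_sum_ne_zero (h.cols _ t ▸ hne)
    exact ⟨i, by simpa using hi⟩
  let top : Fin d → Fin n := fun t => (univ.filter fun i => e (i, t) ≠ 0).max' (hsupp t)
  have htop : ∀ t, e (top t, t) ≠ 0 := fun t => (mem_filter.1 (Finset.max'_mem _ (hsupp t))).2
  have hmax : ∀ i t, e (i, t) ≠ 0 → i ≤ top t := fun i t hi =>
    Finset.le_max' (univ.filter fun j => e (j, t) ≠ 0) i (mem_filter.2 ⟨mem_univ i, hi⟩)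
  refine ⟨⟨top, fun t t' htt => ?_⟩, htop, hmax⟩
  by_contra hle
  push Not at hle
  have hz : ∀ i, top t' < i → e (i, t') = 0 := fun i hi => by
    by_contra hc; exact absurd (hmax i t' hc) (not_le.2 hi)
  have h1 : ∑ i, e (i, t') = ∑ k ∈ Iic (top t), e (k, t') :=
    (sum_subset (subset_univ _) fun i _ hi => hz i (hle.trans_lt (by simpa using hi))).symm
  have h2 := h.interlace t t' htt (top t)
  have h3 : ∑ k ∈ Iio (top t), e (k, t) < ∑ i, e (i, t) :=
    sum_lt_sum_of_subset (subset_univ _) (mem_univ (top t)) (by simp)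
      (Nat.pos_of_ne_zero (htop t)) (fun _ _ _ => Nat.zero_le _)
  have := h.cols t t'
  omega

theorem exists_std_of_inE (hd : 0 < d) {p : Fin n → Fin d → Prop} {e : Fin n × Fin d →₀ ℕ}
    (h : InE p e) :
    ∃ s : Multiset (Idx d n), IsStd s ∧ (∀ θ ∈ s, ∀ t, p (θ.1 t) t) ∧ expo s = e := by
  classical
  generalize hm : ∑ i, e (i, ⟨0, hd⟩) = m
  induction m generalizing e with
  | zero =>
    refine ⟨0, IsStd.zero, by simp, ?_⟩
    refine Finsupp.ext fun x => ?_
    obtain ⟨i, t⟩ := x
    have := (h.cols ⟨0, hd⟩ t).symm.trans hm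
    simpa [eq_comm] using Finset.sum_eq_zero_iff.1 this i (mem_univ i)
  | succ m ih =>
    obtain ⟨θ, hθ, hmax⟩ := h.exists_top_index hd (by omega)
    have hle : diagExp θ ≤ e := fun x => by
      obtain ⟨i, t⟩ := x
      rw [diagExp_apply]
      split_ifs with hi
      · exact hi ▸ Nat.pos_of_ne_zero (hθ t)
      · exact Nat.zero_le _
    obtain ⟨e', rfl⟩ : ∃ e', e = diagExp θ + e' := ⟨e - diagExp θ, (add_tsub_cancel_of_le hle).symm⟩
    have hsum : ∀ t, ∑ i, (diagExp θ + e') (i, t) = 1 + ∑ i, e' (i, t) := fun t => by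
      simp [sum_add_distrib, sum_diagExp]
    have hne : ∀ i t, e' (i, t) ≠ 0 → (diagExp θ + e') (i, t) ≠ 0 := fun i t hi => by simp [hi]
    have h' : InE p e' := by
      refine ⟨fun i t hi => h.supp i t (hne i t hi), fun t t' => ?_, fun t t' htt i => ?_⟩
      · have := h.cols t t'
        rw [hsum, hsum] at this
        omega
      · have key := h.interlace t t' htt i
        simp only [Finsupp.add_apply, sum_add_distrib, sum_diagExp, mem_Iic, mem_Iio] at key
        by_cases hA : θ.1 t' ≤ i
        · rw [if_pos hA, if_pos ((θ.2 htt).trans_le hA)] at key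
          omega
        · rw [if_neg hA] at key
          by_cases hB : θ.1 t < i
          · have hfull : ∑ k ∈ Iio i, e' (k, t) = ∑ k, e' (k, t) :=
              sum_subset (subset_univ _) fun k _ hk => by
                by_contra hc
                exact absurd ((hmax k t (hne k t hc)).trans_lt hB) (by simpa using hk)
            rw [if_pos hB, hfull] at key
            rw [hfull]
            have hlt : ∑ k ∈ Iic i, (diagExp θ + e') (k, t') < ∑ k, (diagExp θ + e') (k, t') :=
              sum_lt_sum_of_subset (subset_univ _) (mem_univ (θ.1 t')) (by simpa using hA)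
                (Nat.pos_of_ne_zero (hθ t')) (fun _ _ _ => Nat.zero_le _)
            rw [hsum] at hlt
            simp only [Finsupp.add_apply, sum_add_distrib, sum_diagExp, mem_Iic, if_neg hA] at hlt
            have := h.cols t t'
            rw [hsum, hsum] at this
            omega
          · rw [if_neg hB] at key
            omega
    obtain ⟨s, hs, hp, rfl⟩ := ih h' (by have := hsum ⟨0, hd⟩; omega)
    refine ⟨θ ::ₘ s, hs.cons fun a ha => Or.inl fun t => hmax _ t ?_, fun x hx => ?_, expo_cons θ s⟩
    · apply hne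
      rw [expo_apply]
      exact Nat.ne_of_gt (Multiset.count_pos.2 (Multiset.mem_map_of_mem (fun φ => φ.1 t) ha))
    · rcases Multiset.mem_cons.1 hx with rfl | hx
      · exact fun t => h.supp _ t (hθ t)
      · exact hp x hx

theorem InE.of_forall_add_nsmul {p : Fin n → Fin d → Prop} {a b : Fin n × Fin d →₀ ℕ}
    (h : ∀ k : ℕ, InE p (a + k • b)) : InE p b := by
  refine ⟨fun i t hi => ?_, fun t t' => ?_, fun t t' htt i => ?_⟩
  · exact (h 1).supp i t (by simp [hi])
  · have h0 := (h 0).cols t t'
    have h1 := (h 1).cols t t'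
    simp only [zero_smul, add_zero] at h0
    simp only [one_smul, Finsupp.add_apply, sum_add_distrib] at h1
    omega
  · by_contra hc
    push Not at hc
    set N := ∑ k ∈ Iio i, a (k, t)
    have := (h (N + 1)).interlace t t' htt i
    simp only [Finsupp.add_apply, Finsupp.smul_apply, smul_eq_mul, sum_add_distrib, ← mul_sum] at this
    have h2 : (N + 1) * (∑ k ∈ Iio i, b (k, t) + 1) ≤ (N + 1) * ∑ k ∈ Iic i, b (k, t') :=
      Nat.mul_le_mul_left _ hc
    rw [Nat.mul_succ] at h2
    omega

variable {K : Type u} [CommRing K]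

theorem Compat.inE_degree [Nontrivial K] {q : Idx d n → Prop} {p : Fin n → Fin d → Prop}
    (h : Compat q p) (hd : 0 < d) (g : PlRing K d n) (hg : phi K p g ≠ 0) :
    InE p ((diagOrd d n).degree (phi K p g)) := by
  classical
  obtain ⟨l, hl⟩ := exists_std_expansion K q g
  have he : phi K p g = ∑ s ∈ l.support, l s • phi K p (mon K s.1) := by
    have : phi K p (g - Finsupp.linearCombination K (fun s : StdM q => mon K s.1) l) = 0 :=
      h.plD_le_ker hl
    rw [map_sub, sub_eq_zero] at this
    rw [this, Finsupp.linearCombination_apply, Finsupp.sum, map_sum]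
    simp [map_smul]
  have hm := fun s : StdM q => phi_mon_monic K p (s := s.1) (fun θ hθ => h.diag θ (s.2.2 θ hθ))
  have hne : l.support.Nonempty := by
    by_contra hc
    exact hg (by rw [he, Finset.not_nonempty_iff_eq_empty.1 hc, sum_empty])
  obtain ⟨j, hj, hmax⟩ := l.support.exists_max_image
    (fun s => (diagOrd d n).toSyn (expo s.1)) hne
  suffices hd' : (diagOrd d n).degree (phi K p g) = expo j.1 by
    rw [hd']
    exact inE_expo fun θ hθ => h.diag θ (j.2.2 θ hθ)
  have hcoeff : (phi K p g).coeff (expo j.1) = l j := by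
    rw [he, coeff_sum, sum_eq_single j, coeff_smul]
    · rw [← (hm j).1, (hm j).2.coeff_degree, smul_eq_mul, mul_one]
    · intro b hb hbj
      rw [coeff_smul, (diagOrd d n).coeff_eq_zero_of_lt, smul_zero]
      rw [(hm b).1]
      refine lt_of_le_of_ne (hmax b hb) fun e => hbj ?_
      exact Subtype.ext (expo_injOn hd b.2.1 j.2.1 ((diagOrd d n).toSyn.injective e))
    · intro hc; exact absurd hj hc
  apply (diagOrd d n).toSyn.injective
  refine le_antisymm ((diagOrd d n).degree_le_iff.2 fun e hs => ?_)
    ((diagOrd d n).le_degree (mem_support_iff.2 (hcoeff ▸ Finsupp.mem_support_iff.1 hj)))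
  rw [mem_support_iff, he, coeff_sum] at hs
  obtain ⟨b, hb, hb'⟩ := exists_ne_zero_of_sum_ne_zero hs
  refine le_trans ?_ (hmax b hb)
  rw [← (hm b).1]
  refine (diagOrd d n).le_degree (mem_support_iff.2 fun e0 => hb' ?_)
  rw [coeff_smul, e0, smul_zero]

end GrothLib.SMT
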