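import Groth.Agent.Lib.SMT.Straighten
import Mathlib.RingTheory.MvPolynomial.MonomialOrder
import Mathlib.Data.Finsupp.WellFounded
import Mathlib.Data.Prod.Lex

/-!
# Diagonal leading terms of (truncated) minors

`diagOrd`: the lexicographic order in which the diagonal term of every minor leads.
`trunc p`: kills the variables `(i, t)` with `¬ p i t`.
`phi p`: the Plücker map followed by `trunc p`; `mem` a standard monomial goes to a monic
polynomial of degree `expo`, and `expo` is injective on standard monomials (`0 < d`).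
-/

universe u

noncomputable section

open MvPolynomial W4bk4grassmannian Finset
open scoped MonomialOrder

namespace GrothLib.SMT

variable (K : Type u) [CommRing K] {d n : ℕ}

/-- The lexicographic monomial order on matrix variables, rows first. -/
def diagOrd (d n : ℕ) : MonomialOrder (Fin n × Fin d) where
  syn := Lex ((Fin n ×ₗ Fin d) →₀ ℕ)
  toSyn := (Finsupp.domCongr (toLex : Fin n × Fin d ≃ Fin n ×ₗ Fin d)).trans
    { toEquiv := toLex, map_add' := toLex_add }
  toSyn_monotone := fun _ _ h => Finsupp.toLex_monotone (α := Fin n ×ₗ Fin d) (fun _ => h _)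
  wellFoundedLT_syn := inferInstance

theorem diagOrd_lt_of {a b : Fin n × Fin d →₀ ℕ} (x : Fin n × Fin d)
    (h1 : ∀ y, toLex y < toLex x → a y = b y) (h2 : a x < b x) : a ≺[diagOrd d n] b := by
  refine ⟨toLex x, fun y hy => ?_, ?_⟩
  · exact h1 (ofLex y) hy
  · exact h2

/-- Exponent of the term of a minor attached to a column permutation. -/
def permExp (a : Fin d → Fin n) (σ : Equiv.Perm (Fin d)) : Fin n × Fin d →₀ ℕ :=
  ∑ t, Finsupp.single (a t, σ t) 1

theorem permExp_apply {a : Fin d → Fin n} (ha : Function.Injective a) (σ : Equiv.Perm (Fin d))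
    (t c : Fin d) : permExp a σ (a t, c) = if σ t = c then 1 else 0 := by
  classical
  rw [permExp, Finsupp.finset_sum_apply, Finset.sum_eq_single t]
  · simp [Finsupp.single_apply]
  · intro b _ hb; simp [ha.ne hb]
  · simp

theorem permExp_apply_not_mem {a : Fin d → Fin n} (σ : Equiv.Perm (Fin d)) {i : Fin n}
    (hi : ∀ t, a t ≠ i) (c : Fin d) : permExp a σ (i, c) = 0 := by
  rw [permExp, Finsupp.finset_sum_apply]
  exact sum_eq_zero fun t _ => by simp [hi t]

/-- The diagonal exponent of an index. -/
def diagExp (θ : Idx d n) : Fin n × Fin d →₀ ℕ := permExp θ.1 1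

theorem permExp_lt (θ : Idx d n) {σ : Equiv.Perm (Fin d)} (hσ : σ ≠ 1) :
    permExp θ.1 σ ≺[diagOrd d n] diagExp θ := by
  classical
  have hne : (univ.filter fun t => σ t ≠ t).Nonempty := by
    by_contra hc
    apply hσ
    ext1 t
    by_contra ht
    exact hc ⟨t, by simpa using ht⟩
  obtain ⟨t, ht, hmin⟩ := Finset.exists_min_image _ id hne
  have ht' : σ t ≠ t := (mem_filter.1 ht).2
  have hfix : ∀ s < t, σ s = s := fun s hs => by
    by_contra hc
    exact absurd hs (not_lt.2 (hmin s (mem_filter.2 ⟨mem_univ _, hc⟩)))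
  have hgt : t < σ t := by
    rcases lt_trichotomy t (σ t) with h | h | h
    · exact h
    · exact absurd h.symm ht'
    · exact absurd (σ.injective (hfix _ h)) ht'
  refine diagOrd_lt_of (θ.1 t, t) ?_ ?_
  · rintro ⟨i, c⟩ hy
    rw [Prod.Lex.toLex_lt_toLex] at hy
    by_cases hi : ∃ s, θ.1 s = i
    · obtain ⟨s, rfl⟩ := hi
      rw [diagExp, permExp_apply θ.2.injective, permExp_apply θ.2.injective]
      rcases hy with h | ⟨h, h'⟩
      · rw [hfix s (θ.2.lt_iff_lt.1 h)]; simp
      · obtain rfl : s = t := θ.2.injective h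
        have h1 : σ s ≠ c := fun e => by rw [← e] at h'; exact absurd h' (not_lt.2 hgt.le)
        simp [h1, ne_of_gt h']
    · push Not at hi
      rw [diagExp, permExp_apply_not_mem σ hi, permExp_apply_not_mem 1 hi]
  · rw [diagExp, permExp_apply θ.2.injective, permExp_apply θ.2.injective]
    simp [ht']

/-- Exponent of the leading monomial of a product of minors. -/
def expo (s : Multiset (Idx d n)) : Fin n × Fin d →₀ ℕ := (s.map diagExp).sum

@[simp] theorem expo_cons (θ : Idx d n) (s : Multiset (Idx d n)) :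
    expo (θ ::ₘ s) = diagExp θ + expo s := by simp [expo]

@[simp] theorem expo_zero : expo (0 : Multiset (Idx d n)) = 0 := by simp [expo]

theorem expo_add (s t : Multiset (Idx d n)) : expo (s + t) = expo s + expo t := by simp [expo]

theorem diagExp_apply (θ : Idx d n) (i : Fin n) (t : Fin d) :
    diagExp θ (i, t) = if θ.1 t = i then 1 else 0 := by
  by_cases hi : ∃ s, θ.1 s = i
  · obtain ⟨s, rfl⟩ := hi
    rw [diagExp, permExp_apply θ.2.injective]
    simp [θ.2.injective.eq_iff, eq_comm]
  · push Not at hi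
    simp [diagExp, permExp_apply_not_mem 1 hi, hi t]

theorem expo_apply (s : Multiset (Idx d n)) (i : Fin n) (t : Fin d) :
    expo s (i, t) = (s.map fun θ => θ.1 t).count i := by
  induction s using Multiset.induction with
  | empty => simp
  | cons a s ih =>
    rw [expo_cons, Finsupp.add_apply, ih, diagExp_apply, Multiset.map_cons, Multiset.count_cons,
      add_comm]
    simp [eq_comm]

theorem expo_eq_iff {s t : Multiset (Idx d n)} :
    expo s = expo t ↔ ∀ c, (s.map fun θ => θ.1 c) = (t.map fun θ => θ.1 c) := by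
  constructor
  · intro h c
    refine Multiset.ext' fun i => ?_
    rw [← expo_apply, h, expo_apply]
  · intro h
    refine Finsupp.ext fun x => ?_
    obtain ⟨i, c⟩ := x
    rw [expo_apply, h, ← expo_apply]

theorem IsStd.exists_top {s : Multiset (Idx d n)} (hs : IsStd s) (h0 : s ≠ 0) :
    ∃ θ ∈ s, ∀ a ∈ s, a ≤ θ := by
  induction s using Multiset.induction with
  | empty => exact absurd rfl h0
  | cons a s ih =>
    rcases eq_or_ne s 0 with rfl | hne
    · exact ⟨a, by simp, by simp⟩
    · obtain ⟨θ, hθ, hmax⟩ := ih (fun x hx y hy => hs x (Multiset.mem_cons_of_mem hx) y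
        (Multiset.mem_cons_of_mem hy)) hne
      rcases hs a (Multiset.mem_cons_self _ _) θ (Multiset.mem_cons_of_mem hθ) with h | h
      · exact ⟨θ, Multiset.mem_cons_of_mem hθ, fun x hx => (Multiset.mem_cons.1 hx).elim
          (fun e => e ▸ h) (hmax x)⟩
      · exact ⟨a, Multiset.mem_cons_self _ _, fun x hx => (Multiset.mem_cons.1 hx).elim
          (fun e => e ▸ le_rfl) (fun hx => (hmax x hx).trans h)⟩

theorem IsStd.mono {s t : Multiset (Idx d n)} (hs : IsStd s) (h : t ⊆ s) : IsStd t :=
  fun a ha b hb => hs a (h ha) b (h hb)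

theorem IsStd.zero : IsStd (0 : Multiset (Idx d n)) := fun a ha => by simp at ha

theorem IsStd.cons {s : Multiset (Idx d n)} (hs : IsStd s) {θ : Idx d n}
    (h : ∀ a ∈ s, a ≤ θ ∨ θ ≤ a) : IsStd (θ ::ₘ s) := by
  intro a ha b hb
  rcases Multiset.mem_cons.1 ha with rfl | ha' <;> rcases Multiset.mem_cons.1 hb with rfl | hb'
  · exact Or.inl le_rfl
  · exact (h b hb').symm
  · exact h a ha'
  · exact hs a ha' b hb'

theorem expo_injOn (hd : 0 < d) {s t : Multiset (Idx d n)} (hs : IsStd s) (ht : IsStd t)
    (h : expo s = expo t) : s = t := by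
  generalize hN : s.card = N
  induction N generalizing s t with
  | zero =>
    have h0 : s = 0 := Multiset.card_eq_zero.1 hN
    subst h0
    have := expo_eq_iff.1 h ⟨0, hd⟩
    simpa [eq_comm] using this
  | succ N ih =>
    have hcol := expo_eq_iff.1 h
    have hcard : t.card = N + 1 := by
      have := congrArg Multiset.card (hcol ⟨0, hd⟩)
      simp only [Multiset.card_map] at this
      omega
    obtain ⟨θ, hθ, hmax⟩ := hs.exists_top (fun e => by simp [e] at hN)
    obtain ⟨η, hη, hmax'⟩ := ht.exists_top (fun e => by simp [e] at hcard)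
    obtain rfl : θ = η := by
      apply Subtype.ext
      funext c
      have h1 : θ.1 c ∈ t.map fun φ => φ.1 c := hcol c ▸ Multiset.mem_map_of_mem _ hθ
      have h2 : η.1 c ∈ s.map fun φ => φ.1 c := (hcol c).symm ▸ Multiset.mem_map_of_mem _ hη
      obtain ⟨a, ha, ha'⟩ := Multiset.mem_map.1 h1
      obtain ⟨b, hb, hb'⟩ := Multiset.mem_map.1 h2
      exact le_antisymm (ha' ▸ hmax' a ha c) (hb' ▸ hmax b hb c)
    obtain ⟨s', rfl⟩ := Multiset.exists_cons_of_mem hθ
    obtain ⟨t', rfl⟩ := Multiset.exists_cons_of_mem hη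
    have : expo s' = expo t' := by simpa using h
    rw [ih (hs.mono (Multiset.subset_cons _ _)) (ht.mono (Multiset.subset_cons _ _)) this
      (by simpa using hN)]

/-- Kill the matrix variables outside the pattern `p`. -/
def trunc (p : Fin n → Fin d → Prop) : MatRing K d n →ₐ[K] MatRing K d n :=
  open scoped Classical in
  aeval fun x : Fin n × Fin d => if p x.1 x.2 then X x else 0

theorem trunc_true : trunc K (fun _ _ => True) = AlgHom.id K (MatRing K d n) := by
  apply MvPolynomial.algHom_ext
  intro x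
  simp [trunc]

theorem trunc_minor (p : Fin n → Fin d → Prop) [DecidableRel p]
    (a : Fin d → Fin n) :
    trunc K p (minor K d n a) = ∑ σ : Equiv.Perm (Fin d), ((σ.sign : ℤ) : MatRing K d n) *
      if ∀ t, p (a t) (σ t) then monomial (permExp a σ) 1 else 0 := by
  classical
  rw [minor_eq_sum, map_sum]
  refine sum_congr rfl fun σ _ => ?_
  rw [map_mul, map_intCast, map_prod]
  congr 1
  split_ifs with h
  · rw [permExp, monomial_sum_one]
    refine prod_congr rfl fun t _ => ?_
    have : trunc K p (X (a t, σ t)) = X (a t, σ t) := by simp [trunc, h t]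
    exact this
  · push Not at h
    obtain ⟨t, ht⟩ := h
    refine prod_eq_zero (mem_univ t) ?_
    simp [trunc, ht]

theorem trunc_minor_monic [Nontrivial K] (p : Fin n → Fin d → Prop) (θ : Idx d n)
    (h : ∀ t, p (θ.1 t) t) :
    (diagOrd d n).degree (trunc K p (minor K d n θ.1)) = diagExp θ ∧
      (diagOrd d n).Monic (trunc K p (minor K d n θ.1)) := by
  classical
  set f := trunc K p (minor K d n θ.1)
  have hcoeff : ∀ e, f.coeff e = ∑ σ : Equiv.Perm (Fin d),
      if (∀ t, p (θ.1 t) (σ t)) ∧ permExp θ.1 σ = e then ((σ.sign : ℤ) : K) else 0 := by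
    intro e
    simp only [f, trunc_minor, coeff_sum]
    refine sum_congr rfl fun σ _ => ?_
    rw [← map_intCast (C : K →+* MatRing K d n), coeff_C_mul]
    by_cases hσ : ∀ t, p (θ.1 t) (σ t) <;> simp [hσ, coeff_monomial]
  have hdiag : f.coeff (diagExp θ) = 1 := by
    rw [hcoeff, Finset.sum_eq_single 1]
    · rw [if_pos ⟨fun t => h t, rfl⟩]; simp
    · intro σ _ hσ
      rw [if_neg]
      rintro ⟨-, e⟩
      exact absurd (congrArg (diagOrd d n).toSyn e) (permExp_lt θ hσ).ne
    · simp
  have hdeg : (diagOrd d n).degree f = diagExp θ := by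
    apply (diagOrd d n).toSyn.injective
    refine le_antisymm ((diagOrd d n).degree_le_iff.2 fun e he => ?_)
      ((diagOrd d n).le_degree (mem_support_iff.2 (hdiag ▸ one_ne_zero)))
    obtain ⟨σ, -, hσ⟩ := exists_ne_zero_of_sum_ne_zero (hcoeff e ▸ mem_support_iff.1 he)
    obtain ⟨-, rfl⟩ : (∀ t, p (θ.1 t) (σ t)) ∧ permExp θ.1 σ = e := by
      by_contra hc; exact hσ (if_neg hc)
    rcases eq_or_ne σ 1 with rfl | hσ1
    · exact le_rfl
    · exact (permExp_lt θ hσ1).le
  refine ⟨hdeg, ?_⟩
  rw [MonomialOrder.Monic, MonomialOrder.leadingCoeff, hdeg, hdiag]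

/-- The Plücker map followed by truncation to the pattern `p`. -/
def phi (p : Fin n → Fin d → Prop) : PlRing K d n →ₐ[K] MatRing K d n :=
  (trunc K p).comp (pluckerMap K d n)

theorem phi_X (p : Fin n → Fin d → Prop) (θ : Idx d n) :
    phi K p (X θ) = trunc K p (minor K d n θ.1) := by
  simp [phi, pluckerMap_X]

theorem phi_mon_monic [Nontrivial K] (p : Fin n → Fin d → Prop) {s : Multiset (Idx d n)}
    (h : ∀ θ ∈ s, ∀ t, p (θ.1 t) t) :
    (diagOrd d n).degree (phi K p (mon K s)) = expo s ∧
      (diagOrd d n).Monic (phi K p (mon K s)) := by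
  induction s using Multiset.induction with
  | empty =>
    refine ⟨?_, by simp [MonomialOrder.monic_one]⟩
    simp only [mon_zero, map_one, expo_zero]
    rw [← C_1, MonomialOrder.degree_C]
  | cons a s ih =>
    obtain ⟨h1, h2⟩ := ih fun θ hθ => h θ (Multiset.mem_cons_of_mem hθ)
    obtain ⟨g1, g2⟩ := trunc_minor_monic K p a (h a (Multiset.mem_cons_self _ _))
    rw [mon_cons, map_mul, phi_X, expo_cons]
    refine ⟨?_, g2.mul h2⟩
    rw [(diagOrd d n).degree_mul_of_isRegular_left (by rw [g2.leadingCoeff_eq_one]; exact isRegular_one)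
      h2.ne_zero, g1, h1]

/-- Monic polynomials with distinct degrees are linearly independent. -/
theorem linearIndependent_of_monic {σ ι : Type*} (m : MonomialOrder σ) {R : Type*} [CommRing R]
    (f : ι → MvPolynomial σ R) (hf : ∀ i, m.Monic (f i))
    (hinj : Function.Injective fun i => m.degree (f i)) : LinearIndependent R f := by
  classical
  rw [linearIndependent_iff']
  intro s g hsum
  by_contra hc
  push Not at hc
  obtain ⟨i, hi, hgi⟩ := hc
  obtain ⟨j, hj, hmax⟩ := Finset.exists_max_image (s.filter fun i => g i ≠ 0)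
    (fun i => m.toSyn (m.degree (f i))) ⟨i, mem_filter.2 ⟨hi, hgi⟩⟩
  obtain ⟨hjs, hgj⟩ := mem_filter.1 hj
  have := congrArg (MvPolynomial.coeff (m.degree (f j))) hsum
  rw [coeff_sum, Finset.sum_eq_single j, coeff_smul, coeff_zero, (hf j).coeff_degree] at this
  · exact hgj (by simpa using this)
  · intro b hb hbj
    rcases eq_or_ne (g b) 0 with h0 | h0
    · simp [h0]
    · rw [coeff_smul, m.coeff_eq_zero_of_lt, smul_zero]
      refine lt_of_le_of_ne (hmax b (mem_filter.2 ⟨hb, h0⟩)) fun e => hbj ?_
      exact hinj (m.toSyn.injective e)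
  · intro h; exact absurd hjs h

end GrothLib.SMT
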