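import Groth.Agent.Lib.SMT.FFTSL
import Groth.Agent.Lib.SMT.DetThm

/-!
# Plücker quadrics; injectivity of the Plücker map
-/

universe u

noncomputable section

open MvPolynomial W4bk4grassmannian Finset

namespace GrothLib.SMT

theorem eval_coord_congr {K : Type u} [CommRing K] {d n : ℕ} {q q' : Idx d n → K} (a : Fin d → Fin n)
    (h : ∀ hc : (univ.image a).card = d, q (sortIdx d n a hc) = q' (sortIdx d n a hc)) :
    eval q (coord K d n a) = eval q' (coord K d n a) := by
  unfold coord
  split_ifs with hc
  · simp [h hc]
  · simp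

theorem eval_coord_minors {K : Type u} [CommRing K] {d n : ℕ} (A : Matrix (Fin n) (Fin d) K)
    (a : Fin d → Fin n) :
    eval (fun θ : Idx d n => (A.submatrix θ.1 id).det) (coord K d n a) = (A.submatrix a id).det := by
  have h : evalMinors K d n A (coord K d n a) = (A.submatrix a id).det := by
    rw [← eval_pluckerMap, pluckerMap_coord, W4bk4grassmannian.minor, RingHom.map_det]
    congr 1
    refine Matrix.ext fun s t => ?_
    simp
  simpa [evalMinors, MvPolynomial.aeval_eq_eval] using h

theorem det_proportional {K : Type u} [CommRing K] {d n : ℕ} {A A' : Matrix (Fin n) (Fin d) K} {c : K}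
    (h : ∀ θ : Idx d n, (A.submatrix θ.1 id).det = c * (A'.submatrix θ.1 id).det) (a : Fin d → Fin n) :
    (A.submatrix a id).det = c * (A'.submatrix a id).det := by
  rw [← eval_coord_minors A, ← eval_coord_minors A']
  unfold coord
  split_ifs with hc
  · simp only [map_mul, eval_X, h, map_pow, map_neg, map_one]; ring
  · simp

theorem exists_minor_ne_zero {K : Type u} [Field K] {d n : ℕ} (A : Matrix (Fin n) (Fin d) K)
    (hA : LinearIndependent K A.transpose) : ∃ θ : Idx d n, (A.submatrix θ.1 id).det ≠ 0 := by
  rcases Nat.eq_zero_or_pos d with rfl | hd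
  · exact ⟨⟨Fin.elim0, fun a => a.elim0⟩, by simp⟩
  obtain ⟨k, rfl⟩ : ∃ k, d = k + 1 := ⟨d - 1, by omega⟩
  by_contra hc
  push Not at hc
  have hall : ∀ a : Fin (k + 1) → Fin n, (A.submatrix a id).det = 0 := fun a => by
    rw [← eval_coord_minors A]
    unfold coord
    split_ifs with hh
    · simp [hc]
    · simp
  obtain ⟨U, W, hUW⟩ := exists_factor_of_minors (k := k) A fun f g => by
    by_cases hg : Function.Injective g
    · let σ : Equiv.Perm (Fin (k + 1)) := Equiv.ofBijective g (Finite.injective_iff_bijective.1 hg)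
      rw [show A.submatrix f g = (A.submatrix f id).submatrix id σ from rfl, Matrix.det_permute' σ,
        hall f, mul_zero]
    · obtain ⟨x, y, he, hne⟩ := Function.not_injective_iff.1 hg
      exact Matrix.det_zero_of_column_eq hne (by intro c; simp [he])
  have h1 : A.rank = k + 1 := by
    rw [Matrix.rank_eq_finrank_span_cols, show A.col = A.transpose from rfl, finrank_span_eq_card hA,
      Fintype.card_fin]
  have h2 := (Matrix.rank_mul_le_left U W).trans (Matrix.rank_le_card_width U)
  rw [← hUW, h1, Fintype.card_fin] at h2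
  omega

theorem span_columns_le {K : Type u} [Field K] {d n : ℕ} (A A' : Matrix (Fin n) (Fin d) K)
    (hA : LinearIndependent K A.transpose) (c : K) (hc : c ≠ 0)
    (h : ∀ θ : Idx d n, (A.submatrix θ.1 id).det = c * (A'.submatrix θ.1 id).det) :
    Submodule.span K (Set.range A.transpose) ≤ Submodule.span K (Set.range A'.transpose) := by
  classical
  obtain ⟨θ, hθ⟩ := exists_minor_ne_zero A hA
  have hθ' : (A'.submatrix θ.1 id).det ≠ 0 := fun e => hθ (by rw [h, e, mul_zero])
  have h1 : A * (A.submatrix θ.1 id).adjugate = c • (A' * (A'.submatrix θ.1 id).adjugate) := by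
    refine Matrix.ext fun i t => ?_
    rw [Matrix.smul_apply, mul_adjugate_apply, mul_adjugate_apply, det_proportional h]
    rfl
  have h2 : A = A' * ((c * (A.submatrix θ.1 id).det⁻¹) •
      ((A'.submatrix θ.1 id).adjugate * (A.submatrix θ.1 id))) := by
    rw [Matrix.mul_smul, ← Matrix.mul_assoc, mul_comm c, mul_smul, ← Matrix.smul_mul, ← h1,
      Matrix.mul_assoc, Matrix.adjugate_mul, Matrix.mul_smul, Matrix.mul_one, smul_smul,
      inv_mul_cancel₀ hθ, one_smul]
  rw [Submodule.span_le]
  rintro _ ⟨t, rfl⟩
  rw [SetLike.mem_coe, Submodule.mem_span_range_iff_exists_fun]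
  set M := (c * (A.submatrix θ.1 id).det⁻¹) • ((A'.submatrix θ.1 id).adjugate * (A.submatrix θ.1 id))
  refine ⟨fun s => M s t, funext fun i => ?_⟩
  conv_rhs => rw [h2]
  simp [Matrix.mul_apply, mul_comm]

theorem eval_quadric_minors {K : Type u} [CommRing K] {e n : ℕ} (A : Matrix (Fin n) (Fin (e + 1)) K)
    (i' : Idx e n) (j' : Idx (e + 2) n) :
    eval (fun θ : Idx (e + 1) n => (A.submatrix θ.1 id).det) (quadric K i' j') = 0 := by
  classical
  unfold quadric
  simp only [map_sum, map_mul, map_pow, map_neg, map_one, eval_coord_minors]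
  have hexp : ∀ x : Fin n, (A.submatrix (Fin.snoc i'.1 x) id).det =
      ∑ c : Fin (e + 1), A x c *
        ((-1 : K) ^ (e + c.val) * (A.submatrix i'.1 c.succAbove).det) := by
    intro x
    rw [Matrix.det_succ_row _ (Fin.last e)]
    refine sum_congr rfl fun c _ => ?_
    rw [Matrix.submatrix_submatrix, Fin.succAbove_last]
    have hcomp : (Fin.snoc i'.1 x : Fin (e + 1) → Fin n) ∘ Fin.castSucc = i'.1 := by
      funext s; simp
    rw [hcomp, Function.id_comp]
    simp only [Matrix.submatrix_apply, Fin.snoc_last, id, Fin.val_last]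
    ring
  have hzero : ∀ c : Fin (e + 1),
      ∑ h : Fin (e + 2), (-1 : K) ^ h.val * A (j'.1 h) c * (A.submatrix (j'.1 ∘ h.succAbove) id).det = 0 := by
    intro c
    let M : Matrix (Fin (e + 2)) (Fin (e + 2)) K := Matrix.of fun h => Fin.cons (A (j'.1 h) c) (A (j'.1 h))
    have hM : M.det = 0 := Matrix.det_zero_of_column_eq (i := 0) (j := c.succ) (Fin.succ_ne_zero c).symm
      (by intro h; simp [M])
    rw [Matrix.det_succ_column_zero] at hM
    rw [← hM]
    refine sum_congr rfl fun h _ => ?_
    congr 1
  simp only [hexp, Finset.mul_sum, sum_mul]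
  rw [Finset.sum_comm]
  refine sum_eq_zero fun c _ => ?_
  refine Eq.trans ?_ (mul_zero (-((-1 : K) ^ (e + c.val) * (A.submatrix i'.1 c.succAbove).det)))
  conv_rhs => rw [← hzero c, mul_sum]
  exact sum_congr rfl fun h _ => by rw [pow_succ]; ring

theorem image_update_subset {d : ℕ} {α : Type*} [DecidableEq α] (f : Fin d → α) (t : Fin d) (x : α) :
    univ.image (Function.update f t x) ⊆ insert x (univ.image f) := fun z hz => by
  obtain ⟨s, -, rfl⟩ := mem_image.1 hz
  by_cases hs : s = t
  · subst hs; simp
  · simp [Function.update_of_ne hs]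

theorem exists_matrix_of_quadrics {K : Type u} [Field K] {e n : ℕ} (q : Idx (e + 1) n → K) (hq : q ≠ 0)
    (hquad : ∀ (i' : Idx e n) (j' : Idx (e + 2) n), eval q (quadric K i' j') = 0) :
    ∃ A : Matrix (Fin n) (Fin (e + 1)) K, ∀ θ : Idx (e + 1) n, q θ = (A.submatrix θ.1 id).det := by
  classical
  obtain ⟨θ0, hθ0⟩ := Function.ne_iff.1 hq
  let D : Fin (e + 1) → K := fun t => if t = 0 then q θ0 else 1
  let A : Matrix (Fin n) (Fin (e + 1)) K := Matrix.of fun i t =>
    eval q (coord K (e + 1) n (Function.update θ0.1 t i)) / q θ0 * D t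
  have htop : A.submatrix θ0.1 id = Matrix.diagonal D := by
    refine Matrix.ext fun s t => ?_
    simp only [Matrix.submatrix_apply, id, A, Matrix.of_apply, Matrix.diagonal_apply]
    by_cases hst : s = t
    · subst hst
      rw [Function.update_eq_self, coord_self, eval_X, if_pos rfl, div_self hθ0, one_mul]
    · have : ¬ Function.Injective (Function.update θ0.1 t (θ0.1 s)) := fun hinj =>
        hst (hinj (by rw [Function.update_of_ne hst, Function.update_self]))
      rw [coord, dif_neg (fun hc => this ((card_image_eq_iff _).1 hc)), map_zero, zero_div, zero_mul,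
        if_neg hst]
  set q' : Idx (e + 1) n → K := fun θ => (A.submatrix θ.1 id).det with hq'
  have h00 : q' θ0 = q θ0 := by
    show (A.submatrix θ0.1 id).det = _
    rw [htop, Matrix.det_diagonal]
    simp [D, Finset.prod_ite_eq']
  have hone : ∀ t x, eval q' (coord K (e + 1) n (Function.update θ0.1 t x)) =
      eval q (coord K (e + 1) n (Function.update θ0.1 t x)) := by
    intro t x
    rw [hq', eval_coord_minors, ← mul_adjugate_apply, htop, Matrix.adjugate_diagonal,
      Matrix.mul_diagonal]
    simp only [A, Matrix.of_apply]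
    have hP : D t * ∏ i ∈ univ.erase t, D i = q θ0 := by
      rw [Finset.mul_prod_erase univ D (mem_univ t)]
      simp [D, Finset.prod_ite_eq']
    rw [mul_assoc, hP, div_mul_cancel₀ _ hθ0]
  set S0 := univ.image θ0.1
  have hcard0 : S0.card = e + 1 := (card_image_eq_iff _).2 θ0.2.injective
  have himg : ∀ (a : Fin (e + 1) → Fin n) (hc : (univ.image a).card = e + 1),
      univ.image (sortIdx (e + 1) n a hc).1 = univ.image a := by
    intro a hc
    refine eq_of_subset_of_card_le (fun y hy => ?_)
      (by rw [card_image_of_injective _ (sortIdx _ _ a hc).2.injective, card_fin, hc])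
    obtain ⟨t, -, rfl⟩ := mem_image.1 hy
    exact orderEmbOfFin_mem _ _ _
  suffices main : ∀ k, ∀ θ : Idx (e + 1) n, (univ.image θ.1 \ S0).card = k → q θ = q' θ from
    ⟨A, fun θ => main _ θ rfl⟩
  intro k
  induction k using Nat.strong_induction_on with
  | _ k ih =>
    intro θ hk
    set S := univ.image θ.1
    have hcardS : S.card = e + 1 := (card_image_eq_iff _).2 θ.2.injective
    rcases Nat.lt_or_ge k 2 with hk2 | hk2
    · rcases Nat.eq_zero_or_pos k with rfl | hk1
      · have : S = S0 := eq_of_subset_of_card_le (sdiff_eq_empty_iff_subset.1 (card_eq_zero.1 hk)) (by omega)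
        have hθ : θ = θ0 := by
          have hb : (univ.image θ0.1).card = e + 1 := hcard0
          apply Subtype.ext
          rw [orderEmbOfFin_unique hb (fun t => by
            show θ.1 t ∈ S0
            rw [← this]; exact mem_image_of_mem θ.1 (mem_univ t)) θ.2,
            ← orderEmbOfFin_unique hb (fun t => mem_image_of_mem θ0.1 (mem_univ t)) θ0.2]
        rw [hθ, h00]
      · obtain ⟨x, hx⟩ := card_eq_one.1 (show (S \ S0).card = 1 by omega)
        have hy : (S0 \ S).card = 1 := by
          have h1 := card_sdiff_add_card S S0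
          have h2 := card_sdiff_add_card S0 S
          rw [union_comm] at h2
          omega
        obtain ⟨y, hy⟩ := card_eq_one.1 hy
        obtain ⟨hyS0, hyS⟩ := mem_sdiff.1 (hy ▸ mem_singleton_self y)
        obtain ⟨t, -, rfl⟩ := mem_image.1 hyS0
        obtain ⟨hxS, hxS0⟩ := mem_sdiff.1 (hx ▸ mem_singleton_self x)
        have hsub : S ⊆ univ.image (Function.update θ0.1 t x) := by
          intro z hz
          by_cases hzx : z = x
          · exact mem_image.2 ⟨t, mem_univ _, by rw [Function.update_self, hzx]⟩
          · have hz0 : z ∈ S0 := by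
              by_contra hc
              exact hzx (mem_singleton.1 (hx ▸ mem_sdiff.2 ⟨hz, hc⟩))
            obtain ⟨s, -, rfl⟩ := mem_image.1 hz0
            exact mem_image.2 ⟨s, mem_univ _, Function.update_of_ne (fun e' => hyS (by rw [← e']; exact hz)) _ _⟩
        have hc : (univ.image (Function.update θ0.1 t x)).card = e + 1 :=
          le_antisymm (card_image_le.trans (by simp)) (hcardS.symm.le.trans (card_le_card hsub))
        have hS : univ.image (Function.update θ0.1 t x) = S :=
          (eq_of_subset_of_card_le hsub (by omega)).symm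
        have hsort : sortIdx (e + 1) n (Function.update θ0.1 t x) hc = θ := Subtype.ext
          (orderEmbOfFin_unique hc (fun s => hS ▸ mem_image_of_mem θ.1 (mem_univ s)) θ.2).symm
        have h1 := hone t x
        rw [coord, dif_pos hc, hsort] at h1
        simp only [map_mul, map_pow, map_neg, map_one, eval_X] at h1
        exact (mul_left_cancel₀ (pow_ne_zero _ (neg_ne_zero.2 one_ne_zero)) h1).symm
    · obtain ⟨x, hx⟩ := card_pos.1 (show 0 < (S \ S0).card by omega)
      obtain ⟨hxS, hxS0⟩ := mem_sdiff.1 hx
      have hci : (S.erase x).card = e := by rw [card_erase_of_mem hxS]; omega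
      have hcj : (insert x S0).card = e + 2 := by rw [card_insert_of_notMem hxS0]; omega
      let i' : Idx e n := ⟨(S.erase x).orderEmbOfFin hci, OrderEmbedding.strictMono _⟩
      let j' : Idx (e + 2) n := ⟨(insert x S0).orderEmbOfFin hcj, OrderEmbedding.strictMono _⟩
      obtain ⟨h0, hh0⟩ : ∃ h0, j'.1 h0 = x := by
        have : x ∈ Set.range ((insert x S0).orderEmbOfFin hcj) := by
          rw [range_orderEmbOfFin]; exact mem_insert_self x S0
        exact this
      have hi'img : univ.image i'.1 = S.erase x := image_orderEmbOfFin_univ _ _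
      have hsnoc : ∀ y, univ.image (Fin.snoc i'.1 y : Fin (e + 1) → Fin n) = insert y (S.erase x) := by
        intro y
        ext z
        simp only [mem_image, mem_univ, true_and, mem_insert]
        constructor
        · rintro ⟨s, rfl⟩
          cases s using Fin.lastCases with
          | last => simp
          | cast s => right; rw [Fin.snoc_castSucc, ← hi'img]; exact mem_image_of_mem i'.1 (mem_univ s)
        · rintro (rfl | hz)
          · exact ⟨Fin.last e, by simp⟩
          · rw [← hi'img] at hz
            obtain ⟨s, -, rfl⟩ := mem_image.1 hz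
            exact ⟨s.castSucc, by simp⟩
      have hjimg : univ.image j'.1 = insert x S0 := image_orderEmbOfFin_univ _ _
      have hjh0 : (univ.image (j'.1 ∘ h0.succAbove)) = S0 := by
        refine eq_of_subset_of_card_le (fun z hz => ?_) ?_
        · obtain ⟨s, -, rfl⟩ := mem_image.1 hz
          have h1 : j'.1 (h0.succAbove s) ∈ insert x S0 := hjimg ▸ mem_image_of_mem j'.1 (mem_univ _)
          refine (mem_insert.1 h1).resolve_left fun e' => ?_
          exact Fin.succAbove_ne h0 s (j'.2.injective (e'.trans hh0.symm))
        · rw [card_image_of_injective _ (j'.2.injective.comp Fin.succAbove_right_injective), card_fin]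
          omega
      have hterm : ∀ h ≠ h0,
          eval q (coord K (e + 1) n (Fin.snoc i'.1 (j'.1 h))) * eval q (coord K (e + 1) n (j'.1 ∘ h.succAbove)) =
          eval q' (coord K (e + 1) n (Fin.snoc i'.1 (j'.1 h))) *
            eval q' (coord K (e + 1) n (j'.1 ∘ h.succAbove)) := by
        intro h hh
        have hy : j'.1 h ∈ S0 := (mem_insert.1 (hjimg ▸ mem_image_of_mem j'.1 (mem_univ h) :
          j'.1 h ∈ insert x S0)).resolve_left fun e' => hh (j'.2.injective (e'.trans hh0.symm))
        congr 1
        · refine eval_coord_congr _ fun hc => ih _ ?_ _ rfl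
          have hsub : univ.image (sortIdx (e + 1) n (Fin.snoc i'.1 (j'.1 h)) hc).1 \ S0 ⊆ (S \ S0).erase x := by
            intro z hz
            rw [himg, hsnoc, mem_sdiff, mem_insert] at hz
            obtain ⟨hz1, hz2⟩ := hz
            rcases hz1 with rfl | hz1
            · exact absurd hy hz2
            · exact mem_erase.2 ⟨(mem_erase.1 hz1).1, mem_sdiff.2 ⟨(mem_erase.1 hz1).2, hz2⟩⟩
          refine (card_le_card hsub).trans_lt ?_
          rw [card_erase_of_mem hx]
          omega
        · refine eval_coord_congr _ fun hc => ih _ ?_ _ rfl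
          have hsub : univ.image (sortIdx (e + 1) n (j'.1 ∘ h.succAbove) hc).1 \ S0 ⊆ {x} := by
            intro z hz
            rw [himg, mem_sdiff, mem_image] at hz
            obtain ⟨⟨s, -, rfl⟩, hz2⟩ := hz
            exact mem_singleton.2 ((mem_insert.1 (hjimg ▸ mem_image_of_mem j'.1 (mem_univ _) :
              j'.1 (h.succAbove s) ∈ insert x S0)).resolve_right hz2)
          have := card_le_card hsub
          rw [card_singleton] at this
          omega
      have key := (hquad i' j').trans (eval_quadric_minors A i' j').symm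
      rw [← hq'] at key
      unfold quadric at key
      rw [map_sum, map_sum, ← add_sum_erase univ _ (mem_univ h0),
        ← add_sum_erase univ (fun h => eval q' ((-1 : PlRing K (e + 1) n) ^ (h.val + 1) *
          coord K (e + 1) n (Fin.snoc i'.1 (j'.1 h)) * coord K (e + 1) n (j'.1 ∘ h.succAbove))) (mem_univ h0)]
        at key
      simp only [map_mul, map_pow, map_neg, map_one] at key
      have hrest : ∀ h ∈ univ.erase h0,
          (-1 : K) ^ (h.val + 1) * eval q (coord K (e + 1) n (Fin.snoc i'.1 (j'.1 h))) *
            eval q (coord K (e + 1) n (j'.1 ∘ h.succAbove)) =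
          (-1 : K) ^ (h.val + 1) * eval q' (coord K (e + 1) n (Fin.snoc i'.1 (j'.1 h))) *
            eval q' (coord K (e + 1) n (j'.1 ∘ h.succAbove)) := fun h hh => by
        rw [mul_assoc, hterm h (mem_erase.1 hh).1, ← mul_assoc]
      rw [sum_congr rfl hrest, add_left_inj, hh0] at key
      have hcS : (univ.image (Fin.snoc i'.1 x : Fin (e + 1) → Fin n)).card = e + 1 := by
        rw [hsnoc, insert_erase hxS, hcardS]
      have hc0 : (univ.image (j'.1 ∘ h0.succAbove)).card = e + 1 := by rw [hjh0, hcard0]
      have hsθ : sortIdx (e + 1) n (Fin.snoc i'.1 x) hcS = θ := Subtype.ext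
        (orderEmbOfFin_unique hcS (fun s => by
          rw [hsnoc, insert_erase hxS]; exact mem_image_of_mem θ.1 (mem_univ s)) θ.2).symm
      have hs0 : sortIdx (e + 1) n (j'.1 ∘ h0.succAbove) hc0 = θ0 := Subtype.ext
        (orderEmbOfFin_unique hc0 (fun s => by
          rw [hjh0]; exact mem_image_of_mem θ0.1 (mem_univ s)) θ0.2).symm
      simp only [coord, dif_pos hcS, dif_pos hc0, hsθ, hs0, map_mul, map_pow, map_neg, map_one, eval_X] at key
      rw [h00] at key
      have hne : ∀ m : ℕ, (-1 : K) ^ m ≠ 0 := fun m => pow_ne_zero _ (neg_ne_zero.2 one_ne_zero)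
      have h2 := mul_right_cancel₀ (mul_ne_zero (hne _) hθ0) key
      exact mul_left_cancel₀ (hne _) (mul_left_cancel₀ (hne _) h2)

end GrothLib.SMT
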