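import Groth.Prelude.Def_W4bk4grassmannianPl
import Mathlib.GroupTheory.Perm.Fin
import Mathlib.LinearAlgebra.Matrix.Determinant.Basic
import Mathlib.Algebra.MvPolynomial.CommRing
import Mathlib.Tactic.Ring
import Mathlib.Tactic.LinearCombination
import Mathlib.Tactic.Group
import Mathlib.RingTheory.MvPolynomial.Basic

/-!
# Plücker relations: the shuffle relations vanish on maximal minors

`pluckerMap_coord` : the signed coordinate of a tuple goes to the minor on that tuple.
`pluckerMap_shuffleRel` : shuffle relations (at increasing or arbitrary moving rows) go to zero.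
-/

universe u

noncomputable section

open MvPolynomial W4bk4grassmannian Finset

namespace GrothLib.SMT

variable (K : Type u) [CommRing K] {d n : ℕ}

/-- The number of inversions computes the sign of a permutation of `Fin d`. -/
theorem sign_eq_neg_one_pow (σ : Equiv.Perm (Fin d)) :
    σ.sign = (-1 : ℤˣ) ^ (univ.filter fun p : Fin d × Fin d => p.1 < p.2 ∧ σ p.2 < σ p.1).card := by
  rw [σ.sign_eq_prod_prod_Ioi]
  have key : ∀ i : Fin d, (∏ j ∈ Ioi i, (if σ i < σ j then (1 : ℤˣ) else -1)) =
      ∏ j : Fin d, (if i < j ∧ σ j < σ i then (-1 : ℤˣ) else 1) := by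
    intro i
    rw [← filter_lt_eq_Ioi, prod_filter]
    refine prod_congr rfl fun j _ => ?_
    by_cases h : i < j
    · have : σ i ≠ σ j := σ.injective.ne h.ne
      rcases lt_or_gt_of_ne this with h' | h'
      · simp [h, h', h'.not_gt]
      · simp [h, h', h'.not_gt]
    · simp [h]
  simp_rw [key]
  rw [← Fintype.prod_prod_type' (f := fun i j => if i < j ∧ σ j < σ i then (-1 : ℤˣ) else 1),
    ← prod_filter, prod_const]

/-- Permuting the rows of a minor multiplies it by the sign. -/
theorem minor_perm (a : Fin d → Fin n) (σ : Equiv.Perm (Fin d)) :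
    minor K d n (a ∘ σ) = ((σ.sign : ℤ) : MatRing K d n) * minor K d n a := by
  unfold minor
  rw [← Matrix.det_permute σ]
  rfl

theorem minor_eq_zero_of_not_injective (a : Fin d → Fin n) (h : ¬ Function.Injective a) :
    minor K d n a = 0 := by
  rw [Function.not_injective_iff] at h
  obtain ⟨s, t, he, hne⟩ := h
  refine Matrix.det_zero_of_row_eq hne ?_
  funext u
  simp [he]

theorem card_image_eq_iff (a : Fin d → Fin n) :
    (univ.image a).card = d ↔ Function.Injective a := by
  constructor
  · intro h x y hxy
    exact (Finset.card_image_iff.1 (h.trans (by simp)) : Set.InjOn a _) (by simp) (by simp) hxy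
  · intro h
    rw [card_image_of_injective _ h]
    simp

/-- The sorting permutation: `a = sortIdx a ∘ σ`, with sign the parity of `invCount`. -/
theorem exists_sort_perm (a : Fin d → Fin n) (h : (univ.image a).card = d) :
    ∃ σ : Equiv.Perm (Fin d), (sortIdx d n a h).1 ∘ σ = a ∧
      σ.sign = (-1 : ℤˣ) ^ invCount d n a := by
  classical
  let e := (univ.image a).orderIsoOfFin h
  let f : Fin d → Fin d := fun t => e.symm ⟨a t, mem_image_of_mem a (mem_univ t)⟩
  have hinj := (card_image_eq_iff a).1 h
  have hf : Function.Bijective f := by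
    refine (Fintype.bijective_iff_injective_and_card f).2 ⟨?_, rfl⟩
    intro x y hxy
    exact hinj (by simpa using congrArg Subtype.val (e.symm.injective hxy))
  have hcomp : ∀ t, (sortIdx d n a h).1 (f t) = a t := by
    intro t
    show (univ.image a).orderEmbOfFin h (f t) = a t
    rw [← Finset.coe_orderIsoOfFin_apply]
    simp [f, e]
  refine ⟨Equiv.ofBijective f hf, funext hcomp, ?_⟩
  rw [sign_eq_neg_one_pow]
  congr 2
  ext p
  simp only [mem_filter, mem_univ, true_and, Equiv.ofBijective_apply]
  rw [← hcomp p.1, ← hcomp p.2, (sortIdx d n a h).2.lt_iff_lt]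

theorem pluckerMap_X (θ : Idx d n) : pluckerMap K d n (X θ) = minor K d n θ.1 := by
  simp [pluckerMap]

theorem pluckerMap_coord (a : Fin d → Fin n) :
    pluckerMap K d n (coord K d n a) = minor K d n a := by
  unfold coord
  by_cases h : (univ.image a).card = d
  · rw [dif_pos h]
    obtain ⟨σ, h1, h2⟩ := exists_sort_perm a h
    conv_rhs => rw [← h1, minor_perm, h2]
    simp [pluckerMap_X]
  · rw [dif_neg h, map_zero, minor_eq_zero_of_not_injective]
    exact fun hi => h ((card_image_eq_iff a).2 hi)

section Shuffle

variable (mr : Fin (d + 1) → Fin n) (ci cj : Fin d → Fin n) (r : Fin d)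

/-- First tuple attached to a permutation of the moving rows. -/
def permI (σ : Equiv.Perm (Fin (d + 1))) : Fin d → Fin n :=
  fun t => if t ≤ r then mr (σ t.castSucc) else ci t

/-- Second tuple attached to a permutation of the moving rows. -/
def permJ (σ : Equiv.Perm (Fin (d + 1))) : Fin d → Fin n :=
  fun t => if t < r then cj t else mr (σ t.succ)

theorem prod_split {R : Type*} [CommMonoid R] (g : Fin (d + 1) → R) :
    ∏ k, g k = (∏ t : Fin d, if t ≤ r then g t.castSucc else 1) *
      ∏ t : Fin d, if t < r then 1 else g t.succ := by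
  rw [← prod_filter_mul_prod_filter_not univ (fun k : Fin (d + 1) => k ≤ r.castSucc) g]
  congr 1
  · rw [← prod_filter]
    refine (prod_bij (fun t _ => Fin.castSucc t) ?_ ?_ ?_ ?_).symm
    · intro t ht; simp only [mem_filter, mem_univ, true_and] at ht ⊢; simpa using ht
    · intro a _ b _ h; exact Fin.castSucc_injective _ h
    · intro k hk
      simp only [mem_filter, mem_univ, true_and, Fin.le_def, Fin.val_castSucc] at hk
      refine ⟨⟨k.val, by omega⟩, ?_, rfl⟩
      simp only [mem_filter, mem_univ, true_and]; exact Fin.le_def.2 hk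
    · intro t _; rfl
  · have : (∏ t : Fin d, if t < r then 1 else g t.succ) =
        ∏ t ∈ univ.filter (fun t : Fin d => ¬ t < r), g t.succ := by
      rw [prod_filter]
      exact prod_congr rfl fun t _ => by by_cases h : t < r <;> simp [h]
    rw [this]
    refine (prod_bij (fun t _ => Fin.succ t) ?_ ?_ ?_ ?_).symm
    · intro t ht
      simp only [mem_filter, mem_univ, true_and, Fin.lt_def, Fin.le_def, Fin.val_castSucc,
        Fin.val_succ] at ht ⊢
      omega
    · intro a _ b _ h; exact Fin.succ_injective _ h
    · intro k hk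
      simp only [mem_filter, mem_univ, true_and, Fin.le_def, Fin.val_castSucc] at hk
      refine ⟨⟨k.val - 1, by omega⟩, ?_, ?_⟩
      · simp only [mem_filter, mem_univ, true_and, Fin.lt_def]; omega
      · ext; simp; omega
    · intro t _; rfl

theorem minor_eq_sum (a : Fin d → Fin n) :
    minor K d n a = ∑ p : Equiv.Perm (Fin d),
      ((p.sign : ℤ) : MatRing K d n) * ∏ t, X (a t, p t) := by
  unfold minor
  rw [← Matrix.det_transpose, Matrix.det_apply']
  rfl

/-- The full antisymmetrisation vanishes: an expansion into determinants with a repeated column. -/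
theorem sum_perm_eq_zero :
    ∑ σ : Equiv.Perm (Fin (d + 1)), ((σ.sign : ℤ) : MatRing K d n) *
      (minor K d n (permI mr ci r σ) * minor K d n (permJ mr cj r σ)) = 0 := by
  classical
  simp only [minor_eq_sum, mul_sum, sum_mul]
  rw [sum_comm]
  refine sum_eq_zero fun q _ => ?_
  rw [sum_comm]
  refine sum_eq_zero fun p _ => ?_
  let c : Fin (d + 1) → Fin d := fun k => if h : k.val ≤ r.val then p ⟨k.val, by omega⟩
    else q ⟨k.val - 1, by omega⟩
  let P1 : MatRing K d n := ∏ t : Fin d, if t ≤ r then 1 else X (ci t, p t)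
  let Q1 : MatRing K d n := ∏ t : Fin d, if t < r then X (cj t, q t) else 1
  have key : ∀ σ : Equiv.Perm (Fin (d + 1)),
      (∏ t, X (permI mr ci r σ t, p t) : MatRing K d n) * ∏ t, X (permJ mr cj r σ t, q t) =
        P1 * Q1 * ∏ k, X (mr (σ k), c k) := by
    intro σ
    rw [prod_split r (fun k => (X (mr (σ k), c k) : MatRing K d n))]
    have e1 : (∏ t, X (permI mr ci r σ t, p t) : MatRing K d n) =
        P1 * ∏ t : Fin d, if t ≤ r then X (mr (σ t.castSucc), c t.castSucc) else 1 := by
      rw [← prod_mul_distrib]
      refine prod_congr rfl fun t _ => ?_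
      by_cases h : t ≤ r
      · simp [permI, h, c, Fin.le_def.1 h]
      · simp [permI, h]
    have e2 : (∏ t, X (permJ mr cj r σ t, q t) : MatRing K d n) =
        Q1 * ∏ t : Fin d, if t < r then 1 else X (mr (σ t.succ), c t.succ) := by
      rw [← prod_mul_distrib]
      refine prod_congr rfl fun t _ => ?_
      by_cases h : t < r
      · simp [permJ, h]
      · have : ¬ t.val + 1 ≤ r.val := by omega
        simp [permJ, h, c, this]
    rw [e1, e2]; ring
  calc _ = ((p.sign : ℤ) : MatRing K d n) * ((q.sign : ℤ) : MatRing K d n) * (P1 * Q1) *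
        ∑ σ : Equiv.Perm (Fin (d + 1)), ((σ.sign : ℤ) : MatRing K d n) * ∏ k, X (mr (σ k), c k) := by
        rw [mul_sum]
        refine sum_congr rfl fun σ _ => ?_
        linear_combination ((σ.sign : ℤ) : MatRing K d n) * ((p.sign : ℤ) : MatRing K d n) *
          ((q.sign : ℤ) : MatRing K d n) * key σ
    _ = 0 := by
      have hdet : ∑ σ : Equiv.Perm (Fin (d + 1)), ((σ.sign : ℤ) : MatRing K d n) *
          ∏ k, X (mr (σ k), c k) =
          (Matrix.of fun k l : Fin (d + 1) => (X (mr k, c l) : MatRing K d n)).det := by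
        rw [Matrix.det_apply']; rfl
      obtain ⟨x, y, hne, he⟩ := Fintype.exists_ne_map_eq_of_card_lt c (by simp)
      rw [hdet, Matrix.det_zero_of_column_eq hne (fun k => by simp [he]), mul_zero]

/-- The image of the first block. -/
def blockSet (σ : Equiv.Perm (Fin (d + 1))) : Finset (Fin (d + 1)) :=
  (Finset.Iic r.castSucc).image σ

theorem card_blockSet (σ : Equiv.Perm (Fin (d + 1))) : (blockSet r σ).card = r.val + 1 := by
  rw [blockSet, card_image_of_injective _ σ.injective]; simp

theorem card_compl_of (A : Finset (Fin (d + 1))) (hA : A.card = r.val + 1) :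
    Aᶜ.card = d - r.val := by
  rw [card_compl, hA, Fintype.card_fin]; omega

/-- The shuffle permutation sending the first block increasingly onto `A`. -/
def shuffleFun (A : Finset (Fin (d + 1))) (hA : A.card = r.val + 1) (k : Fin (d + 1)) :
    Fin (d + 1) :=
  if h : k.val ≤ r.val then A.orderEmbOfFin hA ⟨k.val, by omega⟩
  else Aᶜ.orderEmbOfFin (card_compl_of r A hA) ⟨k.val - (r.val + 1), by omega⟩

theorem shuffleFun_mem_iff (A : Finset (Fin (d + 1))) (hA : A.card = r.val + 1) (k : Fin (d + 1)) :
    shuffleFun r A hA k ∈ A ↔ k.val ≤ r.val := by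
  unfold shuffleFun
  split_ifs with h
  · simp [h, orderEmbOfFin_mem]
  · simp only [h, iff_false]
    exact mem_compl.1 (orderEmbOfFin_mem _ _ _)

theorem shuffleFun_injective (A : Finset (Fin (d + 1))) (hA : A.card = r.val + 1) :
    Function.Injective (shuffleFun r A hA) := by
  intro x y hxy
  have hiff : x.val ≤ r.val ↔ y.val ≤ r.val := by
    rw [← shuffleFun_mem_iff r A hA x, ← shuffleFun_mem_iff r A hA y, hxy]
  unfold shuffleFun at hxy
  by_cases h : x.val ≤ r.val
  · rw [dif_pos h, dif_pos (hiff.1 h)] at hxy
    have := congrArg Fin.val ((A.orderEmbOfFin hA).injective hxy)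
    ext; simpa using this
  · rw [dif_neg h, dif_neg (fun h' => h (hiff.2 h'))] at hxy
    have h2 := congrArg Fin.val ((Aᶜ.orderEmbOfFin _).injective hxy)
    have h3 : ¬ y.val ≤ r.val := fun h' => h (hiff.2 h')
    simp only at h2
    ext; omega

/-- `shuffleFun` as a permutation. -/
def shufflePerm (A : Finset (Fin (d + 1))) (hA : A.card = r.val + 1) : Equiv.Perm (Fin (d + 1)) :=
  Equiv.ofBijective _ (Finite.injective_iff_bijective.1 (shuffleFun_injective r A hA))

theorem blockSet_shufflePerm (A : Finset (Fin (d + 1))) (hA : A.card = r.val + 1) :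
    blockSet r (shufflePerm r A hA) = A := by
  refine eq_of_subset_of_card_le ?_ (by rw [card_blockSet, hA])
  intro y hy
  simp only [blockSet, mem_image, mem_Iic] at hy
  obtain ⟨k, hk, rfl⟩ := hy
  exact (shuffleFun_mem_iff r A hA k).2 (by simpa [Fin.le_def] using hk)

theorem sign_shufflePerm (A : Finset (Fin (d + 1))) (hA : A.card = r.val + 1) :
    (shufflePerm r A hA).sign = (-1 : ℤˣ) ^ shuffleSign r A := by
  classical
  set σ := shufflePerm r A hA with hσ
  have happ : ∀ k, σ k = shuffleFun r A hA k := fun k => rfl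
  rw [sign_eq_neg_one_pow]
  congr 1
  have hfib : (univ.filter fun p : Fin (d + 1) × Fin (d + 1) => p.1 < p.2 ∧ σ p.2 < σ p.1).card =
      ∑ k : Fin (d + 1), (univ.filter fun l => k < l ∧ σ l < σ k).card := by
    rw [← Finset.card_sigma]
    refine Finset.card_bij (fun p _ => ⟨p.1, p.2⟩) ?_ ?_ ?_
    · intro p hp; simpa using hp
    · intro a _ b _ h
      simp only [Sigma.mk.inj_iff, heq_eq_eq] at h
      exact Prod.ext h.1 h.2
    · intro b hb; exact ⟨(b.1, b.2), by simpa using hb, rfl⟩
  have hlater : ∀ k : Fin (d + 1), ¬ k.val ≤ r.val →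
      (univ.filter fun l => k < l ∧ σ l < σ k).card = 0 := by
    intro k hk
    rw [card_eq_zero, filter_eq_empty_iff]
    intro l _ hl
    have hkl : k.val < l.val := hl.1
    have := hl.2
    rw [happ, happ, shuffleFun, shuffleFun, dif_neg hk, dif_neg (by omega),
      OrderEmbedding.lt_iff_lt, Fin.lt_def] at this
    simp only at this
    omega
  have hfirst : ∀ k : Fin (d + 1), k.val ≤ r.val →
      (univ.filter fun l => k < l ∧ σ l < σ k).card + k.val = (σ k).val := by
    intro k hk
    have e1 : ((univ.filter fun l => k < l ∧ σ l < σ k) ∪ Iio k).image σ = Iio (σ k) := by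
      ext y
      obtain ⟨l, rfl⟩ := σ.surjective y
      simp only [mem_image, mem_union, mem_filter, mem_univ, true_and, mem_Iio, σ.injective.eq_iff,
        exists_eq_right]
      constructor
      · rintro (h | h)
        · exact h.2
        · have hl : l.val ≤ r.val := le_trans (le_of_lt h) hk
          rw [happ, happ, shuffleFun, shuffleFun, dif_pos hk, dif_pos hl, OrderEmbedding.lt_iff_lt]
          exact h
      · intro h
        rcases lt_trichotomy k l with hkl | hkl | hkl
        · exact Or.inl ⟨hkl, h⟩
        · exact absurd h (by rw [hkl]; exact lt_irrefl _)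
        · exact Or.inr hkl
    have := congrArg Finset.card e1
    rw [card_image_of_injective _ σ.injective, Fin.card_Iio, card_union_of_disjoint, Fin.card_Iio]
      at this
    · exact this
    · rw [disjoint_left]
      intro l hl hl'
      simp only [mem_filter, mem_univ, true_and, mem_Iio] at hl hl'
      exact lt_asymm hl.1 hl'
  have hA' : A.sum (fun a => a.val) =
      ∑ k : Fin (d + 1), if k.val ≤ r.val then (σ k).val else 0 := by
    conv_lhs => rw [← blockSet_shufflePerm r A hA, blockSet,
      sum_image (fun a _ b _ h => σ.injective h)]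
    rw [← sum_filter]
    refine sum_congr ?_ fun _ _ => rfl
    ext k; simp [Fin.le_def]
  have htri : ∑ k : Fin (d + 1), (if k.val ≤ r.val then k.val else 0) = r.val * (r.val + 1) / 2 := by
    rw [Fin.sum_univ_eq_sum_range (fun k => if k ≤ r.val then k else 0), ← sum_filter]
    have : (range (d + 1)).filter (fun k => k ≤ r.val) = range (r.val + 1) := by
      ext k; simp; omega
    rw [this, sum_range_id, Nat.add_sub_cancel, Nat.mul_comm]
  rw [hfib, shuffleSign, hA', ← htri]
  symm
  rw [Nat.sub_eq_iff_eq_add]
  · rw [← sum_add_distrib]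
    refine sum_congr rfl fun k _ => ?_
    by_cases h : k.val ≤ r.val
    · simp [h, (hfirst k h).symm]
    · simp [h, hlater k h]
  · refine sum_le_sum fun k _ => ?_
    by_cases h : k.val ≤ r.val
    · simp only [h, if_true]; rw [← hfirst k h]; omega
    · simp [h]

/-- A permutation preserving the two blocks changes the product of minors by its sign. -/
theorem block_perm_term (τ π : Equiv.Perm (Fin (d + 1)))
    (hπ : ∀ k, k ≤ r.castSucc ↔ π k ≤ r.castSucc) :
    minor K d n (permI mr ci r (τ * π)) * minor K d n (permJ mr cj r (τ * π)) =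
      ((π.sign : ℤ) : MatRing K d n) *
        (minor K d n (permI mr ci r τ) * minor K d n (permJ mr cj r τ)) := by
  classical
  let π1 := π.subtypePerm (p := fun k => k ≤ r.castSucc) (fun k => (hπ k).symm)
  let π2 := π.subtypePerm (p := fun k => ¬ k ≤ r.castSucc) (fun k => not_congr (hπ k).symm)
  have hdec : π = Equiv.Perm.ofSubtype π1 * Equiv.Perm.ofSubtype π2 := by
    ext k
    rw [Equiv.Perm.mul_apply]
    by_cases h : k ≤ r.castSucc
    · rw [Equiv.Perm.ofSubtype_apply_of_not_mem π2 (by simpa using h),
        Equiv.Perm.ofSubtype_apply_of_mem π1 h]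
      rfl
    · rw [Equiv.Perm.ofSubtype_apply_of_mem π2 h]
      rw [Equiv.Perm.ofSubtype_apply_of_not_mem π1]
      · rfl
      · exact fun h' => h ((hπ k).2 h')
  let e1 : {t : Fin d // t ≤ r} ≃ {k : Fin (d + 1) // k ≤ r.castSucc} :=
    { toFun := fun t => ⟨t.1.castSucc, Fin.castSucc_le_castSucc_iff.2 t.2⟩
      invFun := fun k => ⟨⟨k.1.val, lt_of_le_of_lt (Fin.le_def.1 k.2) r.isLt⟩, Fin.le_def.2 (Fin.le_def.1 k.2)⟩
      left_inv := fun t => by ext; simp
      right_inv := fun k => by ext; simp }
  let e2 : {t : Fin d // ¬ t < r} ≃ {k : Fin (d + 1) // ¬ k ≤ r.castSucc} :=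
    { toFun := fun t => ⟨t.1.succ, by
        have := t.2; simp only [Fin.le_def, Fin.lt_def, Fin.val_succ, Fin.val_castSucc] at this ⊢; omega⟩
      invFun := fun k => ⟨⟨k.1.val - 1, by
        have := k.2; simp only [Fin.le_def, Fin.val_castSucc] at this; omega⟩, by
        have := k.2; simp only [Fin.le_def, Fin.lt_def, Fin.val_castSucc] at this ⊢; omega⟩
      left_inv := fun t => by ext; simp
      right_inv := fun k => by
        have := k.2; simp only [Fin.le_def, Fin.val_castSucc] at this; ext; simp; omega }
  let ρ1 : Equiv.Perm (Fin d) := Equiv.Perm.ofSubtype (e1.symm.permCongr π1)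
  let ρ2 : Equiv.Perm (Fin d) := Equiv.Perm.ofSubtype (e2.symm.permCongr π2)
  have h1 : permI mr ci r (τ * π) = permI mr ci r τ ∘ ρ1 := by
    funext t
    by_cases h : t ≤ r
    · have he : ρ1 t = (e1.symm.permCongr π1 ⟨t, h⟩).1 :=
        Equiv.Perm.ofSubtype_apply_of_mem (p := fun t => t ≤ r) _ h
      have hmem : ρ1 t ≤ r := by
        rw [he]; exact (e1.symm.permCongr π1 ⟨t, h⟩).2
      simp only [permI, h, if_true, Function.comp_apply, hmem, Equiv.Perm.mul_apply]
      congr 2
      rw [he]
      ext; simp [e1, π1, Equiv.permCongr_apply]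
    · have : ρ1 t = t := Equiv.Perm.ofSubtype_apply_of_not_mem _ h
      simp [permI, h, this]
  have h2 : permJ mr cj r (τ * π) = permJ mr cj r τ ∘ ρ2 := by
    funext t
    by_cases h : t < r
    · have : ρ2 t = t := Equiv.Perm.ofSubtype_apply_of_not_mem _ (not_not.2 h)
      simp [permJ, h, this]
    · have he : ρ2 t = (e2.symm.permCongr π2 ⟨t, h⟩).1 :=
        Equiv.Perm.ofSubtype_apply_of_mem (p := fun t => ¬ t < r) _ h
      have hmem : ¬ ρ2 t < r := by
        rw [he]; exact (e2.symm.permCongr π2 ⟨t, h⟩).2
      simp only [permJ, h, if_false, Function.comp_apply, hmem, Equiv.Perm.mul_apply]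
      congr 2
      have hk : ¬ π t.succ ≤ r.castSucc := (π2 (e2 ⟨t, h⟩)).2
      rw [he]
      ext; simp [e2, π2, Equiv.permCongr_apply]
      simp only [Fin.le_def, Fin.val_castSucc] at hk; omega
  have hs : π.sign = ρ1.sign * ρ2.sign := by
    conv_lhs => rw [hdec]
    simp [ρ1, ρ2]
  rw [h1, h2, minor_perm, minor_perm, hs]
  push_cast
  ring

/-- The sum over shuffles, before dividing out the block symmetries (integer coefficients). -/
theorem sum_shuffle_eq_zero :
    ∑ A : Finset (Fin (d + 1)), (if hA : A.card = r.val + 1 then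
      (((shufflePerm r A hA).sign : ℤ) : MatRing ℤ d n) *
        (minor ℤ d n (permI mr ci r (shufflePerm r A hA)) *
          minor ℤ d n (permJ mr cj r (shufflePerm r A hA))) else 0) = 0 := by
  classical
  let F : Equiv.Perm (Fin (d + 1)) → MatRing ℤ d n := fun σ => ((σ.sign : ℤ) : MatRing ℤ d n) *
      (minor ℤ d n (permI mr ci r σ) * minor ℤ d n (permJ mr cj r σ))
  have hF : ∑ σ, F σ = 0 := sum_perm_eq_zero ℤ mr ci cj r
  let S0 := univ.filter (fun π : Equiv.Perm (Fin (d + 1)) => blockSet r π = Iic r.castSucc)
  have hS0 : ∀ π ∈ S0, ∀ k, k ≤ r.castSucc ↔ π k ≤ r.castSucc := by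
    intro π hπ k
    have h := (mem_filter.1 hπ).2
    have := congrArg (π k ∈ ·) h
    simpa [blockSet, π.injective.eq_iff] using this
  have hfib : ∀ (A : Finset (Fin (d + 1))) (hA : A.card = r.val + 1),
      ∑ σ ∈ univ.filter (fun σ => blockSet r σ = A), F σ = S0.card • F (shufflePerm r A hA) := by
    intro A hA
    have : univ.filter (fun σ => blockSet r σ = A) = S0.map
        ⟨fun π => shufflePerm r A hA * π, mul_right_injective _⟩ := by
      ext σ
      simp only [mem_filter, mem_univ, true_and, mem_map, Function.Embedding.coeFn_mk, S0]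
      constructor
      · intro h
        refine ⟨(shufflePerm r A hA)⁻¹ * σ, ?_, by group⟩
        apply Finset.image_injective (shufflePerm r A hA).injective
        change _ = blockSet r (shufflePerm r A hA)
        rw [blockSet_shufflePerm, blockSet, image_image]
        refine Eq.trans ?_ h
        rw [blockSet]
        congr 1
        funext k
        simp
      · rintro ⟨π, hπ, rfl⟩
        conv_rhs => rw [← blockSet_shufflePerm r A hA, blockSet, ← hπ, blockSet, image_image]
        rw [blockSet]
        rfl
    rw [this, sum_map]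
    refine (sum_congr rfl fun π hπ => ?_).trans (sum_const _)
    show F (shufflePerm r A hA * π) = F (shufflePerm r A hA)
    simp only [F, Equiv.Perm.sign_mul, block_perm_term ℤ mr ci cj r _ π (hS0 π hπ)]
    have : ((π.sign : ℤ) : MatRing ℤ d n) * ((π.sign : ℤ) : MatRing ℤ d n) = 1 := by
      rw [← Int.cast_mul]; simp
    push_cast
    linear_combination ((((shufflePerm r A hA).sign : ℤ) : MatRing ℤ d n) *
        (minor ℤ d n (permI mr ci r (shufflePerm r A hA)) *
          minor ℤ d n (permJ mr cj r (shufflePerm r A hA)))) * this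
  rw [← sum_fiberwise univ (blockSet r) F] at hF
  have hzero : ∀ A : Finset (Fin (d + 1)), ¬ A.card = r.val + 1 →
      univ.filter (fun σ => blockSet r σ = A) = ∅ := by
    intro A hA
    rw [filter_eq_empty_iff]
    intro σ _ h
    exact hA (h ▸ card_blockSet r σ)
  have hcard : S0.card ≠ 0 := by
    refine Finset.card_ne_zero.2 ⟨1, mem_filter.2 ⟨mem_univ _, ?_⟩⟩
    simp [blockSet]
  have : S0.card • (∑ A : Finset (Fin (d + 1)),
      if hA : A.card = r.val + 1 then F (shufflePerm r A hA) else 0) = 0 := by
    rw [smul_sum]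
    refine (sum_congr rfl fun A _ => ?_).trans hF
    by_cases hA : A.card = r.val + 1
    · rw [dif_pos hA, hfib A hA]
    · rw [dif_neg hA, hzero A hA]; simp
  exact (smul_eq_zero.1 this).resolve_left hcard

end Shuffle

theorem map_minor {S : Type u} [CommRing S] {L : Type*} [CommRing L] (f : L →+* S) (a : Fin d → Fin n) :
    MvPolynomial.map f (Matrix.det (Matrix.of fun s t : Fin d => (X (a s, t) : MvPolynomial (Fin n × Fin d) L)))
      = minor S d n a := by
  rw [RingHom.map_det]
  unfold minor
  congr 1
  ext s t
  simp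

/-- The shuffle relations vanish on the minors. -/
theorem pluckerMap_shuffleRel (i j : Idx d n) (r : Fin d) :
    pluckerMap K d n (shuffleRel K i j r) = 0 := by
  classical
  have h := congrArg (MvPolynomial.map (Int.castRingHom K))
    (sum_shuffle_eq_zero (movingRows i j r) i.1 j.1 r)
  rw [map_sum, map_zero] at h
  rw [shuffleRel, map_sum]
  refine (sum_congr rfl fun A _ => ?_).trans h
  unfold shuffleTerm
  by_cases hA : A.card = r.val + 1
  · rw [dif_pos hA, dif_pos hA]
    simp only [map_mul, map_pow, map_neg, map_one, pluckerMap_coord, map_intCast,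
      sign_shufflePerm]
    have e1 : shuffleI i j r A hA = permI (movingRows i j r) i.1 r (shufflePerm r A hA) := by
      funext t
      simp only [shuffleI, permI, Fin.le_def]
      by_cases ht : t.val ≤ r.val
      · simp only [ht, dif_pos, if_true]
        congr 1
        simp [shufflePerm, shuffleFun, ht]
      · simp [ht]
    have e2 : shuffleJ i j r A hA = permJ (movingRows i j r) j.1 r (shufflePerm r A hA) := by
      funext t
      simp only [shuffleJ, permJ, Fin.lt_def]
      by_cases ht : t.val < r.val
      · simp [ht]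
      · have : ¬ t.val + 1 ≤ r.val := by omega
        simp only [ht, dif_neg, if_false, not_false_eq_true]
        congr 1
        simp [shufflePerm, shuffleFun, this]
    rw [e1, e2]
    unfold W4bk4grassmannian.minor
    rw [map_minor, map_minor]
    unfold W4bk4grassmannian.minor
    simp [mul_assoc]
  · rw [dif_neg hA, dif_neg hA]; simp

end GrothLib.SMT
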