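import Groth.Agent.Lib.SMT.Shuffle
import Mathlib.Data.Multiset.Basic
import Mathlib.Data.Multiset.Bind
import Mathlib.LinearAlgebra.Span.Basic

/-!
# Straightening modulo the shuffle relations

Monomials in the Plücker variables are indexed by multisets of indices (`mon`); `IsStd s` says
that the multiset is a chain.  `mon_mem_span_std`: modulo `plIdealTop` every monomial is a
`K`-combination of standard monomials with the same degree and row content, each either the
monomial itself or strictly more spread out (`spread`).
-/

universe u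

noncomputable section

open MvPolynomial W4bk4grassmannian Finset

namespace GrothLib.SMT

variable (K : Type u) [CommRing K] {d n : ℕ}

/-- The Plücker monomial of a multiset of indices. -/
def mon (s : Multiset (Idx d n)) : PlRing K d n := (s.map X).prod

@[simp] theorem mon_zero : mon K (0 : Multiset (Idx d n)) = 1 := by simp [mon]

@[simp] theorem mon_cons (θ : Idx d n) (s : Multiset (Idx d n)) :
    mon K (θ ::ₘ s) = X θ * mon K s := by simp [mon]

theorem mon_add (s t : Multiset (Idx d n)) : mon K (s + t) = mon K s * mon K t := by simp [mon]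

theorem mon_singleton (θ : Idx d n) : mon K {θ} = X θ := by simp [mon]

theorem monomial_eq_mon (v : Idx d n →₀ ℕ) :
    (monomial v (1 : K) : PlRing K d n) = mon K (Finsupp.toMultiset v) := by
  induction v using Finsupp.induction with
  | zero => simp
  | single_add a b f _ _ ih =>
    rw [monomial_single_add, map_add, mon_add, ← ih]
    congr 1
    simp [mon, Multiset.map_nsmul, Multiset.prod_nsmul]

theorem chainMon_eq_mon {m : ℕ} (c : Fin m → Idx d n) :
    chainMon K c = mon K (univ.val.map c) := by
  simp only [chainMon, mon, Finset.prod, Multiset.map_map, Function.comp_def]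

/-- A multiset of indices is standard when it is a chain. -/
def IsStd (s : Multiset (Idx d n)) : Prop := ∀ a ∈ s, ∀ b ∈ s, a ≤ b ∨ b ≤ a

/-- Sum of the entries of an index. -/
def sumVal (θ : Idx d n) : ℕ := ∑ t, (θ.1 t).val

/-- The multiset of rows used by an index. -/
def rowsOf (θ : Idx d n) : Multiset (Fin n) := ∑ t, {θ.1 t}

/-- Row content of a monomial. -/
def content (s : Multiset (Idx d n)) : Multiset (Fin n) := (s.map rowsOf).sum

/-- The spread of a monomial. -/
def spread (s : Multiset (Idx d n)) : ℕ := (s.map fun θ => sumVal θ ^ 2).sum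

theorem strictMono_val_le {m l : ℕ} {f : Fin m → Fin l} (hf : StrictMono f) (a : Fin m) :
    a.val ≤ (f a).val := by
  have h : (Iio a).image f ⊆ Iio (f a) := by
    intro y hy
    simp only [mem_image, mem_Iio] at hy ⊢
    obtain ⟨x, hx, rfl⟩ := hy
    exact hf hx
  simpa [card_image_of_injective _ hf.injective, Fin.card_Iio] using card_le_card h

theorem sumVal_le (θ : Idx d n) : sumVal θ ≤ d * n := by
  have : ∀ t ∈ (univ : Finset (Fin d)), (θ.1 t).val ≤ n := fun t _ => (θ.1 t).isLt.le
  simpa [sumVal] using sum_le_card_nsmul univ _ n this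

theorem spread_le (s : Multiset (Idx d n)) : spread s ≤ s.card * (d * n) ^ 2 := by
  unfold spread
  induction s using Multiset.induction with
  | empty => simp
  | cons a s ih =>
    simp only [Multiset.map_cons, Multiset.sum_cons, Multiset.card_cons]
    have := Nat.pow_le_pow_left (sumVal_le a) 2
    linarith

section Pair

variable (i j : Idx d n) (r : Fin d)

theorem movingRows_strictMono (h : i.1 r < j.1 r) : StrictMono (movingRows i j r) := by
  intro x y hxy
  unfold movingRows
  have hxy' : x.val < y.val := hxy
  split_ifs with h1 h2 h2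
  · exact i.2 (by exact hxy')
  · refine lt_of_le_of_lt (i.2.monotone (show (⟨x.val, _⟩ : Fin d) ≤ r from h1)) (h.trans_le ?_)
    exact j.2.monotone (by show r.val ≤ y.val - 1; omega)
  · omega
  · exact j.2 (by show x.val - 1 < y.val - 1; omega)

theorem permI_one : permI (movingRows i j r) i.1 r 1 = i.1 := by
  funext t
  simp only [permI, Equiv.Perm.one_apply]
  split_ifs with h
  · simp [movingRows, h]
  · rfl

theorem permJ_one : permJ (movingRows i j r) j.1 r 1 = j.1 := by
  funext t
  simp only [permJ, Equiv.Perm.one_apply]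
  split_ifs with h
  · rfl
  · have : ¬ t.val + 1 ≤ r.val := by omega
    simp [movingRows, this]

theorem sum_split {R : Type*} [AddCommMonoid R] (g : Fin (d + 1) → R) :
    ∑ k, g k = (∑ t : Fin d, if t ≤ r then g t.castSucc else 0) +
      ∑ t : Fin d, if t < r then 0 else g t.succ := by
  have h := prod_split r (fun k => Multiplicative.ofAdd (g k))
  have := congrArg Multiplicative.toAdd h
  simpa [toAdd_prod, apply_ite Multiplicative.toAdd] using this

theorem sum_perm_pair {R : Type*} [AddCommMonoid R] (mr : Fin (d + 1) → Fin n)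
    (ci cj : Fin d → Fin n) (g : Fin n → R) (σ : Equiv.Perm (Fin (d + 1))) :
    (∑ t, g (permI mr ci r σ t)) + ∑ t, g (permJ mr cj r σ t) =
      (∑ k, g (mr k)) + ((∑ t, if t ≤ r then 0 else g (ci t)) + ∑ t, if t < r then g (cj t) else 0) := by
  have e1 : ∀ t, g (permI mr ci r σ t) =
      (if t ≤ r then g (mr (σ t.castSucc)) else 0) + (if t ≤ r then 0 else g (ci t)) := by
    intro t; by_cases h : t ≤ r <;> simp [permI, h]
  have e2 : ∀ t, g (permJ mr cj r σ t) =
      (if t < r then 0 else g (mr (σ t.succ))) + (if t < r then g (cj t) else 0) := by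
    intro t; by_cases h : t < r <;> simp [permJ, h]
  rw [← Equiv.sum_comp σ (fun k => g (mr k)), sum_split r (fun k => g (mr (σ k))),
    sum_congr rfl fun t _ => e1 t, sum_congr rfl fun t _ => e2 t, sum_add_distrib, sum_add_distrib]
  abel

theorem sum_permI_lt (h : i.1 r < j.1 r) (A : Finset (Fin (d + 1))) (hA : A.card = r.val + 1)
    (hne : A ≠ Iic r.castSucc) :
    sumVal i < ∑ t, (permI (movingRows i j r) i.1 r (shufflePerm r A hA) t).val := by
  unfold sumVal
  have hle : ∀ t : Fin d, t ≤ r → t.val ≤ (shufflePerm r A hA t.castSucc).val := by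
    intro t ht
    have htv : t.val ≤ r.val := ht
    show _ ≤ (shuffleFun r A hA t.castSucc).val
    simp only [shuffleFun, Fin.val_castSucc, htv, dif_pos]
    exact strictMono_val_le (A.orderEmbOfFin hA).strictMono ⟨t.val, by omega⟩
  have hi : ∀ t : Fin d, t ≤ r → i.1 t = movingRows i j r t.castSucc := by
    intro t ht
    have htv : t.val ≤ r.val := ht
    simp [movingRows, htv]
  refine sum_lt_sum (fun t _ => ?_) ?_
  · simp only [permI]
    split_ifs with ht
    · rw [hi t ht]
      exact (movingRows_strictMono i j r h).monotone (Fin.le_def.2 (by simpa using hle t ht))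
    · exact le_rfl
  · by_contra hcon
    push Not at hcon
    apply hne
    refine (eq_of_subset_of_card_le ?_ (by simp [hA])).symm
    intro k hk
    have hkr : k.val ≤ r.val := by simpa [Fin.le_def] using hk
    let t : Fin d := ⟨k.val, lt_of_le_of_lt hkr r.isLt⟩
    have ht : t ≤ r := hkr
    have hkt : t.castSucc = k := rfl
    have h1 := hcon t (mem_univ _)
    simp only [permI, ht, if_true, hkt] at h1
    rw [hi t ht, hkt] at h1
    have h2 : k ≤ shufflePerm r A hA k := by
      have := hle t ht
      rw [hkt] at this
      exact this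
    rcases h2.lt_or_eq with h3 | h3
    · exact absurd (Fin.lt_def.1 (movingRows_strictMono i j r h h3)) (not_lt.2 h1)
    · rw [h3]
      exact (shuffleFun_mem_iff r A hA k).2 hkr

end Pair

theorem sortIdx_self (θ : Idx d n) (h : (univ.image θ.1).card = d) : sortIdx d n θ.1 h = θ :=
  Subtype.ext (orderEmbOfFin_unique h (fun t => mem_image_of_mem _ (mem_univ t)) θ.2).symm

theorem coord_self (θ : Idx d n) : coord K d n θ.1 = X θ := by
  have h := (card_image_eq_iff θ.1).2 θ.2.injective
  rw [coord, dif_pos h, sortIdx_self]
  have : invCount d n θ.1 = 0 := by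
    rw [invCount, card_eq_zero, filter_eq_empty_iff]
    exact fun p _ hp => lt_asymm (θ.2 hp.1) hp.2
  simp [this]

theorem sum_sortIdx {R : Type*} [AddCommMonoid R] (a : Fin d → Fin n)
    (h : (univ.image a).card = d) (g : Fin n → R) :
    ∑ t, g ((sortIdx d n a h).1 t) = ∑ t, g (a t) := by
  obtain ⟨σ, hσ, -⟩ := exists_sort_perm a h
  rw [← Equiv.sum_comp σ]
  exact sum_congr rfl fun t _ => congrArg g (congrFun hσ t)

theorem shuffleTerm_Iic (i j : Idx d n) (r : Fin d) :
    shuffleTerm K i j r (Iic r.castSucc) = X i * X j := by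
  have hA : (Iic r.castSucc).card = r.val + 1 := by simp
  have hperm : shufflePerm r (Iic r.castSucc) hA = 1 := by
    refine Equiv.ext fun k => ?_
    show shuffleFun r _ hA k = k
    unfold shuffleFun
    split_ifs with hk
    · have := orderEmbOfFin_unique hA (f := fun a : Fin (r.val + 1) => (⟨a.val, by omega⟩ : Fin (d + 1)))
        (fun a => by simp only [mem_Iic, Fin.le_def, Fin.val_castSucc]; omega) (fun a b hab => hab)
      rw [← this]
    · have := orderEmbOfFin_unique (card_compl_of r (Iic r.castSucc) hA)
        (f := fun a : Fin (d - r.val) => (⟨a.val + (r.val + 1), by omega⟩ : Fin (d + 1)))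
        (fun a => by simp only [mem_compl, mem_Iic, Fin.le_def, Fin.val_castSucc]; omega)
        (fun a b hab => by
          show a.val + (r.val + 1) < b.val + (r.val + 1)
          have : a.val < b.val := hab
          omega)
      rw [← this]
      ext; simp; omega
  have e1 : shuffleI i j r _ hA = i.1 := by
    conv_rhs => rw [← permI_one i j r, ← hperm]
    funext t
    simp only [shuffleI, permI, Fin.le_def]
    by_cases ht : t.val ≤ r.val
    · simp only [ht, dif_pos, if_true]; congr 1; simp [shufflePerm, shuffleFun, ht]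
    · simp [ht]
  have e2 : shuffleJ i j r _ hA = j.1 := by
    conv_rhs => rw [← permJ_one i j r, ← hperm]
    funext t
    simp only [shuffleJ, permJ, Fin.lt_def]
    by_cases ht : t.val < r.val
    · simp [ht]
    · have : ¬ t.val + 1 ≤ r.val := by omega
      simp only [ht, dif_neg, if_false, not_false_eq_true]
      congr 1
      simp [shufflePerm, shuffleFun, this]
  have hs : shuffleSign r (Iic r.castSucc) = 0 := by
    have h := sign_shufflePerm r _ hA
    have hsum : (Iic r.castSucc).sum (fun a => a.val) = r.val * (r.val + 1) / 2 := by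
      have : (Iic r.castSucc).map Fin.valEmbedding = range (r.val + 1) := by
        ext k
        simp only [mem_map, mem_Iic, Fin.valEmbedding_apply, mem_range, Fin.le_def, Fin.val_castSucc]
        exact ⟨fun ⟨a, ha, hk⟩ => by omega, fun hk => ⟨⟨k, by omega⟩, by simp; omega, rfl⟩⟩
      have h2 := congrArg (fun s : Finset ℕ => s.sum id) this
      simp only [sum_map, Fin.valEmbedding_apply, id] at h2
      rw [h2, sum_range_id, Nat.add_sub_cancel, Nat.mul_comm]
    rw [shuffleSign, hsum, Nat.sub_self]
  rw [shuffleTerm, dif_pos hA, e1, e2, coord_self, coord_self, hs]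
  simp

/-- One straightening step for an incomparable pair. -/
theorem pair_step {τ φ : Idx d n} (h1 : ¬ τ ≤ φ) (h2 : ¬ φ ≤ τ) :
    X τ * X φ ∈ (plIdealTop (d := d) (n := n) K).restrictScalars K ⊔ Submodule.span K
      {f | ∃ t : Multiset (Idx d n), t.card = 2 ∧ content t = content (τ ::ₘ φ ::ₘ 0) ∧
        spread (τ ::ₘ φ ::ₘ 0) < spread t ∧ f = mon K t} := by
  classical
  wlog hsum : sumVal φ ≤ sumVal τ generalizing τ φ with H
  · have := H h2 h1 (le_of_not_ge hsum)
    rw [mul_comm]
    rwa [Multiset.cons_swap]
  have hex : ∃ r : Fin d, τ.1 r < φ.1 r := by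
    by_contra hc
    push Not at hc
    exact h2 (fun t => hc t)
  obtain ⟨r, hr, hmin⟩ := Finset.exists_min_image
    (univ.filter fun r : Fin d => τ.1 r < φ.1 r) id
    ⟨hex.choose, mem_filter.2 ⟨mem_univ _, hex.choose_spec⟩⟩
  replace hr : τ.1 r < φ.1 r := (mem_filter.1 hr).2
  have hpiv : IsPivot τ φ r := ⟨fun t ht => by
    by_contra hc
    have := hmin t (mem_filter.2 ⟨mem_univ _, lt_of_not_ge hc⟩)
    exact absurd ht (not_lt.2 this), hr⟩
  have hrel : shuffleRel K τ φ r ∈ plIdealTop (d := d) (n := n) K :=
    Ideal.subset_span ⟨τ, φ, r, hpiv, rfl⟩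
  have hsplit : X τ * X φ = shuffleRel K τ φ r -
      ∑ A ∈ univ.erase (Iic r.castSucc), shuffleTerm K τ φ r A := by
    rw [shuffleRel, ← add_sum_erase univ _ (mem_univ (Iic r.castSucc)), shuffleTerm_Iic]
    ring
  rw [hsplit]
  refine Submodule.sub_mem _ (Submodule.mem_sup_left hrel) (Submodule.mem_sup_right ?_)
  refine Submodule.sum_mem _ fun A hA => ?_
  have hne : A ≠ Iic r.castSucc := (mem_erase.1 hA).1
  unfold shuffleTerm
  split_ifs with hcard
  swap; · exact Submodule.zero_mem _
  set a := shuffleI τ φ r A hcard
  set b := shuffleJ τ φ r A hcard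
  unfold coord
  split_ifs with ha hb
  rotate_left
  · simp
  · simp
  · simp
  set α := sortIdx d n a ha
  set β := sortIdx d n b hb
  have key : ∀ {R : Type} [AddCommMonoid R] (g : Fin n → R),
      (∑ t, g (α.1 t)) + ∑ t, g (β.1 t) = (∑ t, g (τ.1 t)) + ∑ t, g (φ.1 t) := by
    intro R _ g
    have e1 : a = permI (movingRows τ φ r) τ.1 r (shufflePerm r A hcard) := by
      funext t
      simp only [a, shuffleI, permI, Fin.le_def]
      by_cases ht : t.val ≤ r.val
      · simp only [ht, dif_pos, if_true]; congr 1; simp [shufflePerm, shuffleFun, ht]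
      · simp [ht]
    have e2 : b = permJ (movingRows τ φ r) φ.1 r (shufflePerm r A hcard) := by
      funext t
      simp only [b, shuffleJ, permJ, Fin.lt_def]
      by_cases ht : t.val < r.val
      · simp [ht]
      · have : ¬ t.val + 1 ≤ r.val := by omega
        simp only [ht, dif_neg, if_false, not_false_eq_true]
        congr 1
        simp [shufflePerm, shuffleFun, this]
    simp only [α, β]
    rw [sum_sortIdx, sum_sortIdx, e1, e2, sum_perm_pair]
    conv_rhs => rw [← permI_one τ φ r, ← permJ_one τ φ r, sum_perm_pair]
  have hlt : sumVal τ < sumVal α := by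
    have := sum_permI_lt τ φ r hr A hcard hne
    refine this.trans_eq ?_
    simp only [sumVal, α]
    rw [sum_sortIdx a ha (fun x : Fin n => x.val)]
    refine sum_congr rfl fun t _ => ?_
    simp only [a, shuffleI, permI, Fin.le_def]
    by_cases ht : t.val ≤ r.val
    · simp only [ht, dif_pos, if_true]; congr 2; simp [shufflePerm, shuffleFun, ht]
    · simp [ht]
  have hval : sumVal α + sumVal β = sumVal τ + sumVal φ := key (fun x : Fin n => x.val)
  have hmem : mon K (α ::ₘ β ::ₘ 0) ∈ Submodule.span K
      {f | ∃ t : Multiset (Idx d n), t.card = 2 ∧ content t = content (τ ::ₘ φ ::ₘ 0) ∧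
        spread (τ ::ₘ φ ::ₘ 0) < spread t ∧ f = mon K t} := by
    refine Submodule.subset_span ⟨α ::ₘ β ::ₘ 0, by simp, ?_, ?_, rfl⟩
    · simpa [content, rowsOf] using key (fun x : Fin n => ({x} : Multiset (Fin n)))
    · simp only [spread, Multiset.map_cons, Multiset.map_zero, Multiset.sum_cons,
        Multiset.sum_zero, add_zero]
      have hA2 : (sumVal α : ℤ) + sumVal β = sumVal τ + sumVal φ := by exact_mod_cast hval
      have h4 : (sumVal φ : ℤ) ≤ sumVal τ := by exact_mod_cast hsum
      have h5 : (sumVal τ : ℤ) < sumVal α := by exact_mod_cast hlt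
      zify
      nlinarith [mul_pos (sub_pos.2 h5) (show (0 : ℤ) < (sumVal α : ℤ) - sumVal φ by linarith)]
  simp only [mon_cons, mon_zero, mul_one] at hmem
  have hpow : ∀ (m : ℕ) (x : PlRing K d n), (-1 : PlRing K d n) ^ m * x = ((-1 : K) ^ m) • x := by
    intro m x; simp [Algebra.smul_def]
  rw [show (-1 : PlRing K d n) ^ shuffleSign r A * ((-1) ^ invCount d n a * X α) *
      ((-1) ^ invCount d n b * X β) =
    (-1) ^ (shuffleSign r A + invCount d n a + invCount d n b) * (X α * X β) by ring, hpow]
  exact Submodule.smul_mem _ _ hmem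

/-- The monomials allowed in the straightening of `s`. -/
def stdSet (s : Multiset (Idx d n)) : Set (PlRing K d n) :=
  {f | ∃ t : Multiset (Idx d n), IsStd t ∧ t.card = s.card ∧ content t = content s ∧
    (t = s ∨ spread s < spread t) ∧ f = mon K t}

/-- Straightening. -/
theorem mon_mem_span_std (s : Multiset (Idx d n)) :
    mon K s ∈ (plIdealTop (d := d) (n := n) K).restrictScalars K ⊔ Submodule.span K (stdSet K s) := by
  generalize hN : s.card * (d * n) ^ 2 - spread s = N
  induction N using Nat.strong_induction_on generalizing s with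
  | _ N ih =>
    classical
    by_cases hs : IsStd s
    · exact Submodule.mem_sup_right (Submodule.subset_span ⟨s, hs, rfl, rfl, Or.inl rfl, rfl⟩)
    · simp only [IsStd, not_forall, not_or] at hs
      obtain ⟨τ, hτ, φ, hφ, h1, h2⟩ := hs
      obtain ⟨s', rfl⟩ := Multiset.exists_cons_of_mem hτ
      rw [Multiset.mem_cons] at hφ
      rcases hφ with rfl | hφ
      · exact absurd le_rfl h1
      obtain ⟨s'', rfl⟩ := Multiset.exists_cons_of_mem hφ
      obtain ⟨p, hp, q, hq, hpq⟩ := Submodule.mem_sup.1 (pair_step K h1 h2)
      have : mon K (τ ::ₘ φ ::ₘ s'') = p * mon K s'' + q * mon K s'' := by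
        rw [← add_mul, hpq, mon_cons, mon_cons, mul_assoc]
      rw [this]
      refine Submodule.add_mem _ (Submodule.mem_sup_left (Ideal.mul_mem_right _ _ hp)) ?_
      clear this hpq
      induction hq using Submodule.span_induction with
      | zero => simp
      | add x y _ _ hx hy => rw [add_mul]; exact Submodule.add_mem _ hx hy
      | smul c x _ hx => rw [smul_mul_assoc]; exact Submodule.smul_mem _ _ hx
      | mem x hx =>
        obtain ⟨t, ht1, ht2, ht3, rfl⟩ := hx
        rw [← mon_add]
        have hc : (t + s'').card = (τ ::ₘ φ ::ₘ s'').card := by simp [ht1]; omega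
        have hco : content (t + s'') = content (τ ::ₘ φ ::ₘ s'') := by
          simp [content] at ht2 ⊢
          rw [ht2, add_assoc]
        have hsp : spread (τ ::ₘ φ ::ₘ s'') < spread (t + s'') := by
          simp [spread] at ht3 ⊢
          omega
        have hb := spread_le (t + s'')
        have := ih _ (by rw [← hN, hc]; rw [hc] at hb; omega) (t + s'') rfl
        refine (sup_le_sup_left (Submodule.span_mono (R := K) ?_) ((plIdealTop (d := d) (n := n) K).restrictScalars K)) this
        rintro f ⟨u, hu1, hu2, hu3, hu4, rfl⟩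
        refine ⟨u, hu1, hu2.trans hc, hu3.trans hco, Or.inr ?_, rfl⟩
        rcases hu4 with rfl | hu4
        · exact hsp
        · exact hsp.trans hu4

end GrothLib.SMT
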