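import Groth.Agent.Lib.SMT.Free
import Groth.Agent.Lib.SMT.DetCell
import Mathlib.RingTheory.UniqueFactorizationDomain.Basic
import Mathlib.RingTheory.Polynomial.UniqueFactorization
import Mathlib.Algebra.MvPolynomial.Division
import Mathlib.RingTheory.Ideal.Maps
import Mathlib.Algebra.MvPolynomial.Nilpotent

/-!
# Factorial Schubert varieties
-/

universe u

noncomputable section

open MvPolynomial W4bk4grassmannian Finset

namespace GrothLib.SMT

/-- Nagata's criterion, relative to a factorial ring agreeing with `R` away from a prime element. -/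
theorem ufd_of_prime_of_localEquiv {R S : Type*} [CommRing R] [IsDomain R] [IsNoetherianRing R]
    [CommRing S] [IsDomain S] [UniqueFactorizationMonoid S] (φ : R →+* S) (hφ : Function.Injective φ)
    (x : R) (hx : Prime x) (hs : Prime (φ x)) (hsurj : ∀ f : S, ∃ N : ℕ, ∃ r, φ r = φ x ^ N * f)
    (hunit : ∀ f : S, IsUnit f → ∃ u : R, IsUnit u ∧ φ u = f) :
    UniqueFactorizationMonoid R := by
  classical
  suffices h : ∀ p : R, Irreducible p → Prime p from
    { irreducible_iff_prime := ⟨h _, Prime.irreducible⟩ }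
  intro p hp
  by_cases hxp : x ∣ p
  · exact (hx.irreducible.associated_of_dvd hp hxp).prime hx
  have hp0 : φ p ≠ 0 := (map_ne_zero_iff φ hφ).2 hp.ne_zero
  obtain ⟨q, hq, hqp, hqs⟩ : ∃ q, Prime q ∧ q ∣ φ p ∧ ¬ Associated q (φ x) := by
    by_contra hc
    push Not at hc
    obtain ⟨f, hf, hprod⟩ := UniqueFactorizationMonoid.exists_prime_factors (φ p) hp0
    have hall : ∀ q ∈ f, Associated q (φ x) := fun q hq =>
      hc q (hf q hq) ((Multiset.dvd_prod hq).trans hprod.dvd)
    have h1 : Associated f.prod (φ x ^ f.card) := by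
      clear hprod hc hf
      induction f using Multiset.induction with
      | empty => simp
      | cons a f ih =>
        rw [Multiset.prod_cons, Multiset.card_cons, pow_succ']
        exact (hall a (Multiset.mem_cons_self _ _)).mul_mul
          (ih fun q hq => hall q (Multiset.mem_cons_of_mem hq))
    obtain ⟨u, hu⟩ := h1.symm.trans hprod
    obtain ⟨v, hv, hvu⟩ := hunit u u.isUnit
    have h2 : x ^ f.card * v = p := hφ (by rw [map_mul, map_pow, hvu, hu])
    rcases Nat.eq_zero_or_pos f.card with h0 | h0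
    · rw [h0, pow_zero, one_mul] at h2
      exact hp.not_isUnit (h2 ▸ hv)
    · exact hxp (h2 ▸ Dvd.dvd.mul_right (dvd_pow_self x (Nat.ne_of_gt h0)) v)
  have hN := hsurj q
  set N := Nat.find hN
  obtain ⟨r, hr⟩ := Nat.find_spec hN
  have hxr : ¬ x ∣ r := by
    rintro ⟨r', rfl⟩
    rw [map_mul] at hr
    rcases Nat.eq_zero_or_pos N with h0 | h0
    · rw [show Nat.find hN = 0 from h0, pow_zero, one_mul] at hr
      exact hqs (hs.associated_of_dvd hq ⟨_, hr.symm⟩).symm
    · refine Nat.find_min hN (show N - 1 < N by omega) ⟨r', mul_left_cancel₀ hs.ne_zero ?_⟩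
      rw [hr, ← mul_assoc, ← pow_succ']
      congr 2
      omega
  have hrprime : Prime r := by
    refine ⟨fun e => ?_, fun hu => ?_, fun a b hab => ?_⟩
    · rw [e, map_zero] at hr
      exact mul_ne_zero (pow_ne_zero _ hs.ne_zero) hq.ne_zero hr.symm
    · exact hq.not_unit (isUnit_of_dvd_unit (Dvd.intro_left _ hr.symm) (hu.map φ))
    · have key : ∀ c : R, q ∣ φ c → r ∣ c := by
        rintro c ⟨e, he⟩
        obtain ⟨M, e', he'⟩ := hsurj e
        have h1 : x ^ (N + M) * c = r * e' := hφ (by
          rw [map_mul, map_mul, map_pow, hr, he', he, pow_add]; ring)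
        have h2 : x ^ (N + M) ∣ e' :=
          hx.pow_dvd_of_dvd_mul_left _ hxr (Dvd.intro _ h1)
        obtain ⟨e'', rfl⟩ := h2
        exact ⟨e'', mul_left_cancel₀ (pow_ne_zero (N + M) hx.ne_zero) (by rw [h1]; ring)⟩
      obtain ⟨g, hg⟩ := hab
      have h1 : q ∣ φ a * φ b := by
        rw [← map_mul, hg, map_mul, hr]
        exact Dvd.dvd.mul_right (dvd_mul_left q _) _
      exact (hq.dvd_or_dvd h1).imp (key a) (key b)
  obtain ⟨e, he⟩ := hqp
  obtain ⟨M, e', he'⟩ := hsurj e
  have h1 : x ^ (N + M) * p = r * e' := hφ (by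
    rw [map_mul, map_mul, map_pow, hr, he', he, pow_add]; ring)
  have h2 : x ^ (N + M) ∣ e' := hx.pow_dvd_of_dvd_mul_left _ hxr (Dvd.intro _ h1)
  obtain ⟨e'', rfl⟩ := h2
  have h3 : r ∣ p := ⟨e'', mul_left_cancel₀ (pow_ne_zero (N + M) hx.ne_zero) (by rw [h1]; ring)⟩
  obtain ⟨c, hc⟩ := h3
  have hcu := (hp.isUnit_or_isUnit hc).resolve_left hrprime.not_isUnit
  exact (show Associated r p from ⟨hcu.unit, hc.symm⟩).prime hrprime

section Combinatorics

variable {d n : ℕ} {τ φ : Idx d n}

theorem exists_of_mem_divisors (h : φ ∈ divisors τ) :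
    ∃ t, (φ.1 t).val + 1 = (τ.1 t).val ∧ ∀ s ≠ t, φ.1 s = τ.1 s := by
  classical
  obtain ⟨hlt, hc⟩ := h
  have e1 := codeg_add φ
  have e2 := codeg_add τ
  have hs : ∑ t, ((τ.1 t).val - (φ.1 t).val) = 1 := by
    have : ∑ t, ((τ.1 t).val - (φ.1 t).val) + sumVal φ = sumVal τ := by
      rw [sumVal, ← sum_add_distrib]
      exact sum_congr rfl fun t _ => Nat.sub_add_cancel (hlt.le t)
    omega
  obtain ⟨t, -, ht⟩ := exists_ne_zero_of_sum_ne_zero (hs.trans_ne one_ne_zero)
  rw [← add_sum_erase univ _ (mem_univ t)] at hs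
  refine ⟨t, ?_, fun s hst => ?_⟩
  · have : (φ.1 t).val ≤ (τ.1 t).val := hlt.le t
    omega
  · have h0 : ∑ s ∈ univ.erase t, ((τ.1 s).val - (φ.1 s).val) = 0 := by omega
    have h1 := Finset.sum_eq_zero_iff.1 h0 s (mem_erase.2 ⟨hst, mem_univ _⟩)
    have h2 : (φ.1 s).val ≤ (τ.1 s).val := hlt.le s
    exact Fin.ext (by omega)

theorem exists_decrement {t : Fin d} (h1 : 0 < (τ.1 t).val)
    (h2 : ∀ s : Fin d, s.val + 1 = t.val → (τ.1 s).val + 1 < (τ.1 t).val) :
    ∃ φ ∈ divisors τ, (φ.1 t).val + 1 = (τ.1 t).val := by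
  classical
  let v : Fin n := ⟨(τ.1 t).val - 1, by omega⟩
  let f : Fin d → Fin n := Function.update τ.1 t v
  have hf : StrictMono f := by
    intro a b hab
    rw [Fin.lt_def]
    simp only [f, Function.update_apply]
    split_ifs with ha hb hb
    · exact absurd (ha.trans hb.symm) hab.ne
    · subst ha
      have : (τ.1 a).val < (τ.1 b).val := τ.2 hab
      simp only [v]; omega
    · subst hb
      have h3 := h2 ⟨b.val - 1, by omega⟩ (by have : a.val < b.val := hab; simp only []; omega)
      have h4 : (τ.1 a).val ≤ (τ.1 ⟨b.val - 1, by omega⟩).val :=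
        τ.2.monotone (show a.val ≤ b.val - 1 by have : a.val < b.val := hab; omega)
      simp only [v]; omega
    · exact τ.2 hab
  let φ : Idx d n := ⟨f, hf⟩
  have hval : (φ.1 t).val + 1 = (τ.1 t).val := by simp [φ, f, v]; omega
  have hle : φ ≤ τ := fun s => by
    by_cases hs : s = t
    · subst hs; rw [Fin.le_def]; omega
    · simp [φ, f, Function.update_of_ne hs]
  refine ⟨φ, ⟨lt_of_le_of_ne hle fun e => by rw [e] at hval; omega, ?_⟩, hval⟩
  have e1 := codeg_add φ
  have e2 := codeg_add τ
  have : sumVal φ + 1 = sumVal τ := by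
    rw [sumVal, sumVal, ← add_sum_erase univ _ (mem_univ t),
      ← add_sum_erase univ (fun s => (τ.1 s).val) (mem_univ t)]
    have : ∑ s ∈ univ.erase t, (φ.1 s).val = ∑ s ∈ univ.erase t, (τ.1 s).val :=
      sum_congr rfl fun s hs => by simp [φ, f, Function.update_of_ne (mem_erase.1 hs).1]
    omega
  omega

theorem divisors_subsingleton_iff :
    (divisors τ).Subsingleton ↔ ∃ s : ℕ, (∀ t : Fin d, t.val < s → (τ.1 t).val = t.val) ∧
      ∀ t t' : Fin d, s ≤ t.val → t.val + 1 = t'.val → (τ.1 t).val + 1 = (τ.1 t').val := by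
  classical
  constructor
  · intro h
    by_cases hall : ∀ t : Fin d, (τ.1 t).val = t.val
    · exact ⟨d, fun t _ => hall t, fun t t' ht => by omega⟩
    push Not at hall
    obtain ⟨s, hs, hmin⟩ := Finset.exists_min_image (univ.filter fun t : Fin d => (τ.1 t).val ≠ t.val) id
      ⟨hall.choose, mem_filter.2 ⟨mem_univ _, hall.choose_spec⟩⟩
    replace hs : (τ.1 s).val ≠ s.val := (mem_filter.1 hs).2
    have hbefore : ∀ t : Fin d, t.val < s.val → (τ.1 t).val = t.val := fun t ht => by
      by_contra hc
      have := hmin t (mem_filter.2 ⟨mem_univ _, hc⟩)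
      exact absurd (Fin.le_def.1 this) (not_le.2 ht)
    have hsv := strictMono_val_le τ.2 s
    obtain ⟨φ0, hφ0, hv0⟩ := exists_decrement (τ := τ) (t := s) (by omega) (fun u hu => by
      rw [hbefore u (by omega)]; omega)
    refine ⟨s.val, hbefore, fun t t' ht htt => ?_⟩
    by_contra hne
    have hlt : (τ.1 t).val < (τ.1 t').val := τ.2 (show t.val < t'.val by omega)
    obtain ⟨φ1, hφ1, hv1⟩ := exists_decrement (τ := τ) (t := t') (by omega) (fun u hu => by
      obtain rfl : u = t := Fin.ext (by omega)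
      omega)
    obtain rfl := h hφ0 hφ1
    obtain ⟨u, hu, huo⟩ := exists_of_mem_divisors hφ0
    have h1 : u = s := by
      by_contra hc
      have := huo s (fun e => hc e.symm)
      rw [this] at hv0
      omega
    have h2 : u = t' := by
      by_contra hc
      have := huo t' (fun e => hc e.symm)
      rw [this] at hv1
      omega
    rw [h1] at h2
    have := congrArg Fin.val h2
    omega
  · rintro ⟨s, h1, h2⟩ a ha b hb
    have key : ∀ φ ∈ divisors τ, ∀ t, (φ.1 t).val + 1 = (τ.1 t).val →
        (∀ u ≠ t, φ.1 u = τ.1 u) → t.val = s := by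
      intro φ _ t ht hto
      have hts : s ≤ t.val := by
        by_contra hc
        have := h1 t (by omega)
        have := strictMono_val_le φ.2 t
        omega
      by_contra hne
      let p : Fin d := ⟨t.val - 1, by omega⟩
      have hp : p.val + 1 = t.val := by simp only [p]; omega
      have h3 := h2 p t (by omega) hp
      have h4 : φ.1 p < φ.1 t := φ.2 (show p.val < t.val by omega)
      rw [hto p (fun e => by rw [e] at hp; omega), Fin.lt_def] at h4
      omega
    obtain ⟨t, ht, hto⟩ := exists_of_mem_divisors ha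
    obtain ⟨t', ht', hto'⟩ := exists_of_mem_divisors hb
    obtain rfl : t = t' := Fin.ext ((key a ha t ht hto).trans (key b hb t' ht' hto').symm)
    apply Subtype.ext
    funext u
    by_cases hu : u = t
    · subst hu; exact Fin.ext (by omega)
    · rw [hto u hu, hto' u hu]

end Combinatorics

variable (K : Type u) [Field K] {d n : ℕ} (τ : Idx d n)

/-- Coordinates of the cell of `τ` in its Schubert variety. -/
abbrev CellVar : Type := {x : Fin n × Fin d // x.1 < τ.1 x.2 ∧ ∀ s, τ.1 s ≠ x.1}

/-- The cell matrix of `τ`. -/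
def schubertCell : Matrix (Fin n) (Fin d) (MvPolynomial (CellVar τ) K) :=
  open scoped Classical in
  Matrix.of fun i t =>
    if ∃ s, τ.1 s = i then (if τ.1 t = i then 1 else 0)
    else if h : i < τ.1 t ∧ ∀ s, τ.1 s ≠ i then X ⟨(i, t), h⟩ else 0

/-- Restriction to the cell of `τ`. -/
def cellPsi : PlRing K d n →ₐ[K] MvPolynomial (CellVar τ) K :=
  (aeval fun x : Fin n × Fin d => schubertCell K τ x.1 x.2).comp (pluckerMap K d n)

theorem cellPsi_coord (a : Fin d → Fin n) :
    cellPsi K τ (coord K d n a) = ((schubertCell K τ).submatrix a id).det := by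
  rw [cellPsi, AlgHom.comp_apply, pluckerMap_coord, W4bk4grassmannian.minor, AlgHom.map_det]
  congr 1
  refine Matrix.ext fun s t => ?_
  simp

theorem schubertCell_self : (schubertCell K τ).submatrix τ.1 id = 1 := by
  refine Matrix.ext fun s t => ?_
  have : ∃ u, τ.1 u = τ.1 s := ⟨s, rfl⟩
  simp [schubertCell, this, Matrix.one_apply, τ.2.injective.eq_iff, eq_comm]

theorem cellPsi_X_self : cellPsi K τ (X τ) = 1 := by
  rw [← coord_self, cellPsi_coord, schubertCell_self, Matrix.det_one]

theorem cellPsi_surjective : Function.Surjective (cellPsi K τ) := by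
  classical
  rw [← AlgHom.range_eq_top, eq_top_iff, ← MvPolynomial.adjoin_range_X, Algebra.adjoin_le_iff]
  rintro _ ⟨⟨⟨i, t⟩, hit⟩, rfl⟩
  refine ⟨coord K d n (Function.update τ.1 t i), ?_⟩
  show cellPsi K τ _ = _
  rw [cellPsi_coord, ← mul_adjugate_apply, schubertCell_self, Matrix.adjugate_one, Matrix.mul_one]
  have hno : ¬ ∃ s, τ.1 s = i := fun ⟨s, hs⟩ => hit.2 s hs
  simp only [schubertCell, Matrix.of_apply, if_neg hno]
  exact dif_pos hit

variable [Infinite K]

theorem mem_plD_of_cellPsi (hd : 0 < d) {g : PlRing K d n} {D : ℕ} (hg : g.IsHomogeneous D)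
    (h0 : cellPsi K τ g = 0) : g ∈ plD K (· ≤ τ) := by
  classical
  have hp := (compat_le τ).isPrime (K := K) hd
  refine (hp.mem_or_mem (x := X τ) ?_).resolve_left (X_notMem_plD_le hd τ)
  rw [← schubertVanishing_eq hd]
  simp only [schubertVanishing, Submodule.mem_iInf]
  intro A hA
  show evalMinors K d n A _ = 0
  rw [map_mul]
  by_cases hδ : (A.submatrix τ.1 id).det = 0
  · rw [evalMinors, aeval_X, hδ, zero_mul]
  set G := A.submatrix τ.1 id
  set C := A * G⁻¹
  have hC : A = C * G := by
    rw [Matrix.mul_assoc, Matrix.nonsing_inv_mul _ (isUnit_iff_ne_zero.2 hδ), Matrix.mul_one]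
  have hzero : ∀ i t, (∀ s, τ.1 s ≠ i) → τ.1 t < i → C i t = 0 := by
    intro i t hno hlt
    have h1 : (A * G.adjugate) i t = 0 := by
      rw [mul_adjugate_apply]
      have hinj : Function.Injective (Function.update τ.1 t i) := by
        intro a b hab
        simp only [Function.update_apply] at hab
        split_ifs at hab with h1 h2 h3
        · exact h1.trans h2.symm
        · exact absurd hab.symm (hno b)
        · exact absurd hab (hno a)
        · exact τ.2.injective hab
      have hcard := (card_image_eq_iff _).2 hinj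
      have hbad : ¬ sortIdx d n (Function.update τ.1 t i) hcard ≤ τ := by
        intro hle
        have h2 : ∑ s, ((sortIdx d n (Function.update τ.1 t i) hcard).1 s).val ≤ ∑ s, (τ.1 s).val :=
          sum_le_sum fun s _ => hle s
        rw [sum_sortIdx (Function.update τ.1 t i) hcard (fun x : Fin n => x.val)] at h2
        refine absurd h2 (not_le.2 (sum_lt_sum (fun s _ => ?_) ⟨t, mem_univ t, ?_⟩))
        · by_cases hs : s = t
          · subst hs; rw [Function.update_self]; exact le_of_lt hlt
          · rw [Function.update_of_ne hs]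
        · rw [Function.update_self]; exact hlt
      have h2 := hA _ hbad
      have h3 : evalMinors K d n A (coord K d n (Function.update τ.1 t i)) =
          (A.submatrix (Function.update τ.1 t i) id).det := by
        rw [← eval_pluckerMap, pluckerMap_coord, W4bk4grassmannian.minor, RingHom.map_det]
        congr 1
        refine Matrix.ext fun s u => ?_
        simp
      rw [← h3, coord, dif_pos hcard, map_mul, evalMinors, aeval_X, h2, mul_zero]
    show (A * G⁻¹) i t = 0
    rw [Matrix.inv_def, Matrix.mul_smul, Matrix.smul_apply, h1, smul_zero]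
  have hev : (schubertCell K τ).map (eval fun x : CellVar τ => C x.1.1 x.1.2) = C := by
    refine Matrix.ext fun i t => ?_
    by_cases hi : ∃ s, τ.1 s = i
    · obtain ⟨s, rfl⟩ := hi
      have h1 : (G * G⁻¹) s t = if τ.1 t = τ.1 s then 1 else 0 := by
        rw [Matrix.mul_nonsing_inv _ (isUnit_iff_ne_zero.2 hδ), Matrix.one_apply]
        simp [τ.2.injective.eq_iff, eq_comm]
      simp only [Matrix.map_apply, schubertCell, Matrix.of_apply,
        if_pos (show ∃ u, τ.1 u = τ.1 s from ⟨s, rfl⟩), apply_ite (eval _), map_one, map_zero, ← h1]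
      rfl
    · have hno : ∀ s, τ.1 s ≠ i := fun s hs => hi ⟨s, hs⟩
      simp only [Matrix.map_apply, schubertCell, Matrix.of_apply, if_neg hi]
      by_cases hlt : i < τ.1 t
      · rw [dif_pos ⟨hlt, hno⟩, eval_X]
      · rw [dif_neg (fun h => hlt h.1), map_zero,
          hzero i t hno (lt_of_le_of_ne (not_lt.1 hlt) (hno t))]
  have hg0 : evalMinors K d n C g = 0 := by
    have h1 := congrArg (eval fun x : CellVar τ => C x.1.1 x.1.2) h0
    rw [map_zero] at h1
    rw [← h1, ← eval_pluckerMap, cellPsi, AlgHom.comp_apply]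
    have e : ∀ f : MatRing K d n, eval (fun x : CellVar τ => C x.1.1 x.1.2)
        (aeval (fun x : Fin n × Fin d => schubertCell K τ x.1 x.2) f) = eval (fun x => C x.1 x.2) f := by
      intro f
      have : (MvPolynomial.aeval fun x : CellVar τ => C x.1.1 x.1.2).comp
          (aeval fun x : Fin n × Fin d => schubertCell K τ x.1 x.2) =
          MvPolynomial.aeval fun x : Fin n × Fin d => C x.1 x.2 := by
        apply MvPolynomial.algHom_ext
        intro x
        simp only [AlgHom.comp_apply, aeval_X]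
        conv_rhs => rw [← hev]
        simp [MvPolynomial.aeval_eq_eval]
      simpa [MvPolynomial.aeval_eq_eval] using DFunLike.congr_fun this f
    rw [e]
  conv_lhs => arg 2; rw [hC, evalMinors_mul _ _ hg, hg0]
  simp

omit [Infinite K] in
theorem sum_span_singleton_isPrime_iff (hd : 0 < d) :
    Prime (Ideal.Quotient.mk (plD K (· ≤ τ)) (X τ)) ↔ (plD K (fun θ => θ ≤ τ ∧ θ ≠ τ)).IsPrime := by
  have hne : Ideal.Quotient.mk (plD K (· ≤ τ)) (X τ) ≠ 0 := fun e =>
    X_notMem_plD_le hd τ (Ideal.Quotient.eq_zero_iff_mem.1 e)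
  rw [← plD_sup_span_singleton (· ≤ τ) τ, ← Ideal.span_singleton_prime hne,
    ← Set.image_singleton, ← Ideal.map_span]
  constructor
  · intro h
    have := h.comap (Ideal.Quotient.mk (plD K (· ≤ τ)))
    rwa [Ideal.comap_map_of_surjective _ Ideal.Quotient.mk_surjective, ← RingHom.ker_eq_comap_bot,
      Ideal.mk_ker, sup_comm] at this
  · intro h
    have e : (plD K (· ≤ τ) ⊔ Ideal.span {X τ}).map (Ideal.Quotient.mk (plD K (· ≤ τ))) =
        (Ideal.span {X τ}).map (Ideal.Quotient.mk (plD K (· ≤ τ))) := by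
      rw [Ideal.map_sup, Ideal.map_quotient_self, bot_sup_eq]
    rw [← e]
    exact Ideal.map_isPrime_of_surjective Ideal.Quotient.mk_surjective (by rw [Ideal.mk_ker]; exact le_sup_left)

omit [Infinite K] in
theorem prime_iff_subsingleton (hd : 0 < d) :
    Prime (Ideal.Quotient.mk (plD K (· ≤ τ)) (X τ)) ↔ (divisors τ).Subsingleton := by
  classical
  rw [sum_span_singleton_isPrime_iff K τ hd]
  have hJ : (divisors τ).Nonempty → (plD K (fun θ => θ ≤ τ ∧ θ ≠ τ)) = plD K (fun θ => ∃ φ ∈ divisors τ, θ ≤ φ) := by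
    intro _
    congr 1
    funext θ
    refine propext ⟨fun h => exists_divisor_ge (lt_of_le_of_ne h.1 h.2), fun ⟨φ, hφ, hle⟩ => ?_⟩
    have := hle.trans_lt hφ.1
    exact ⟨this.le, this.ne⟩
  constructor
  · intro h a ha b hb
    by_contra hab
    rw [hJ ⟨a, ha⟩] at h
    have hnm : ∀ x ∈ divisors τ, (X x : PlRing K d n) ∉ plD K (fun θ => ∃ φ ∈ divisors τ, θ ≤ φ) :=
      fun x hx hm => X_notMem_plD_le hd x (plD_anti K (fun θ hθ => ⟨x, hx, hθ⟩) hm)
    have hprod : (X a * X b : PlRing K d n) ∈ plD K (fun θ => ∃ φ ∈ divisors τ, θ ≤ φ) := by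
      have e : plD K (fun θ => ∃ φ ∈ divisors τ, θ ≤ φ) = J K (univ.filter fun σ => σ ∈ divisors τ) := by
        rw [J_eq_plD hd ⟨a, by simp [ha]⟩]
        congr 1
        funext θ
        simp [downS]
      rw [e]
      simp only [J, Submodule.mem_iInf]
      intro σ hσ
      have hσ' : σ ∈ divisors τ := (mem_filter.1 hσ).2
      by_cases h1 : a ≤ σ
      · refine Ideal.mul_mem_left _ _ (X_mem_plD K fun h2 => hab ?_)
        have e1 : a = σ := h1.lt_or_eq.resolve_left fun hlt => by
          have := codeg_lt hlt; have := ha.2; have := hσ'.2; omega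
        have e2 : b = σ := h2.lt_or_eq.resolve_left fun hlt => by
          have := codeg_lt hlt; have := hb.2; have := hσ'.2; omega
        exact e1.trans e2.symm
      · exact Ideal.mul_mem_right _ _ (X_mem_plD K h1)
    rcases h.mem_or_mem hprod with h1 | h1
    · exact hnm a ha h1
    · exact hnm b hb h1
  · intro h
    rcases (divisors τ).eq_empty_or_nonempty with he | ⟨a, ha⟩
    · have hq : (fun θ : Idx d n => θ ≤ τ ∧ θ ≠ τ) = fun _ => False := by
        funext θ
        refine propext ⟨fun hθ => ?_, False.elim⟩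
        obtain ⟨φ, hφ, -⟩ := exists_divisor_ge (lt_of_le_of_ne hθ.1 hθ.2)
        exact Set.eq_empty_iff_forall_notMem.1 he φ hφ
      rw [hq]
      exact Compat.isPrime (p := fun (_ : Fin n) (_ : Fin d) => False)
        ⟨fun _ _ _ => ⟨⟨0, hd⟩, id⟩, fun _ h => h.elim⟩ hd
    · rw [hJ ⟨a, ha⟩]
      have : (fun θ : Idx d n => ∃ φ ∈ divisors τ, θ ≤ φ) = (· ≤ a) := by
        funext θ
        exact propext ⟨fun ⟨φ, hφ, hle⟩ => h hφ ha ▸ hle, fun hle => ⟨a, ha, hle⟩⟩
      rw [this]
      exact (compat_le a).isPrime hd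

/-- `g ↦ ∑ cellPsi (g_i) s^i`. -/
def cellTheta : PlRing K d n →ₐ[K] Polynomial (MvPolynomial (CellVar τ) K) :=
  aeval fun θ => Polynomial.C (cellPsi K τ (X θ)) * Polynomial.X

omit [Infinite K] in
theorem cellTheta_homogeneous {g : PlRing K d n} {i : ℕ} (hg : g.IsHomogeneous i) :
    cellTheta K τ g = Polynomial.monomial i (cellPsi K τ g) := by
  classical
  rw [g.as_sum, map_sum, map_sum, map_sum]
  refine sum_congr rfl fun e he => ?_
  have hdeg : ∑ x ∈ e.support, e x = i := by
    have := hg (mem_support_iff.1 he)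
    simpa [Finsupp.weight_apply, Finsupp.sum] using this
  have h1 : cellTheta K τ (monomial e (coeff e g)) =
      algebraMap K _ (coeff e g) * ∏ x ∈ e.support, (Polynomial.C (cellPsi K τ (X x)) * Polynomial.X) ^ e x := by
    rw [cellTheta, aeval_monomial]; rfl
  have h2 : cellPsi K τ (monomial e (coeff e g)) =
      algebraMap K _ (coeff e g) * ∏ x ∈ e.support, cellPsi K τ (X x) ^ e x := by
    rw [monomial_eq, map_mul, ← MvPolynomial.algebraMap_eq, AlgHom.commutes, Finsupp.prod, map_prod]
    simp only [map_pow]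
  rw [h1, h2, ← Polynomial.C_mul_X_pow_eq_monomial, ← hdeg, ← prod_pow_eq_pow_sum, map_mul, map_prod]
  simp only [mul_pow, prod_mul_distrib, map_pow]
  rw [IsScalarTower.algebraMap_apply K (MvPolynomial (CellVar τ) K) (Polynomial (MvPolynomial (CellVar τ) K)),
    Polynomial.algebraMap_eq]
  ring

theorem ufd_of_prime (hd : 0 < d) (hp : Prime (Ideal.Quotient.mk (plD K (· ≤ τ)) (X τ))) :
    UniqueFactorizationMonoid (PlRing K d n ⧸ plD K (· ≤ τ)) := by
  classical
  have := (compat_le τ).isPrime (K := K) hd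
  have : IsDomain (PlRing K d n ⧸ plD K (· ≤ τ)) := Ideal.Quotient.isDomain _
  have hcomp : ∀ g : PlRing K d n, ∀ i,
      (cellTheta K τ g).coeff i = cellPsi K τ (homogeneousComponent i g) := by
    intro g i
    conv_lhs => rw [← sum_homogeneousComponent g, map_sum, Polynomial.finsetSum_coeff]
    simp only [cellTheta_homogeneous K τ (homogeneousComponent_isHomogeneous _ g), Polynomial.coeff_monomial]
    rw [sum_ite_eq']
    split_ifs with h
    · rfl
    · rw [homogeneousComponent_eq_zero _ _ (by simp at h; omega), map_zero]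
  have hker : RingHom.ker (cellTheta K τ).toRingHom = plD K (· ≤ τ) := by
    refine le_antisymm (fun g hg => ?_) ?_
    · rw [← sum_homogeneousComponent g]
      refine Ideal.sum_mem _ fun i _ => mem_plD_of_cellPsi K τ hd (homogeneousComponent_isHomogeneous i g) ?_
      rw [← hcomp, show cellTheta K τ g = 0 from hg, Polynomial.coeff_zero]
    · rw [plD, plIdealTop, sup_le_iff, Ideal.span_le, Ideal.span_le]
      refine ⟨?_, ?_⟩
      · rintro f ⟨i, j, r, -, rfl⟩
        show cellTheta K τ _ = 0
        rw [cellTheta_homogeneous K τ (isHomogeneous_shuffleRel K i j r), cellPsi, AlgHom.comp_apply,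
          pluckerMap_shuffleRel, map_zero, map_zero]
      · rintro f ⟨φ, hφ, rfl⟩
        show cellTheta K τ _ = 0
        rw [cellTheta_homogeneous K τ (isHomogeneous_X K φ), ← coord_self, cellPsi_coord, Matrix.det_apply']
        rw [sum_eq_zero, map_zero]
        intro σ _
        obtain ⟨t, ht⟩ := exists_bad_hi hφ σ⁻¹
        refine mul_eq_zero_of_right _ (prod_eq_zero (mem_univ (σ⁻¹ t)) ?_)
        simp only [Matrix.submatrix_apply, id, schubertCell, Matrix.of_apply, Equiv.Perm.coe_inv,
          Equiv.apply_symm_apply] at ht ⊢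
        split_ifs with h1 h2 h3
        · exact absurd h2.ge ht
        · rfl
        · exact absurd h3.1.le ht
        · rfl
  let φ : PlRing K d n ⧸ plD K (· ≤ τ) →+* Polynomial (MvPolynomial (CellVar τ) K) :=
    Ideal.Quotient.lift _ (cellTheta K τ).toRingHom fun x hx => hker.ge hx
  have hφ : Function.Injective φ := by
    rw [injective_iff_map_eq_zero]
    intro x hx
    obtain ⟨g, rfl⟩ := Ideal.Quotient.mk_surjective x
    rw [Ideal.Quotient.eq_zero_iff_mem, ← hker]
    exact hx
  have hx : φ (Ideal.Quotient.mk _ (X τ)) = Polynomial.X := by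
    show cellTheta K τ (X τ) = _
    rw [cellTheta_homogeneous K τ (isHomogeneous_X K τ), cellPsi_X_self, Polynomial.monomial_one_one_eq_X]
  refine ufd_of_prime_of_localEquiv φ hφ _ hp (hx ▸ Polynomial.prime_X) (fun f => ?_) (fun f hf => ?_)
  · induction f using Polynomial.induction_on' with
    | add a b ha hb =>
      obtain ⟨M, ra, hra⟩ := ha
      obtain ⟨N, rb, hrb⟩ := hb
      refine ⟨M + N, ra * Ideal.Quotient.mk _ (X τ) ^ N + rb * Ideal.Quotient.mk _ (X τ) ^ M, ?_⟩
      rw [map_add, map_mul, map_mul, map_pow, map_pow, hra, hrb, pow_add]; ring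
    | monomial j a =>
      obtain ⟨g, rfl⟩ := cellPsi_surjective K τ a
      refine ⟨g.totalDegree, Ideal.Quotient.mk _
        (∑ i ∈ range (g.totalDegree + 1), homogeneousComponent i g * X τ ^ (g.totalDegree + j - i)), ?_⟩
      show cellTheta K τ _ = _
      rw [hx, map_sum]
      conv_rhs => arg 2; rw [← sum_homogeneousComponent g, map_sum, map_sum]
      rw [mul_sum]
      refine sum_congr rfl fun i hi => ?_
      rw [map_mul, map_pow, cellTheta_homogeneous K τ (homogeneousComponent_isHomogeneous i g),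
        cellTheta_homogeneous K τ (isHomogeneous_X K τ), cellPsi_X_self, Polynomial.monomial_one_one_eq_X,
        Polynomial.monomial_mul_X_pow, Polynomial.X_pow_mul_monomial]
      congr 2
      simp at hi
      omega
  · obtain ⟨c, hc, rfl⟩ := Polynomial.isUnit_iff.1 hf
    obtain ⟨k, hk, rfl⟩ := MvPolynomial.isUnit_iff_eq_C_of_isReduced.1 hc
    refine ⟨algebraMap K _ k, hk.map _, ?_⟩
    show cellTheta K τ (algebraMap K _ k) = _
    rw [AlgHom.commutes]
    rfl

omit [Infinite K] in
theorem prime_of_ufd (hd : 0 < d) [UniqueFactorizationMonoid (PlRing K d n ⧸ plD K (· ≤ τ))] :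
    Prime (Ideal.Quotient.mk (plD K (· ≤ τ)) (X τ)) := by
  classical
  have := (compat_le τ).isPrime (K := K) hd
  have : IsDomain (PlRing K d n ⧸ plD K (· ≤ τ)) := Ideal.Quotient.isDomain _
  rw [← UniqueFactorizationMonoid.irreducible_iff_prime]
  set p : Fin n → Fin d → Prop := fun i t => i ≤ τ.1 t
  set ρ := phi K p
  have hz : ∀ g, ρ g = 0 ↔ Ideal.Quotient.mk (plD K (· ≤ τ)) g = 0 := fun g => by
    rw [Ideal.Quotient.eq_zero_iff_mem, ← (compat_le τ).ker_phi hd]
    exact Iff.rfl
  have hhom : ∀ {g : PlRing K d n} {i : ℕ}, g.IsHomogeneous i → (ρ g).IsHomogeneous (d * i) := by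
    intro g i hg
    have e : ρ = aeval fun θ => trunc K p (minor K d n θ.1) := by
      apply MvPolynomial.algHom_ext
      intro θ
      simp [ρ, phi_X]
    rw [e]
    refine hg.aeval _ fun θ => ?_
    rw [trunc_minor]
    refine IsHomogeneous.sum _ _ d fun σ _ => ?_
    rw [← map_intCast (C : K →+* MatRing K d n)]
    have h1 : (if ∀ t, p (θ.1 t) (σ t) then monomial (permExp θ.1 σ) (1 : K) else 0).IsHomogeneous d := by
      split_ifs
      · refine isHomogeneous_monomial _ ?_
        rw [permExp, map_sum]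
        simp
      · exact isHomogeneous_zero _ _ _
    simpa using (isHomogeneous_C (Fin n × Fin d) ((σ.sign : ℤ) : K)).mul h1
  have hsmall : ∀ g, (ρ g).totalDegree < d → ∃ c, ρ g = MvPolynomial.C c := by
    intro g hg
    refine ⟨coeff 0 (ρ g), ?_⟩
    have h0 : ∀ i, 1 ≤ i → ρ (homogeneousComponent i g) = 0 := by
      intro i hi
      have h1 : homogeneousComponent (d * i) (ρ g) = ρ (homogeneousComponent i g) := by
        conv_lhs => rw [← sum_homogeneousComponent g, map_sum, map_sum]
        simp only [homogeneousComponent_of_mem (hhom (homogeneousComponent_isHomogeneous _ g)),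
          Nat.mul_right_inj (Nat.ne_of_gt hd)]
        rw [sum_ite_eq]
        split_ifs with h
        · rfl
        · rw [homogeneousComponent_eq_zero _ _ (by simp at h; omega), map_zero]
      rw [← h1, homogeneousComponent_eq_zero]
      exact hg.trans_le (Nat.le_mul_of_pos_right d hi)
    have h1 : ρ g = ρ (homogeneousComponent 0 g) := by
      conv_lhs => rw [← sum_homogeneousComponent g, map_sum]
      rw [sum_eq_single 0]
      · exact fun b _ hb => h0 b (Nat.pos_of_ne_zero hb)
      · simp
    rw [h1, homogeneousComponent_zero, ← MvPolynomial.algebraMap_eq, AlgHom.commutes,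
      MvPolynomial.algebraMap_eq, coeff_zero_C]
  obtain ⟨e1, e2⟩ := trunc_minor_monic K p τ (fun t => le_rfl)
  rw [← phi_X] at e1 e2
  have hd1 : (ρ (X τ)).totalDegree = d := by
    have := (hhom (isHomogeneous_X K τ)).totalDegree (e2.ne_zero)
    rwa [mul_one] at this
  refine irreducible_iff.2 ⟨fun hu => ?_, fun a b hab => ?_⟩
  · obtain ⟨v, hv⟩ := hu.exists_right_inv
    obtain ⟨v, rfl⟩ := Ideal.Quotient.mk_surjective v
    have h1 : ρ (X τ * v - 1) = 0 := (hz _).2 (by rw [map_sub, map_mul, hv, map_one, sub_self])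
    rw [map_sub, map_mul, map_one, sub_eq_zero] at h1
    have h2 := totalDegree_mul_of_isDomain (f := ρ (X τ)) (g := ρ v) e2.ne_zero
      (fun e => by rw [e, mul_zero] at h1; exact zero_ne_one h1)
    rw [h1, totalDegree_one, hd1] at h2
    omega
  · obtain ⟨a, rfl⟩ := Ideal.Quotient.mk_surjective a
    obtain ⟨b, rfl⟩ := Ideal.Quotient.mk_surjective b
    have h1 : ρ (X τ - a * b) = 0 := (hz _).2 (by rw [map_sub, map_mul, hab, sub_self])
    rw [map_sub, map_mul, sub_eq_zero] at h1
    have ha : ρ a ≠ 0 := fun e => by rw [e, zero_mul] at h1; exact e2.ne_zero h1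
    have hb : ρ b ≠ 0 := fun e => by rw [e, mul_zero] at h1; exact e2.ne_zero h1
    have h2 := totalDegree_mul_of_isDomain ha hb
    rw [← h1, hd1] at h2
    have key : ∀ x, ρ x ≠ 0 → (ρ x).totalDegree < d → IsUnit (Ideal.Quotient.mk (plD K (· ≤ τ)) x) := by
      intro x hx hlt
      obtain ⟨c, hc⟩ := hsmall x hlt
      have h3 : Ideal.Quotient.mk (plD K (· ≤ τ)) x = Ideal.Quotient.mk _ (MvPolynomial.C c) := by
        rw [← sub_eq_zero, ← map_sub, ← hz, map_sub, hc,
          show ρ (MvPolynomial.C c) = MvPolynomial.C c from AlgHom.commutes ρ c, sub_self]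
      rw [h3]
      exact ((isUnit_iff_ne_zero.2 fun e => hx (by rw [hc, e, map_zero])).map MvPolynomial.C).map _
    by_cases hcase : (ρ a).totalDegree < d
    · exact Or.inl (key a ha hcase)
    · exact Or.inr (key b hb (by omega))

end GrothLib.SMT
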